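import Cfsg.Agent.FourTwo.Classes
import Cfsg.Agent.FourTwo.Cent
import Cfsg.Agent.FourTwo.Perf
import Cfsg.Agent.GTwoFour.TransferTL
import Cfsg.Agent.StdAlt.First
import Cfsg.Agent.Lib.ProductSet
import Cfsg.Agent.StandardComponent.CentCore
import Cfsg.Agent.F42.AllSys_m3
import Cfsg.Agent.S1054
import Cfsg.Agent.FourTwo.PairW
import Cfsg.Agent.FourTwo.CentAll
import Cfsg.Agent.FastGrp
import Cfsg.Agent.Prune
set_option linter.all false
prune_inst 0x7ffcfefbaff8addfffff7e7ffefddffffdfcffffffdffbfbfffdf3ffafdf6b6ffbe5fbafffecd8ff8ef6e29630f87b13fbffeeffef6bdd7ffffd5ff45ffbff9fedffbf8d51d6b83e1ffc6ffffbf37fbf7f3fffffffffffffffffffffffffffffffffffffffff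
open scoped Cfsg.Agent.FastGrp

-- part: FourTwo/ZTwo
section
/-!
Small commutator subgroups in `U` (`z_l = x 47`, `z_s = x 44`, `z_c = x 47 * x 44`):

* `surv`: search tree for the codes `e` with `c e c⁻¹ ∈ e · C` for the four simple generators `c`;
* `cen_U`: `u ∈ U`, `[u, U] ≤ ⟨z_c⟩` implies `u ∈ Z(U) = ⟨z_l, z_s⟩`;
* `cen_l`, `cen_s`: the `u ∈ U` with `[u, U] ≤ ⟨z_l⟩` (`⟨z_s⟩`) are `⟨z_l, z_s, x 46⟩` (`⟨z_l, z_s, x 40⟩`);
* `no_l`, `no_s`: if `[u, U] ≤ ⟨z_l, x 46 z_s⟩` then `[u, U] ≤ ⟨z_l⟩`; if `[u, U] ≤ ⟨z_s, x 40 z_l⟩` then `[u, U] ≤ ⟨z_s⟩`.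
-/

set_option autoImplicit false

namespace Cfsg.Agent.FourTwo.ZTwo

open Cfsg.Lie Cfsg.Agent.ChevalleyStructure.TwF4.Rel Cfsg.Agent.ChevalleyStructure.TwF4.Tables
open Cfsg.Agent.FourTwo.Base hiding bar bar_lt x_mul_self
open Cfsg.Agent.FourTwo.UCode (mulU conjU invU el)
open Cfsg.Agent.FourTwo.UMod Cfsg.Agent.FourTwo.Classes

/-- codes of the simple root elements -/
def gens : List ℕ := [1, 2, 8, 512]

/-- the test modulo `2 ^ k` -/
def tst (C : List ℕ) (k e : ℕ) : Bool :=
  gens.all fun c => C.any fun s => Nat.beq (conjU c e % 2 ^ k) (mulU e s % 2 ^ k)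

/-- the survivors modulo `2 ^ k` -/
def surv (C : List ℕ) : ℕ → List ℕ
  | 0 => [0]
  | k + 1 => ((surv C k).flatMap fun e => [e, e + 2 ^ k]).filter (tst C (k + 1))

theorem mod_succ (e k : ℕ) : e % 2 ^ (k + 1) = e % 2 ^ k ∨ e % 2 ^ (k + 1) = e % 2 ^ k + 2 ^ k := by
  have h := Nat.mod_pow_succ (b := 2) (k := k) (x := e)
  rw [h]
  rcases Nat.mod_two_eq_zero_or_one (e / 2 ^ k) with h1 | h1
  · left; rw [h1, mul_zero, add_zero]
  · right; rw [h1, mul_one]

theorem ec_el {a b : ℕ} (h : ec a = ec b) : el (ZMod 2) a = el (ZMod 2) b := by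
  rw [← coe_ec, ← coe_ec, h]

theorem surv_spec {C : List ℕ} {e : ℕ} (h : ∀ c ∈ gens, ∃ s ∈ C, ec c * ec e * (ec c)⁻¹ = ec e * ec s) :
    ∀ k, k ≤ 24 → e % 2 ^ k ∈ surv C k
  | 0, _ => by rw [pow_zero, Nat.mod_one]; exact List.mem_singleton.2 rfl
  | k + 1, hk => by
    have ih := surv_spec h k (by omega)
    unfold surv
    rw [List.mem_filter]
    refine ⟨List.mem_flatMap.2 ⟨_, ih, ?_⟩, ?_⟩
    · rcases mod_succ e k with h1 | h1
      · rw [h1]; exact List.mem_cons_self
      · rw [h1]; exact List.mem_cons_of_mem _ (List.mem_singleton.2 rfl)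
    · unfold tst
      rw [List.all_eq_true]
      intro c hc
      obtain ⟨s, hs, he⟩ := h c hc
      rw [List.any_eq_true]
      refine ⟨s, hs, ?_⟩
      have h0 : ec (conjU c e) = ec (mulU e s) := by rw [ec_conjU, ec_mulU, he]
      have h0' : el (ZMod 2) (conjU c e) = el (ZMod 2) (mulU e s) := ec_el h0
      have h2 : conjU c e % 2 ^ 24 = mulU e s % 2 ^ 24 := mod_24.1 h0'
      have hdvd : (2 : ℕ) ^ (k + 1) ∣ 2 ^ 24 := pow_dvd_pow 2 hk
      have h3 : conjU c e % 2 ^ (k + 1) = mulU e s % 2 ^ (k + 1) := by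
        rw [← Nat.mod_mod_of_dvd _ hdvd, h2, Nat.mod_mod_of_dvd _ hdvd]
      have h4 : conjU c (e % 2 ^ (k + 1)) % 2 ^ (k + 1) = conjU c e % 2 ^ (k + 1) :=
        conjU_mod hk c (Nat.mod_mod _ _)
      have h5 : mulU (e % 2 ^ (k + 1)) s % 2 ^ (k + 1) = mulU e s % 2 ^ (k + 1) :=
        mulU_mod hk (Nat.mod_mod _ _) rfl
      have h6 : conjU c (e % 2 ^ (k + 1)) % 2 ^ (k + 1) = mulU (e % 2 ^ (k + 1)) s % 2 ^ (k + 1) := by
        rw [h4, h5, h3]
      rw [h6]
      exact Nat.beq_refl _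

/-- every element of `U` with `[u, U] ≤ C` has a code among the survivors -/
theorem mem_surv {C : List ℕ} {u : LL} (hu : u ∈ BN.U)
    (h : ∀ g ∈ BN.U, ∃ s ∈ C, g * u * g⁻¹ = u * ec s) : ∃ e ∈ surv C 24, u = ec e := by
  obtain ⟨e, he, rfl⟩ := mem_UL_iff_ec.1 hu
  refine ⟨e, ?_, rfl⟩
  have h1 := surv_spec (C := C) (e := e) (fun c _ => h (ec c) (ec_mem_UL c)) 24 le_rfl
  rwa [Nat.mod_eq_of_lt he] at h1

private theorem _root_.Cfsg.Agent.KO213c67e.e0.{ku, kv} {α : Type kv} {M : List α → Sort ku} (φ : ∀ l, M l) {z : M List.nil} {s : ∀ a l, M l → M (List.cons a l)} (h0 : φ List.nil = z) (hs : ∀ a l, φ (List.cons a l) = s a l (φ l)) (l : List α) : φ l = @List.rec α M z s l := List.rec h0 (fun a l ih => (hs a l).trans (congrArg (s a l) ih)) l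
private noncomputable def _root_.Cfsg.Agent.KO213c67e.k1.{ku0} : type_of% @List.all.{ku0} := @(fun x0 x1 x2 => @List.rec.{(ku0+1), ku0} @x0 @(fun x3 => (@x0 → @Bool) → @Bool) @(fun x3 => @Bool.true) @(fun x3 x4 x5 x6 => @Bool.rec.{1} @(fun x7 => @Bool) @Bool.false (@x5 @x6) (@x6 @x3)) @x1 @x2)
private theorem _root_.Cfsg.Agent.KO213c67e.e1.{ku0} : @List.all.{ku0} = @_root_.Cfsg.Agent.KO213c67e.k1.{ku0} := by delta _root_.Cfsg.Agent.KO213c67e.k1; funext a0 a1 a2; refine (congrFun (_root_.Cfsg.Agent.KO213c67e.e0 (fun a1 a2 => @List.all.{ku0} a0 a1 a2) ?_ (fun c0 c1 => ?_) a1) a2 :) <;> (rfl')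
private theorem _root_.Cfsg.Agent.KO213c67e.e2.{ku} {M : Nat → Sort ku} (φ : ∀ n, M n) {z : M Nat.zero} {s : ∀ n, M n → M (Nat.succ n)} (h0 : φ Nat.zero = z) (hs : ∀ n, φ (Nat.succ n) = s n (φ n)) (n : Nat) : φ n = @Nat.rec M z s n := Nat.rec h0 (fun n ih => (hs n).trans (congrArg (s n) ih)) n
private noncomputable def _root_.Cfsg.Agent.KO213c67e.k3.{ku0} : type_of% @List.filter.{ku0} := @(fun x0 x1 x2 => @List.rec.{(ku0+1), ku0} @x0 @(fun x3 => @List.{ku0} @x0) [] @(fun x3 x4 x5 => @Bool.rec.{(ku0+1)} @(fun x6 => @List.{ku0} @x0) @x5 (@x3 :: @x5) (@x1 @x3)) @x2)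
private theorem _root_.Cfsg.Agent.KO213c67e.e3.{ku0} : @List.filter.{ku0} = @_root_.Cfsg.Agent.KO213c67e.k3.{ku0} := by delta _root_.Cfsg.Agent.KO213c67e.k3; funext a0 a1 a2; refine (_root_.Cfsg.Agent.KO213c67e.e0 (fun a2 => @List.filter.{ku0} a0 a1 a2) ?_ (fun c0 c1 => ?_) a2 :) <;> (rfl')
private noncomputable def _root_.Cfsg.Agent.KO213c67e.k4.{ku0} : type_of% @List.any.{ku0} := @(fun x0 x1 x2 => @List.rec.{(ku0+1), ku0} @x0 @(fun x3 => (@x0 → @Bool) → @Bool) @(fun x3 => @Bool.false) @(fun x3 x4 x5 x6 => @Bool.rec.{1} @(fun x7 => @Bool) (@x5 @x6) @Bool.true (@x6 @x3)) @x1 @x2)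
private theorem _root_.Cfsg.Agent.KO213c67e.e4.{ku0} : @List.any.{ku0} = @_root_.Cfsg.Agent.KO213c67e.k4.{ku0} := by delta _root_.Cfsg.Agent.KO213c67e.k4; funext a0 a1 a2; refine (congrFun (_root_.Cfsg.Agent.KO213c67e.e0 (fun a1 a2 => @List.any.{ku0} a0 a1 a2) ?_ (fun c0 c1 => ?_) a1) a2 :) <;> (rfl')
private noncomputable def _root_.Cfsg.Agent.KO213c67e.k5 : (by first | exact type_of% @Cfsg.Agent.FourTwo.UCode.force | exact Unit : Sort _) := by first | (refine @Subtype.val _ (fun g => @Cfsg.Agent.FourTwo.UCode.force = @g) (@Subtype.mk _ _ (@(fun x0 x1 x2 => @Nat.rec.{1} @(fun x3 => @x0) (@x2 (nat_lit 0)) @(fun x3 x4 => @x2 (@Nat.succ @x3)) @x1)) ?_); rfl') | exact @Cfsg.Agent.FourTwo.UCode.force | exact ()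
private theorem _root_.Cfsg.Agent.KO213c67e.e5 : (by first | exact @Cfsg.Agent.FourTwo.UCode.force = @_root_.Cfsg.Agent.KO213c67e.k5 | exact True : Prop) := by first | (delta _root_.Cfsg.Agent.KO213c67e.k5; exact @Subtype.property _ (fun g => @Cfsg.Agent.FourTwo.UCode.force = @g) _) | rfl | trivial
private noncomputable def _root_.Cfsg.Agent.KO213c67e.k6 : (by first | exact type_of% @Cfsg.Agent.FourTwo.UCode.insAll | exact Unit : Sort _) := by first | (refine @Subtype.val _ (fun g => @Cfsg.Agent.FourTwo.UCode.insAll = @g) (@Subtype.mk _ _ (@(fun x0 x1 x2 x3 => @List.rec.{1, 0} @Cfsg.Agent.FourTwo.UCode.Ent @(fun x4 => ℕ → ℕ) @(fun x4 => @x4) @(fun x4 x5 x6 x7 => @Bool.rec.{1} @(fun x8 => ℕ) (@Cfsg.Agent.KO213c67e.k5 _ (@x0 (@List.rec.{1, 0} ℕ @(fun x8 => ℕ → ℕ) @(fun x8 => @x8) @(fun x8 x9 x10 x11 => @Cfsg.Agent.KO213c67e.k5 _ (@x0 @x11 @x8) @x10) (@Prod.snd.{0, 0} _ _ (@Prod.snd.{0, 0} _ _ @x4)) @x7) (@Prod.fst.{0, 0} _ _ (@Prod.snd.{0, 0} _ _ @x4)))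 @x6) (@x6 @x7) (@Nat.beq (@Nat.land @x1 (@Prod.fst.{0, 0} _ _ @x4)) (nat_lit 0))) @x2 @x3)) ?_); rewrite [← Cfsg.Agent.KO213c67e.e5]; (try delta Cfsg.Agent.FourTwo.UCode.insAll); (try generalize @Cfsg.Agent.FourTwo.UCode.force = g0); rfl') | exact @Cfsg.Agent.FourTwo.UCode.insAll | exact ()
private theorem _root_.Cfsg.Agent.KO213c67e.e6 : (by first | exact @Cfsg.Agent.FourTwo.UCode.insAll = @_root_.Cfsg.Agent.KO213c67e.k6 | exact True : Prop) := by first | (delta _root_.Cfsg.Agent.KO213c67e.k6; exact @Subtype.property _ (fun g => @Cfsg.Agent.FourTwo.UCode.insAll = @g) _) | rfl | trivial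
private noncomputable def _root_.Cfsg.Agent.KO213c67e.k7 : (by first | exact type_of% @Cfsg.Agent.FourTwo.UCode.row | exact Unit : Sort _) := by first | (refine @Subtype.val _ (fun g => @Cfsg.Agent.FourTwo.UCode.row = @g) (@Subtype.mk _ _ (@(fun x0 => @Nat.rec.{1} @(fun x1 => (@List.{0} @Cfsg.Agent.FourTwo.UCode.Row) → @Cfsg.Agent.FourTwo.UCode.Row) @(fun x1 => @List.rec.{1, 0} @Cfsg.Agent.FourTwo.UCode.Row @(fun x2 => @Cfsg.Agent.FourTwo.UCode.Row) ((nat_lit 0, (nat_lit 0, (nat_lit 0, [])))) @(fun x2 x3 x4 => @x2) @x1) @(fun x1 x2 x3 => @List.rec.{1, 0} @Cfsg.Agent.FourTwo.UCode.Row @(fun x4 => @Cfsg.Agent.FourTwo.UCode.Row) ((nat_lit 0, (nat_lit 0, (nat_lit 0, [])))) @(fun x4 x5 x6 => @x2 @x5) @x3) @x0 @Cfsg.Agent.FourTwo.UCode.rows)) ?_); (try delta Cfsg.Agent.FourTwo.UCode.row); (try generalize @Cfsg.Agent.FourTwo.UCode.rows = g0); rfl') | exact @Cfsg.Agent.FourTwo.UCode.row | exact ()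
private theorem _root_.Cfsg.Agent.KO213c67e.e7 : (by first | exact @Cfsg.Agent.FourTwo.UCode.row = @_root_.Cfsg.Agent.KO213c67e.k7 | exact True : Prop) := by first | (delta _root_.Cfsg.Agent.KO213c67e.k7; exact @Subtype.property _ (fun g => @Cfsg.Agent.FourTwo.UCode.row = @g) _) | rfl | trivial
private noncomputable def _root_.Cfsg.Agent.KO213c67e.k8 : (by first | exact type_of% @Cfsg.Agent.FourTwo.UCode.mg | exact Unit : Sort _) := by first | (refine @Subtype.val _ (fun g => @Cfsg.Agent.FourTwo.UCode.mg = @g) (@Subtype.mk _ _ (@(fun x0 => @Nat.rec.{1} @(fun x1 => ℕ → ℕ → ℕ) @(fun x1 x2 => @x1) @(fun x1 x2 x3 x4 => @Cfsg.Agent.KO213c67e.k5 _ @x3 @(fun x5 => @Bool.rec.{1} @(fun x6 => ℕ) (@Cfsg.Agent.KO213c67e.k6 @x2 @x5 (@Prod.snd.{0, 0} _ _ (@Prod.snd.{0, 0} _ _ (@Prod.snd.{0, 0} _ _ (@Cfsg.Agent.KO213c67e.k7 @x4)))) (@Nat.xor (@Nat.mod @x5 (@Prod.fst.{0, 0} _ _ (@Prod.snd.{0, 0} _ _ (@Prod.snd.{0, 0} _ _ (@Cfsg.Agent.KO213c67e.k7 @x4))))) (@Prod.fst.{0,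 0} _ _ (@Cfsg.Agent.KO213c67e.k7 @x4)))) (@Nat.xor @x5 (@Prod.fst.{0, 0} _ _ (@Cfsg.Agent.KO213c67e.k7 @x4))) (@Nat.beq (@Nat.land @x5 (@Prod.fst.{0, 0} _ _ (@Prod.snd.{0, 0} _ _ (@Cfsg.Agent.KO213c67e.k7 @x4)))) (nat_lit 0)))) @x0)) ?_); rewrite [← Cfsg.Agent.KO213c67e.e7, ← Cfsg.Agent.KO213c67e.e6, ← Cfsg.Agent.KO213c67e.e5]; (try delta Cfsg.Agent.FourTwo.UCode.mg); (try generalize @Cfsg.Agent.FourTwo.UCode.force = g0); (try generalize @Cfsg.Agent.FourTwo.UCode.insAll = g1); (try generalize @Cfsg.Agent.FourTwo.UCode.row = g2); rfl') | exact @Cfsg.Agent.FourTwo.UCode.mg | exact ()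
private theorem _root_.Cfsg.Agent.KO213c67e.e8 : (by first | exact @Cfsg.Agent.FourTwo.UCode.mg = @_root_.Cfsg.Agent.KO213c67e.k8 | exact True : Prop) := by first | (delta _root_.Cfsg.Agent.KO213c67e.k8; exact @Subtype.property _ (fun g => @Cfsg.Agent.FourTwo.UCode.mg = @g) _) | rfl | trivial
private noncomputable def _root_.Cfsg.Agent.KO213c67e.k9 : (by first | exact type_of% @Cfsg.Agent.FourTwo.UCode.colF | exact Unit : Sort _) := by first | (refine @Subtype.val _ (fun g => @Cfsg.Agent.FourTwo.UCode.colF = @g) (@Subtype.mk _ _ (@(fun x0 x1 => @List.rec.{1, 0} ℕ @(fun x2 => ℕ → ℕ) @(fun x2 => @x2) @(fun x2 x3 x4 x5 => @Cfsg.Agent.KO213c67e.k5 _ (@Cfsg.Agent.KO213c67e.k8 (nat_lit 24) @x5 @x2) @x4) @x0 @x1)) ?_); rewrite [← Cfsg.Agent.KO213c67e.e8, ← Cfsg.Agent.KO213c67e.e5]; (try delta Cfsg.Agent.FourTwo.UCode.colF); (try generalize @Cfsg.Agent.FourTwo.UCode.force = g0); (try generalize @Cfsg.Agent.FourTwo.UCode.mg = g1); rfl') | exact @Cfsg.Agent.FourTwo.UCode.colF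 | exact ()
private theorem _root_.Cfsg.Agent.KO213c67e.e9 : (by first | exact @Cfsg.Agent.FourTwo.UCode.colF = @_root_.Cfsg.Agent.KO213c67e.k9 | exact True : Prop) := by first | (delta _root_.Cfsg.Agent.KO213c67e.k9; exact @Subtype.property _ (fun g => @Cfsg.Agent.FourTwo.UCode.colF = @g) _) | rfl | trivial
private noncomputable def _root_.Cfsg.Agent.KO213c67e.k10 : (by first | exact type_of% @Cfsg.Agent.FourTwo.UCode.letsL | exact Unit : Sort _) := by first | (refine @Subtype.val _ (fun g => @Cfsg.Agent.FourTwo.UCode.letsL = @g) (@Subtype.mk _ _ (@(fun x0 x1 => @List.rec.{1, 0} (ℕ × ℕ) @(fun x2 => @List.{0} ℕ) [] @(fun x2 x3 x4 => @Bool.rec.{1} @(fun x5 => @List.{0} ℕ) ((@Prod.snd.{0, 0} _ _ @x2) :: @x4) @x4 (@Nat.beq (@Nat.land @x0 (@Prod.fst.{0, 0} _ _ @x2)) (nat_lit 0))) @x1)) ?_); rfl') | exact @Cfsg.Agent.FourTwo.UCode.letsL | exact ()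
private theorem _root_.Cfsg.Agent.KO213c67e.e10 : (by first | exact @Cfsg.Agent.FourTwo.UCode.letsL = @_root_.Cfsg.Agent.KO213c67e.k10 | exact True : Prop) := by first | (delta _root_.Cfsg.Agent.KO213c67e.k10; exact @Subtype.property _ (fun g => @Cfsg.Agent.FourTwo.UCode.letsL = @g) _) | rfl | trivial
private noncomputable def _root_.Cfsg.Agent.KO213c67e.k11.{ku0} : type_of% @List.reverseAux.{ku0} := @(fun x0 x1 x2 => @List.rec.{(ku0+1), ku0} @x0 @(fun x3 => (@List.{ku0} @x0) → @List.{ku0} @x0) @(fun x3 => @x3) @(fun x3 x4 x5 x6 => @x5 (@x3 :: @x6)) @x1 @x2)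
private theorem _root_.Cfsg.Agent.KO213c67e.e11.{ku0} : @List.reverseAux.{ku0} = @_root_.Cfsg.Agent.KO213c67e.k11.{ku0} := by delta _root_.Cfsg.Agent.KO213c67e.k11; funext a0 a1 a2; refine (congrFun (_root_.Cfsg.Agent.KO213c67e.e0 (fun a1 a2 => @List.reverseAux.{ku0} a0 a1 a2) ?_ (fun c0 c1 => ?_) a1) a2 :) <;> (rfl')
private noncomputable def _root_.Cfsg.Agent.KO213c67e.k12 : (by first | exact type_of% @Cfsg.Agent.FourTwo.UCode.conjU | exact Unit : Sort _) := by first | (refine @Subtype.val _ (fun g => @Cfsg.Agent.FourTwo.UCode.conjU = @g) (@Subtype.mk _ _ (@(fun x0 x1 => @Cfsg.Agent.KO213c67e.k5 _ (@Cfsg.Agent.KO213c67e.k9 (@Cfsg.Agent.KO213c67e.k5 _ @x1 @(fun x2 => @Cfsg.Agent.KO213c67e.k10 @x2 @Cfsg.Agent.FourTwo.UCode.pw)) @x0) @(fun x2 => @Cfsg.Agent.KO213c67e.k9 (@Cfsg.Agent.KO213c67e.k11.{0} _ (@Cfsg.Agent.KO213c67e.k5 _ @x0 @(fun x3 => @Cfsg.Agent.KO213c67e.k10 @x3 @Cfsg.Agent.FourTwo.UCode.pw)) []) @x2))) ?_); rewrite [← Cfsg.Agent.KO213c67e.e11.{0},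 ← Cfsg.Agent.KO213c67e.e10, ← Cfsg.Agent.KO213c67e.e9, ← Cfsg.Agent.KO213c67e.e5]; (try delta Cfsg.Agent.FourTwo.UCode.conjU Cfsg.Agent.FourTwo.UCode.mulU Cfsg.Agent.FourTwo.UCode.lets); (try generalize @Cfsg.Agent.FourTwo.UCode.force = g0); (try generalize @Cfsg.Agent.FourTwo.UCode.colF = g1); (try generalize @Cfsg.Agent.FourTwo.UCode.letsL = g2); (try generalize @Cfsg.Agent.FourTwo.UCode.pw = g3); rfl') | exact @Cfsg.Agent.FourTwo.UCode.conjU | exact ()
private theorem _root_.Cfsg.Agent.KO213c67e.e12 : (by first | exact @Cfsg.Agent.FourTwo.UCode.conjU = @_root_.Cfsg.Agent.KO213c67e.k12 | exact True : Prop) := by first | (delta _root_.Cfsg.Agent.KO213c67e.k12; exact @Subtype.property _ (fun g => @Cfsg.Agent.FourTwo.UCode.conjU = @g) _) | rfl | trivial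
private noncomputable def _root_.Cfsg.Agent.KO213c67e.k13 : (by first | exact type_of% @Cfsg.Agent.FourTwo.ZTwo.tst | exact Unit : Sort _) := by first | (refine @Subtype.val _ (fun g => @Cfsg.Agent.FourTwo.ZTwo.tst = @g) (@Subtype.mk _ _ (@(fun x0 x1 x2 => @Cfsg.Agent.KO213c67e.k1.{0} _ @Cfsg.Agent.FourTwo.ZTwo.gens @(fun x3 => @Cfsg.Agent.KO213c67e.k4.{0} _ @x0 @(fun x4 => @Nat.beq (@Nat.mod (@Cfsg.Agent.KO213c67e.k12 @x3 @x2) (@Nat.pow (nat_lit 2) @x1)) (@Nat.mod (@Cfsg.Agent.KO213c67e.k9 (@Cfsg.Agent.KO213c67e.k5 _ @x4 @(fun x5 => @Cfsg.Agent.KO213c67e.k10 @x5 @Cfsg.Agent.FourTwo.UCode.pw)) @x2) (@Nat.pow (nat_lit 2) @x1)))))) ?_); rewrite [← Cfsg.Agent.KO213c67e.e10, ← Cfsg.Agent.KO213c67e.e5, ← Cfsg.Agent.KO213c67e.e9, ← Cfsg.Agent.KO213c67e.e12, ← Cfsg.Agent.KO213c67e.e4.{0}, ← Cfsg.Agent.KO213c67e.e1.{0}]; (try delta Cfsg.Agent.FourTwo.ZTwo.tst Cfsg.Agent.FourTwo.UCode.mulU Cfsg.Agent.FourTwo.UCode.lets); (try generalize @Cfsg.Agent.FourTwo.ZTwo.gens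 = g0); (try generalize @Cfsg.Agent.FourTwo.UCode.conjU = g1); (try generalize @Cfsg.Agent.FourTwo.UCode.colF = g2); (try generalize @Cfsg.Agent.FourTwo.UCode.force = g3); (try generalize @Cfsg.Agent.FourTwo.UCode.letsL = g4); (try generalize @Cfsg.Agent.FourTwo.UCode.pw = g5); rfl') | exact @Cfsg.Agent.FourTwo.ZTwo.tst | exact ()
private theorem _root_.Cfsg.Agent.KO213c67e.e13 : (by first | exact @Cfsg.Agent.FourTwo.ZTwo.tst = @_root_.Cfsg.Agent.KO213c67e.k13 | exact True : Prop) := by first | (delta _root_.Cfsg.Agent.KO213c67e.k13; exact @Subtype.property _ (fun g => @Cfsg.Agent.FourTwo.ZTwo.tst = @g) _) | rfl | trivial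
private noncomputable def _root_.Cfsg.Agent.KO213c67e.k14.{ku0} : type_of% @List.append.{ku0} := @(fun x0 x1 x2 => @List.rec.{(ku0+1), ku0} @x0 @(fun x3 => (@List.{ku0} @x0) → @List.{ku0} @x0) @(fun x3 => @x3) @(fun x3 x4 x5 x6 => @x3 :: (@x5 @x6)) @x1 @x2)
private theorem _root_.Cfsg.Agent.KO213c67e.e14.{ku0} : @List.append.{ku0} = @_root_.Cfsg.Agent.KO213c67e.k14.{ku0} := by delta _root_.Cfsg.Agent.KO213c67e.k14; funext a0 a1 a2; refine (congrFun (_root_.Cfsg.Agent.KO213c67e.e0 (fun a1 a2 => @List.append.{ku0} a0 a1 a2) ?_ (fun c0 c1 => ?_) a1) a2 :) <;> (rfl')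
private noncomputable def _root_.Cfsg.Agent.KO213c67e.k15.{ku0} : type_of% @List.flatten.{ku0} := @(fun x0 x1 => @List.rec.{(ku0+1), ku0} (@List.{ku0} @x0) @(fun x2 => @List.{ku0} @x0) [] @(fun x2 x3 x4 => @Cfsg.Agent.KO213c67e.k14.{ku0} _ @x2 @x4) @x1)
private theorem _root_.Cfsg.Agent.KO213c67e.e15.{ku0} : @List.flatten.{ku0} = @_root_.Cfsg.Agent.KO213c67e.k15.{ku0} := by delta _root_.Cfsg.Agent.KO213c67e.k15; rewrite [← Cfsg.Agent.KO213c67e.e14.{ku0}]; funext a0 a1; refine (_root_.Cfsg.Agent.KO213c67e.e0 (fun a1 => @List.flatten.{ku0} a0 a1) ?_ (fun c0 c1 => ?_) a1 :) <;> (rfl')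
private noncomputable def _root_.Cfsg.Agent.KO213c67e.k16.{ku0, ku1} : type_of% @List.map.{ku0, ku1} := @(fun x0 x1 x2 x3 => @List.rec.{(ku1+1), ku0} @x0 @(fun x4 => @List.{ku1} @x1) [] @(fun x4 x5 x6 => (@x2 @x4) :: @x6) @x3)
private theorem _root_.Cfsg.Agent.KO213c67e.e16.{ku0, ku1} : @List.map.{ku0, ku1} = @_root_.Cfsg.Agent.KO213c67e.k16.{ku0, ku1} := by delta _root_.Cfsg.Agent.KO213c67e.k16; funext a0 a1 a2 a3; refine (_root_.Cfsg.Agent.KO213c67e.e0 (fun a3 => @List.map.{ku0, ku1} a0 a1 a2 a3) ?_ (fun c0 c1 => ?_) a3 :) <;> (rfl')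
private noncomputable def _root_.Cfsg.Agent.KO213c67e.k17 : (by first | exact type_of% @Cfsg.Agent.FourTwo.ZTwo.surv | exact Unit : Sort _) := by first | (refine @Subtype.val _ (fun g => @Cfsg.Agent.FourTwo.ZTwo.surv = @g) (@Subtype.mk _ _ (@(fun x0 x1 => @Nat.rec.{1} @(fun x2 => @List.{0} ℕ) ((nat_lit 0) :: []) @(fun x2 x3 => @Cfsg.Agent.KO213c67e.k3.{0} _ (@Cfsg.Agent.KO213c67e.k13 @x0 (@Nat.add @x2 (nat_lit 1))) (@Cfsg.Agent.KO213c67e.k15.{0} _ (@Cfsg.Agent.KO213c67e.k16.{0, 0} _ _ @(fun x4 => @x4 :: ((@Nat.add @x4 (@Nat.pow (nat_lit 2) @x2)) :: [])) @x3))) @x1)) ?_); rewrite [← Cfsg.Agent.KO213c67e.e16.{0, 0}, ← Cfsg.Agent.KO213c67e.e15.{0}, ← Cfsg.Agent.KO213c67e.e13, ← Cfsg.Agent.KO213c67e.e3.{0}]; funext a0 a1; refine (_root_.Cfsg.Agent.KO213c67e.e2 (fun a1 => @Cfsg.Agent.FourTwo.ZTwo.surv a0 a1) ?_ (fun c0 => ?_) a1 :) <;> ((try delta Cfsg.Agent.FourTwo.ZTwo.surv Cfsg.Agent.FourTwo.ZTwo.surv._f); (try generalize @Cfsg.Agent.FourTwo.ZTwo.tst =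 g0); rfl')) | exact @Cfsg.Agent.FourTwo.ZTwo.surv | exact ()
private theorem _root_.Cfsg.Agent.KO213c67e.e17 : (by first | exact @Cfsg.Agent.FourTwo.ZTwo.surv = @_root_.Cfsg.Agent.KO213c67e.k17 | exact True : Prop) := by first | (delta _root_.Cfsg.Agent.KO213c67e.k17; exact @Subtype.property _ (fun g => @Cfsg.Agent.FourTwo.ZTwo.surv = @g) _) | rfl | trivial
private noncomputable def _root_.Cfsg.Agent.KO213c67e.k18.{ku0} : type_of% @List.elem.{ku0} := @(fun x0 x1 x2 x3 => @List.rec.{1, ku0} @x0 @(fun x4 => @Bool) @Bool.false @(fun x4 x5 x6 => @Bool.rec.{1} @(fun x7 => @Bool) @x6 @Bool.true (@BEq.beq.{ku0} _ @x1 @x2 @x4)) @x3)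
private theorem _root_.Cfsg.Agent.KO213c67e.e18.{ku0} : @List.elem.{ku0} = @_root_.Cfsg.Agent.KO213c67e.k18.{ku0} := by delta _root_.Cfsg.Agent.KO213c67e.k18; funext a0 a1 a2 a3; refine (_root_.Cfsg.Agent.KO213c67e.e0 (fun a3 => @List.elem.{ku0} a0 a1 a2 a3) ?_ (fun c0 c1 => ?_) a3 :) <;> (rfl')
private noncomputable def _root_.Cfsg.Agent.KO213c67e.k19.{ku0} : type_of% @List.contains.{ku0} := @(fun x0 x1 x2 x3 => @Cfsg.Agent.KO213c67e.k18.{ku0} _ @x1 @x3 @x2)
private theorem _root_.Cfsg.Agent.KO213c67e.e19.{ku0} : @List.contains.{ku0} = @_root_.Cfsg.Agent.KO213c67e.k19.{ku0} := by delta _root_.Cfsg.Agent.KO213c67e.k19; rewrite [← Cfsg.Agent.KO213c67e.e18.{ku0}]; rfl'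
private noncomputable def _root_.Cfsg.Agent.KO213c67e.k20 : type_of% @Nat.decEq := @(fun x0 x1 => @Bool.rec.{1} @(fun x2 => (@Eq.{1} _ (@Nat.beq @x0 @x1) @x2) → @Decidable (@Eq.{1} _ @x0 @x1)) @(fun x2 => @Decidable.isFalse _ (@Nat.ne_of_beq_eq_false _ _ @x2)) @(fun x2 => @Decidable.isTrue _ (@Nat.eq_of_beq_eq_true _ _ @x2)) (@Nat.beq @x0 @x1) (@Eq.refl.{1} _ (@Nat.beq @x0 @x1)))
private theorem _root_.Cfsg.Agent.KO213c67e.e20 : @Nat.decEq = @_root_.Cfsg.Agent.KO213c67e.k20 := by delta _root_.Cfsg.Agent.KO213c67e.k20; rfl'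
private noncomputable def _root_.Cfsg.Agent.KO213c67e.k21 : type_of% @instDecidableEqNat := @Cfsg.Agent.KO213c67e.k20
private theorem _root_.Cfsg.Agent.KO213c67e.e21 : @instDecidableEqNat = @_root_.Cfsg.Agent.KO213c67e.k21 := by delta _root_.Cfsg.Agent.KO213c67e.k21; rewrite [← Cfsg.Agent.KO213c67e.e20]; rfl'

theorem surv_c : ((surv [0, 9437184] 24).all fun e => [0, 1048576, 8388608, 9437184].contains e) = true := by
  (first | (rewrite [Cfsg.Agent.KO213c67e.e1.{0}, Cfsg.Agent.KO213c67e.e17, Cfsg.Agent.KO213c67e.e19.{0}, Cfsg.Agent.KO213c67e.e21]; decide +kernel) | decide +kernel)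

theorem surv_l : ((surv [0, 8388608] 24).all fun e =>
    [0, 1048576, 4194304, 5242880, 8388608, 9437184, 12582912, 13631488].contains e) = true := by (first | (rewrite [Cfsg.Agent.KO213c67e.e1.{0}, Cfsg.Agent.KO213c67e.e17, Cfsg.Agent.KO213c67e.e19.{0}, Cfsg.Agent.KO213c67e.e21]; decide +kernel) | decide +kernel)

theorem surv_l' : ((surv [0, 8388608, 5242880, 13631488] 24).all fun e =>
    [0, 1048576, 4194304, 5242880, 8388608, 9437184, 12582912, 13631488].contains e) = true := by (first | (rewrite [Cfsg.Agent.KO213c67e.e1.{0}, Cfsg.Agent.KO213c67e.e17, Cfsg.Agent.KO213c67e.e19.{0}, Cfsg.Agent.KO213c67e.e21]; decide +kernel) | decide +kernel)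

theorem surv_s : ((surv [0, 1048576] 24).all fun e =>
    [0, 65536, 1048576, 1114112, 8388608, 8454144, 9437184, 9502720].contains e) = true := by (first | (rewrite [Cfsg.Agent.KO213c67e.e1.{0}, Cfsg.Agent.KO213c67e.e17, Cfsg.Agent.KO213c67e.e19.{0}, Cfsg.Agent.KO213c67e.e21]; decide +kernel) | decide +kernel)

theorem surv_s' : ((surv [0, 1048576, 8454144, 9502720] 24).all fun e =>
    [0, 65536, 1048576, 1114112, 8388608, 8454144, 9437184, 9502720].contains e) = true := by (first | (rewrite [Cfsg.Agent.KO213c67e.e1.{0}, Cfsg.Agent.KO213c67e.e17, Cfsg.Agent.KO213c67e.e19.{0}, Cfsg.Agent.KO213c67e.e21]; decide +kernel) | decide +kernel)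

/-! ### group form -/

theorem ec_40 : x 40 = ec 65536 := by
  rw [x_eq_ec (by omega) (by omega), show 2 ^ (40 - 24) = 65536 by norm_num]

theorem ec_46 : x 46 = ec 4194304 := by
  rw [x_eq_ec (by omega) (by omega), show 2 ^ (46 - 24) = 4194304 by norm_num]

/-- the four elements of the centre of `U` -/
def ZU (u : LL) : Prop := u = 1 ∨ u = x 44 ∨ u = x 47 ∨ u = x 47 * x 44

theorem ec_zc : ec 9437184 = x 47 * x 44 := by
  rw [ec47, ec44, ← ec_mulU]
  congr 1
theorem ec_4 (a b : ℕ) (c : ℕ) (h : mulU a b = c) : ec c = ec a * ec b := by rw [← h, ec_mulU]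

theorem cen_c {u : LL} (hu : u ∈ BN.U) (h : ∀ g ∈ BN.U, g * u * g⁻¹ = u ∨ g * u * g⁻¹ = u * (x 47 * x 44)) : ZU u := by
  obtain ⟨e, he, rfl⟩ := mem_surv (C := [0, 9437184]) hu fun g hg => by
    rcases h g hg with h1 | h1
    · exact ⟨0, by simp, by rw [ec_zero, mul_one]; exact h1⟩
    · exact ⟨9437184, by simp, by rw [ec_zc]; exact h1⟩
  have h1 := surv_c
  rw [List.all_eq_true] at h1
  have h2 := h1 e he
  simp only [List.contains_eq_mem, List.mem_cons, List.not_mem_nil, or_false, decide_eq_true_eq] at h2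
  rcases h2 with rfl | rfl | rfl | rfl
  · exact Or.inl ec_zero
  · exact Or.inr (Or.inl ec44.symm)
  · exact Or.inr (Or.inr (Or.inl ec47.symm))
  · exact Or.inr (Or.inr (Or.inr ec_zc))

/-- `u ∈ Z(U)` or `u ∈ x 46 Z(U)` -/
def Zl (u : LL) : Prop := ZU u ∨ u = x 46 ∨ u = x 46 * x 44 ∨ u = x 46 * x 47 ∨ u = x 46 * (x 47 * x 44)

/-- `u ∈ Z(U)` or `u ∈ x 40 Z(U)` -/
def Zs (u : LL) : Prop := ZU u ∨ u = x 40 ∨ u = x 40 * x 44 ∨ u = x 40 * x 47 ∨ u = x 40 * (x 47 * x 44)

theorem l_codes {e : ℕ}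
    (h : [0, 1048576, 4194304, 5242880, 8388608, 9437184, 12582912, 13631488].contains e = true) : Zl (ec e) := by
  simp only [List.contains_eq_mem, List.mem_cons, List.not_mem_nil, or_false, decide_eq_true_eq] at h
  rcases h with rfl | rfl | rfl | rfl | rfl | rfl | rfl | rfl
  · exact Or.inl (Or.inl ec_zero)
  · exact Or.inl (Or.inr (Or.inl ec44.symm))
  · exact Or.inr (Or.inl ec_46.symm)
  · refine Or.inr (Or.inr (Or.inl ?_))
    rw [ec_46, ec44]
    exact ec_4 _ _ _ (by decide +kernel)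
  · exact Or.inl (Or.inr (Or.inr (Or.inl ec47.symm)))
  · exact Or.inl (Or.inr (Or.inr (Or.inr ec_zc)))
  · refine Or.inr (Or.inr (Or.inr (Or.inl ?_)))
    rw [ec_46, ec47]
    exact ec_4 _ _ _ (by decide +kernel)
  · refine Or.inr (Or.inr (Or.inr (Or.inr ?_)))
    rw [← ec_zc, ec_46]
    exact ec_4 _ _ _ (by decide +kernel)

theorem s_codes {e : ℕ}
    (h : [0, 65536, 1048576, 1114112, 8388608, 8454144, 9437184, 9502720].contains e = true) : Zs (ec e) := by
  simp only [List.contains_eq_mem, List.mem_cons, List.not_mem_nil, or_false, decide_eq_true_eq] at h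
  rcases h with rfl | rfl | rfl | rfl | rfl | rfl | rfl | rfl
  · exact Or.inl (Or.inl ec_zero)
  · exact Or.inr (Or.inl ec_40.symm)
  · exact Or.inl (Or.inr (Or.inl ec44.symm))
  · refine Or.inr (Or.inr (Or.inl ?_))
    rw [ec_40, ec44]
    exact ec_4 _ _ _ (by decide +kernel)
  · exact Or.inl (Or.inr (Or.inr (Or.inl ec47.symm)))
  · refine Or.inr (Or.inr (Or.inr (Or.inl ?_)))
    rw [ec_40, ec47]
    exact ec_4 _ _ _ (by decide +kernel)
  · exact Or.inl (Or.inr (Or.inr (Or.inr ec_zc)))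
  · refine Or.inr (Or.inr (Or.inr (Or.inr ?_)))
    rw [← ec_zc, ec_40]
    exact ec_4 _ _ _ (by decide +kernel)

/-- `[u, U] ≤ ⟨z_l⟩` -/
theorem cen_l {u : LL} (hu : u ∈ BN.U) (h : ∀ g ∈ BN.U, g * u * g⁻¹ = u ∨ g * u * g⁻¹ = u * x 47) : Zl u := by
  obtain ⟨e, he, rfl⟩ := mem_surv (C := [0, 8388608]) hu fun g hg => by
    rcases h g hg with h1 | h1
    · exact ⟨0, by simp, by rw [ec_zero, mul_one]; exact h1⟩
    · exact ⟨8388608, by simp, by rw [← ec47]; exact h1⟩
  have h1 := surv_l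
  rw [List.all_eq_true] at h1
  exact l_codes (h1 e he)

/-- `[u, U] ≤ ⟨z_s⟩` -/
theorem cen_s {u : LL} (hu : u ∈ BN.U) (h : ∀ g ∈ BN.U, g * u * g⁻¹ = u ∨ g * u * g⁻¹ = u * x 44) : Zs u := by
  obtain ⟨e, he, rfl⟩ := mem_surv (C := [0, 1048576]) hu fun g hg => by
    rcases h g hg with h1 | h1
    · exact ⟨0, by simp, by rw [ec_zero, mul_one]; exact h1⟩
    · exact ⟨1048576, by simp, by rw [← ec44]; exact h1⟩
  have h1 := surv_s
  rw [List.all_eq_true] at h1
  exact s_codes (h1 e he)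

/-- `[u, U] ≤ ⟨z_l, x 46 z_s⟩` -/
theorem cen_l' {u : LL} (hu : u ∈ BN.U) (h : ∀ g ∈ BN.U, g * u * g⁻¹ = u ∨ g * u * g⁻¹ = u * x 47 ∨
    g * u * g⁻¹ = u * (x 46 * x 44) ∨ g * u * g⁻¹ = u * (x 46 * (x 47 * x 44))) : Zl u := by
  obtain ⟨e, he, rfl⟩ := mem_surv (C := [0, 8388608, 5242880, 13631488]) hu fun g hg => by
    rcases h g hg with h1 | h1 | h1 | h1
    · exact ⟨0, by simp, by rw [ec_zero, mul_one]; exact h1⟩
    · exact ⟨8388608, by simp, by rw [← ec47]; exact h1⟩
    · refine ⟨5242880, by simp, ?_⟩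
      rw [h1, ec_46, ec44, ← ec_4 4194304 1048576 5242880 (by decide +kernel)]
    · refine ⟨13631488, by simp, ?_⟩
      rw [h1, ← ec_zc, ec_46, ← ec_4 4194304 9437184 13631488 (by decide +kernel)]
  have h1 := surv_l'
  rw [List.all_eq_true] at h1
  exact l_codes (h1 e he)

/-- `[u, U] ≤ ⟨z_s, x 40 z_l⟩` -/
theorem cen_s' {u : LL} (hu : u ∈ BN.U) (h : ∀ g ∈ BN.U, g * u * g⁻¹ = u ∨ g * u * g⁻¹ = u * x 44 ∨
    g * u * g⁻¹ = u * (x 40 * x 47) ∨ g * u * g⁻¹ = u * (x 40 * (x 47 * x 44))) : Zs u := by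
  obtain ⟨e, he, rfl⟩ := mem_surv (C := [0, 1048576, 8454144, 9502720]) hu fun g hg => by
    rcases h g hg with h1 | h1 | h1 | h1
    · exact ⟨0, by simp, by rw [ec_zero, mul_one]; exact h1⟩
    · exact ⟨1048576, by simp, by rw [← ec44]; exact h1⟩
    · refine ⟨8454144, by simp, ?_⟩
      rw [h1, ec_40, ec47, ← ec_4 65536 8388608 8454144 (by decide +kernel)]
    · refine ⟨9502720, by simp, ?_⟩
      rw [h1, ← ec_zc, ec_40, ← ec_4 65536 9437184 9502720 (by decide +kernel)]
  have h1 := surv_s'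
  rw [List.all_eq_true] at h1
  exact s_codes (h1 e he)

end Cfsg.Agent.FourTwo.ZTwo
end

-- part: F42/PatC
section
/-!
# The pattern `{z_c}` dies

`φ : LL →* G` injective, `t` an involution commuting with `φ`, `t ∉ φ(LL)`, `n` normalises `S₀ = ⟨t⟩ × φ(U)` and
`n t n⁻¹ = t φ(z_c)`, `z_c = x 47 * x 44`. Then `t` is conjugate to `t φ(x 47)` (`ty_long`) and to `t φ(x 44)` (`ty_short`).

Proof: `F u` = the `U`-component of `n φ(u) n⁻¹`. `F (x 47)` is central in `U`, not `1`, and not `z_c` by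
`ZTwo.cen_c`, so it is `z_l` or `z_s`. If it is `z_l`: `F (x 46) ∈ x 46 Z(U)`, and `t φ(x 46) ≁ t` gives
`F (x 46) ∈ x 46 {z_s, z_c}`, so `[F (x 45), U] = ⟨z_l, x 46 z_s⟩`, contradicting `ZTwo.cen_l'`. Same if it is `z_s`.
-/

set_option autoImplicit false

namespace Cfsg.Agent.F42.PatC

open Cfsg.Agent.FourTwo Cfsg.Agent.FourTwo.Base Cfsg.Agent.FourTwo.BN Cfsg.Agent.FourTwo.Comm
open Cfsg.Agent.FourTwo.ZTwo

/-! ### facts on `LL` -/

/-- a set of codes stable under conjugation by the 24 generators is stable under `U` -/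
theorem orbit {S : List ℕ} (h : (S.all fun e => (List.range 24).all fun j =>
    S.contains (UCode.conjU (2 ^ j) e % 2 ^ 24)) = true) {u : LL} (hu : u ∈ U) :
    ∀ e ∈ S, ∃ e' ∈ S, u * Classes.ec e * u⁻¹ = Classes.ec e' := by
  have key : ∀ r, 24 ≤ r → r < 48 → ∀ e ∈ S, ∃ e' ∈ S, x r * Classes.ec e * (x r)⁻¹ = Classes.ec e' := by
    intro r h1 h2 e he
    rw [List.all_eq_true] at h
    have h3 := h e he
    rw [List.all_eq_true] at h3
    have h4 := h3 (r - 24) (List.mem_range.2 (by omega))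
    rw [List.contains_iff_mem] at h4
    refine ⟨_, h4, ?_⟩
    rw [Classes.x_eq_ec h1 h2, ← Classes.ec_conjU]
    apply Subtype.ext
    rw [Classes.coe_ec, Classes.coe_ec, UMod.mod_24, Nat.mod_mod]
  rw [U_eq_closure] at hu
  refine Subgroup.closure_induction_left
    (p := fun (u : LL) _ => ∀ e ∈ S, ∃ e' ∈ S, u * Classes.ec e * u⁻¹ = Classes.ec e') ?_ ?_ ?_ hu
  · intro e he
    exact ⟨e, he, by rw [one_mul, inv_one, mul_one]⟩
  · rintro _ ⟨r, h1, h2, rfl⟩ y - ih e he
    obtain ⟨e', he', h3⟩ := ih e he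
    obtain ⟨e'', he'', h4⟩ := key r h1 h2 e' he'
    refine ⟨e'', he'', ?_⟩
    rw [← h4, ← h3]
    group
  · rintro _ ⟨r, h1, h2, rfl⟩ y - ih e he
    obtain ⟨e', he', h3⟩ := ih e he
    obtain ⟨e'', he'', h4⟩ := key r h1 h2 e' he'
    refine ⟨e'', he'', ?_⟩
    rw [← h4, ← h3, Base.x_inv]
    simp only [mul_inv_rev, Base.x_inv]
    simp only [mul_assoc]

theorem ec_16 {r : ℕ} (h : 24 ≤ r) (h' : r < 48) (e : ℕ) (he : 2 ^ (r - 24) = e) : x r = Classes.ec e := by
  rw [Classes.x_eq_ec h h', he]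

theorem central_44 {u : LL} (hu : u ∈ U) : u * x 44 * u⁻¹ = x 44 := by
  obtain ⟨e, he, h⟩ := orbit (S := [1048576]) (by decide +kernel) hu 1048576 (List.mem_singleton.2 rfl)
  rw [List.mem_singleton] at he
  rw [ec_16 (by omega) (by omega) 1048576 (by norm_num), h, he]

theorem central_47 {u : LL} (hu : u ∈ U) : u * x 47 * u⁻¹ = x 47 := by
  obtain ⟨e, he, h⟩ := orbit (S := [8388608]) (by decide +kernel) hu 8388608 (List.mem_singleton.2 rfl)
  rw [List.mem_singleton] at he
  rw [ec_16 (by omega) (by omega) 8388608 (by norm_num), h, he]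

theorem central_zc {u : LL} (hu : u ∈ U) : u * (x 47 * x 44) * u⁻¹ = x 47 * x 44 := by
  have e : u * (x 47 * x 44) * u⁻¹ = (u * x 47 * u⁻¹) * (u * x 44 * u⁻¹) := by group
  rw [e, central_47 hu, central_44 hu]

theorem zU_central {z : LL} (hz : ZU z) {u : LL} (hu : u ∈ U) : u * z * u⁻¹ = z := by
  rcases hz with rfl | rfl | rfl | rfl
  · rw [mul_one, mul_inv_cancel]
  · exact central_44 hu
  · exact central_47 hu
  · exact central_zc hu

/-- `[x 46, U] ≤ ⟨z_l⟩` -/
theorem conj_46 {u : LL} (hu : u ∈ U) : u * x 46 * u⁻¹ = x 46 ∨ u * x 46 * u⁻¹ = x 46 * x 47 := by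
  obtain ⟨e, he, h⟩ := orbit (S := [4194304, 12582912]) (by decide +kernel) hu 4194304 (by simp)
  rw [ec_46, h]
  simp only [List.mem_cons, List.not_mem_nil, or_false] at he
  rcases he with rfl | rfl
  · exact Or.inl rfl
  · right
    rw [Classes.ec47]
    exact ec_4 _ _ _ (by decide +kernel)

/-- `[x 45, U] ≤ ⟨z_l, x 46⟩` -/
theorem conj_45 {u : LL} (hu : u ∈ U) : u * x 45 * u⁻¹ = x 45 ∨ u * x 45 * u⁻¹ = x 45 * x 47 ∨
    u * x 45 * u⁻¹ = x 45 * x 46 ∨ u * x 45 * u⁻¹ = x 45 * (x 46 * x 47) := by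
  obtain ⟨e, he, h⟩ := orbit (S := [2097152, 10485760, 6291456, 14680064]) (by decide +kernel) hu 2097152 (by simp)
  rw [ec_16 (r := 45) (by omega) (by omega) 2097152 (by norm_num), h]
  simp only [List.mem_cons, List.not_mem_nil, or_false] at he
  rcases he with rfl | rfl | rfl | rfl
  · exact Or.inl rfl
  · right; left
    rw [Classes.ec47]
    exact ec_4 _ _ _ (by decide +kernel)
  · right; right; left
    rw [ec_46]
    exact ec_4 _ _ _ (by decide +kernel)
  · right; right; right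
    rw [ec_46, Classes.ec47, ← ec_4 4194304 8388608 12582912 (by decide +kernel)]
    exact ec_4 _ _ _ (by decide +kernel)

theorem rel_24 : x 24 * x 46 * (x 24)⁻¹ = x 46 * x 47 := by
  have h : wd [24, 46, 24] = wd [46, 47] := wd_eq _ _ (by decide +kernel)
  rw [wd_cons, wd_cons, wd_one, wd_cons, wd_one] at h
  rw [Base.x_inv, mul_assoc, h]

theorem rel_25 : x 25 * x 45 * (x 25)⁻¹ = x 45 * x 46 := by
  have h : wd [25, 45, 25] = wd [45, 46] := wd_eq _ _ (by decide +kernel)
  rw [wd_cons, wd_cons, wd_one, wd_cons, wd_one] at h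
  rw [Base.x_inv, mul_assoc, h]

/-- `z_c ~ x 46 z_s` -/
theorem conj_a : n 3 * (x 47 * x 44) * (n 3)⁻¹ = x 46 * x 44 := by
  have h : wd [24, 23, 24, 47, 44] = wd [46, 44, 24, 23, 24] := wd_eq _ _ (by decide +kernel)
  have e0 : n 3 = wd [24, 23, 24] := n_eq_wd 3
  have e1 : wd [24, 23, 24, 47, 44] = n 3 * (x 47 * x 44) := by
    rw [e0, show ([24, 23, 24, 47, 44] : List ℕ) = [24, 23, 24] ++ [47, 44] from rfl, wd_append, wd_cons 47, wd_one]
  have e2 : wd [46, 44, 24, 23, 24] = x 46 * x 44 * n 3 := by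
    rw [e0, show ([46, 44, 24, 23, 24] : List ℕ) = [46, 44] ++ [24, 23, 24] from rfl, wd_append, wd_cons 46, wd_one]
  rw [← e1, h, e2, mul_inv_cancel_right]

/-- `x 46 z_s ~ x 46 z_c` -/
theorem conj_b : x 24 * (x 46 * x 44) * (x 24)⁻¹ = x 46 * (x 47 * x 44) := by
  have h : wd [24, 46, 44, 24] = wd [46, 47, 44] := wd_eq _ _ (by decide +kernel)
  rw [wd_cons, wd_cons, wd_cons, wd_one, wd_cons, wd_cons, wd_one] at h
  rw [Base.x_inv, ← h]
  simp only [mul_assoc]

/-- `z_c ~ x 40 z_l` -/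
theorem conj_c : n 0 * (x 47 * x 44) * (n 0)⁻¹ = x 40 * x 47 := by
  have h : wd [33, 14, 33, 47, 44] = wd [40, 47, 33, 14, 33] := wd_eq _ _ (by decide +kernel)
  have e0 : n 0 = wd [33, 14, 33] := n_eq_wd 0
  have e1 : wd [33, 14, 33, 47, 44] = n 0 * (x 47 * x 44) := by
    rw [e0, show ([33, 14, 33, 47, 44] : List ℕ) = [33, 14, 33] ++ [47, 44] from rfl, wd_append, wd_cons 47, wd_one]
  have e2 : wd [40, 47, 33, 14, 33] = x 40 * x 47 * n 0 := by
    rw [e0, show ([40, 47, 33, 14, 33] : List ℕ) = [40, 47] ++ [33, 14, 33] from rfl, wd_append, wd_cons 40, wd_one]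
  rw [← e1, h, e2, mul_inv_cancel_right]

/-- `x 40 z_l ~ x 40 z_c` -/
theorem conj_d : x 33 * (x 40 * x 47) * (x 33)⁻¹ = x 40 * (x 47 * x 44) := by
  have h : wd [33, 40, 47, 33] = wd [40, 47, 44] := wd_eq _ _ (by decide +kernel)
  rw [wd_cons, wd_cons, wd_cons, wd_one, wd_cons, wd_cons, wd_one] at h
  rw [Base.x_inv, ← h]
  simp only [mul_assoc]

/-! ### the argument -/

section

variable {G : Type*} [Group G] {φ : LL →* G} {t n : G}

/-- the two elements `φ u`, `t φ u` of `S₀` over `u` -/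
def Pr (φ : LL →* G) (t : G) (g : G) (u : LL) : Prop := g = φ u ∨ g = t * φ u

/-- membership in `S₀ = ⟨t⟩ × φ(U)` -/
def InS (φ : LL →* G) (t : G) (g : G) : Prop := ∃ u ∈ U, Pr φ t g u

variable (hφ : Function.Injective φ) (htt : t * t = 1) (htc : ∀ l, t * φ l = φ l * t) (hne : ∀ l, t ≠ φ l)

include hφ hne in
theorem Pr.unique {g : G} {u v : LL} (h : Pr φ t g u) (h' : Pr φ t g v) : u = v := by
  rcases h with h | h <;> rcases h' with h' | h'
  · exact hφ (h.symm.trans h')
  · exfalso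
    apply hne (u * v⁻¹)
    rw [map_mul, map_inv, ← h, h', mul_inv_cancel_right]
  · exfalso
    apply hne (v * u⁻¹)
    rw [map_mul, map_inv, ← h', h, mul_inv_cancel_right]
  · exact hφ (mul_left_cancel (h.symm.trans h'))

include htt htc in
theorem Pr.mul {g g' : G} {u v : LL} (h : Pr φ t g u) (h' : Pr φ t g' v) : Pr φ t (g * g') (u * v) := by
  rcases h with rfl | rfl <;> rcases h' with rfl | rfl
  · exact Or.inl (map_mul φ u v).symm
  · right
    rw [map_mul, ← mul_assoc, ← htc, mul_assoc]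
  · right
    rw [map_mul, mul_assoc]
  · left
    calc t * φ u * (t * φ v) = t * (φ u * t) * φ v := by simp only [mul_assoc]
      _ = t * (t * φ u) * φ v := by rw [htc]
      _ = (t * t) * (φ u * φ v) := by simp only [mul_assoc]
      _ = φ (u * v) := by rw [htt, one_mul, map_mul]

include htt htc in
theorem Pr.inv {g : G} {u : LL} (h : Pr φ t g u) : Pr φ t g⁻¹ u⁻¹ := by
  have hti : t⁻¹ = t := inv_eq_of_mul_eq_one_left htt
  rcases h with rfl | rfl
  · exact Or.inl (map_inv φ u).symm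
  · right
    rw [mul_inv_rev, hti, ← map_inv, htc]

/-- the data attached to an element normalising `S₀` -/
structure Dat (φ : LL →* G) (t n : G) (F : LL → LL) : Prop where
  memU : ∀ u ∈ U, F u ∈ U
  pr : ∀ u ∈ U, Pr φ t (n * φ u * n⁻¹) (F u)
  mul : ∀ u ∈ U, ∀ v ∈ U, F (u * v) = F u * F v
  inv : ∀ u ∈ U, F u⁻¹ = (F u)⁻¹
  surj : ∀ g ∈ U, ∃ v ∈ U, ∀ w ∈ U, g * w * g⁻¹ = F v * w * (F v)⁻¹

include hφ htt htc hne in
theorem exists_dat (hn : ∀ g, InS φ t g → InS φ t (n * g * n⁻¹)) (hn' : ∀ g, InS φ t g → InS φ t (n⁻¹ * g * n))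
    (hnt : n * t * n⁻¹ = t * φ (x 47 * x 44)) : ∃ F : LL → LL, Dat φ t n F := by
  classical
  have h0 : ∀ u : LL, ∃ v : LL, u ∈ U → v ∈ U ∧ Pr φ t (n * φ u * n⁻¹) v := by
    intro u
    by_cases hu : u ∈ U
    · obtain ⟨v, hv, h⟩ := hn (φ u) ⟨u, hu, Or.inl rfl⟩
      exact ⟨v, fun _ => ⟨hv, h⟩⟩
    · exact ⟨1, fun h => absurd h hu⟩
  choose F hF using h0
  have hmul : ∀ u ∈ U, ∀ v ∈ U, F (u * v) = F u * F v := by
    intro u hu v hv
    refine Pr.unique hφ hne (hF (u * v) (mul_mem hu hv)).2 ?_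
    have h1 := Pr.mul htt htc (hF u hu).2 (hF v hv).2
    have e : n * φ u * n⁻¹ * (n * φ v * n⁻¹) = n * φ (u * v) * n⁻¹ := by rw [map_mul]; group
    rwa [e] at h1
  refine ⟨F, fun u hu => (hF u hu).1, fun u hu => (hF u hu).2, hmul, ?_, ?_⟩
  · intro u hu
    have h1 := hmul u hu u⁻¹ (inv_mem hu)
    have h2 := hmul 1 (one_mem _) 1 (one_mem _)
    rw [mul_one, left_eq_mul] at h2
    rw [mul_inv_cancel, h2] at h1
    rw [eq_inv_iff_mul_eq_one]
    have h3 := hmul u⁻¹ (inv_mem hu) u hu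
    rw [inv_mul_cancel, h2] at h3
    rw [← h3]
  · intro g hg
    obtain ⟨v, hv, h⟩ := hn' (φ g) ⟨g, hg, Or.inl rfl⟩
    refine ⟨v, hv, fun w hw => ?_⟩
    rcases h with h | h
    · have h1 : Pr φ t (n * φ v * n⁻¹) g := by
        left
        rw [← h]
        group
      rw [Pr.unique hφ hne h1 (hF v hv).2]
    · have h2 : φ g = t * φ (x 47 * x 44) * (n * φ v * n⁻¹) := by
        rw [← hnt]
        calc φ g = n * (n⁻¹ * φ g * n) * n⁻¹ := by group
          _ = n * (t * φ v) * n⁻¹ := by rw [h]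
          _ = _ := by group
      have h3 : Pr φ t (t * φ (x 47 * x 44) * (n * φ v * n⁻¹)) (x 47 * x 44 * F v) :=
        Pr.mul htt htc (Or.inr rfl) (hF v hv).2
      have h4 : g = x 47 * x 44 * F v := Pr.unique hφ hne (Or.inl h2.symm) h3
      have h5 := central_zc (mul_mem (mul_mem (hF v hv).1 hw) (inv_mem (hF v hv).1))
      have hc : ∀ u ∈ U, x 47 * x 44 * u * (x 47 * x 44)⁻¹ = u := by
        intro u hu
        have h6 := central_zc hu
        rw [mul_inv_eq_iff_eq_mul] at h6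
        rw [← h6, mul_inv_cancel_right]
      rw [h4]
      have e : x 47 * x 44 * F v * w * (x 47 * x 44 * F v)⁻¹ =
          x 47 * x 44 * (F v * w * (F v)⁻¹) * (x 47 * x 44)⁻¹ := by group
      rw [e, hc _ (mul_mem (mul_mem (hF v hv).1 hw) (inv_mem (hF v hv).1))]

omit hφ hne in
include htt htc in
theorem Pr.comm {g h : G} {u v : LL} (h1 : Pr φ t g u) (h2 : Pr φ t h v) :
    g * h * g⁻¹ * h⁻¹ = φ (u * v * u⁻¹ * v⁻¹) := by
  have hti : t⁻¹ = t := inv_eq_of_mul_eq_one_left htt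
  have hc : ∀ u v : LL, t * φ u * φ v * (t * φ u)⁻¹ = φ (u * v * u⁻¹) := by
    intro u v
    rw [map_mul, map_mul, map_inv, mul_inv_rev, hti]
    calc t * φ u * φ v * ((φ u)⁻¹ * t) = t * (φ u * φ v * (φ u)⁻¹) * t := by group
      _ = t * (φ (u * v * u⁻¹) * t) := by rw [map_mul, map_mul, map_inv]; simp only [mul_assoc]
      _ = t * (t * φ (u * v * u⁻¹)) := by rw [htc]
      _ = _ := by rw [← mul_assoc, htt, one_mul, map_mul, map_mul, map_inv]
  rcases h1 with rfl | rfl <;> rcases h2 with rfl | rfl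
  · simp only [map_mul, map_inv]
  · have e : φ u * (t * φ v) * (φ u)⁻¹ * (t * φ v)⁻¹ = t * (φ (u * v * u⁻¹ * v⁻¹) * t) := by
      simp only [map_mul, map_inv, mul_inv_rev, hti]
      calc φ u * (t * φ v) * (φ u)⁻¹ * ((φ v)⁻¹ * t) = (φ u * t) * φ v * (φ u)⁻¹ * (φ v)⁻¹ * t := by
            simp only [mul_assoc]
        _ = _ := by rw [← htc]; simp only [mul_assoc]
    rw [e, ← htc, ← mul_assoc, htt, one_mul]
  · rw [hc, ← map_inv, ← map_mul]
  · have e : t * φ u * (t * φ v) * (t * φ u)⁻¹ * (t * φ v)⁻¹ =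
        t * φ u * φ v * (t * φ u)⁻¹ * (φ v)⁻¹ := by
      have e1 : t * φ u * (t * φ v) = t * (t * φ u * φ v) := by
        rw [← mul_assoc (t * φ u), mul_assoc t (φ u) t, ← htc]
        simp only [mul_assoc]
      rw [e1, mul_inv_rev (t) (φ v), hti]
      have e2 : t * φ u * φ v * (t * φ u)⁻¹ * (φ v)⁻¹ = φ (u * v * u⁻¹ * v⁻¹) := by
        rw [hc, ← map_inv, ← map_mul]
      calc t * (t * φ u * φ v) * (t * φ u)⁻¹ * ((φ v)⁻¹ * t)
          = t * ((t * φ u * φ v * (t * φ u)⁻¹ * (φ v)⁻¹) * t) := by simp only [mul_assoc]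
        _ = t * (t * (t * φ u * φ v * (t * φ u)⁻¹ * (φ v)⁻¹)) := by rw [e2, ← htc]
        _ = _ := by rw [← mul_assoc, htt, one_mul]
    rw [e, hc, ← map_inv, ← map_mul]

namespace Dat

variable {F : LL → LL} (d : Dat φ t n F)

include d

theorem one : F 1 = 1 := by
  have h2 := d.mul 1 (one_mem _) 1 (one_mem _)
  rwa [mul_one, left_eq_mul] at h2

theorem conj {u v : LL} (hu : u ∈ U) (hv : v ∈ U) : F (v * u * v⁻¹) = F v * F u * (F v)⁻¹ := by
  rw [d.mul _ (mul_mem hv hu) _ (inv_mem hv), d.mul _ hv _ hu, d.inv _ hv]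

/-- conjugates of `F u` in `U` are images of conjugates of `u` -/
theorem exists_conj {u g : LL} (hu : u ∈ U) (hg : g ∈ U) : ∃ v ∈ U, g * F u * g⁻¹ = F (v * u * v⁻¹) := by
  obtain ⟨v, hv, h⟩ := d.surj g hg
  exact ⟨v, hv, by rw [h _ (d.memU u hu), d.conj hu hv]⟩

omit d in
include htt htc in
theorem exact (d : Dat φ t n F) {a b : LL} (ha : a ∈ U) (hb : b ∈ U) :
    n * φ (a * b * a⁻¹ * b⁻¹) * n⁻¹ = φ (F (a * b * a⁻¹ * b⁻¹)) := by
  have h1 := Pr.comm htt htc (d.pr a ha) (d.pr b hb)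
  have e : F (a * b * a⁻¹ * b⁻¹) = F a * F b * (F a)⁻¹ * (F b)⁻¹ := by
    rw [d.mul _ (mul_mem (mul_mem ha hb) (inv_mem ha)) _ (inv_mem hb), d.mul _ (mul_mem ha hb) _ (inv_mem ha),
      d.mul _ ha _ hb, d.inv _ ha, d.inv _ hb]
  rw [e, ← h1]
  simp only [map_mul, map_inv]
  group

end Dat

theorem e4644 : x 46 * x 44 = Classes.ec 5242880 := by
  rw [ec_46, Classes.ec44]; exact (ec_4 _ _ _ (by decide +kernel)).symm
theorem e4647 : x 46 * x 47 = Classes.ec 12582912 := by
  rw [ec_46, Classes.ec47]; exact (ec_4 _ _ _ (by decide +kernel)).symm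
theorem e46c : x 46 * (x 47 * x 44) = Classes.ec 13631488 := by
  rw [ec_46, ← ec_zc]; exact (ec_4 _ _ _ (by decide +kernel)).symm
theorem e4044 : x 40 * x 44 = Classes.ec 1114112 := by
  rw [ec_40, Classes.ec44]; exact (ec_4 _ _ _ (by decide +kernel)).symm
theorem e4047 : x 40 * x 47 = Classes.ec 8454144 := by
  rw [ec_40, Classes.ec47]; exact (ec_4 _ _ _ (by decide +kernel)).symm
theorem e40c : x 40 * (x 47 * x 44) = Classes.ec 9502720 := by
  rw [ec_40, ← ec_zc]; exact (ec_4 _ _ _ (by decide +kernel)).symm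

theorem ec_ne {a b : ℕ} (h : (decide (a < 16777216) && decide (b < 16777216) && !(a == b)) = true) :
    Classes.ec a ≠ Classes.ec b := by
  simp only [Bool.and_eq_true, decide_eq_true_eq, Bool.not_eq_true', beq_eq_false_iff_ne, ne_eq] at h
  intro h1
  exact h.2 (Classes.ec_inj (lt_of_lt_of_eq h.1.1 (by norm_num)) (lt_of_lt_of_eq h.1.2 (by norm_num)) h1)

theorem m1 : x 46 * x 44 * x 47 = x 46 * (x 47 * x 44) := by
  rw [e4644, e46c, Classes.ec47]; exact (ec_4 _ _ _ (by decide +kernel)).symm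
theorem m2 : x 46 * (x 47 * x 44) * x 47 = x 46 * x 44 := by
  rw [e4644, e46c, Classes.ec47]; exact (ec_4 _ _ _ (by decide +kernel)).symm
theorem m3 : x 40 * x 47 * x 44 = x 40 * (x 47 * x 44) := by rw [mul_assoc]
theorem m4 : x 40 * (x 47 * x 44) * x 44 = x 40 * x 47 := by
  rw [e4047, e40c, Classes.ec44]; exact (ec_4 _ _ _ (by decide +kernel)).symm
theorem m5 : x 47 * x 44 * x 46 = x 46 * (x 47 * x 44) := by
  rw [← ec_zc, ec_46, ← Classes.ec_mulU, ← Classes.ec_mulU]; exact congrArg _ (by decide +kernel)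
theorem m6 : x 47 * x 44 * (x 46 * x 47) = x 46 * x 44 := by
  rw [← ec_zc, e4647, e4644, ← Classes.ec_mulU]; exact congrArg _ (by decide +kernel)
theorem m7 : x 47 * x 44 * x 40 = x 40 * (x 47 * x 44) := by
  rw [← ec_zc, ec_40, ← Classes.ec_mulU, ← Classes.ec_mulU]; exact congrArg _ (by decide +kernel)
theorem m8 : x 47 * x 44 * (x 40 * x 44) = x 40 * x 47 := by
  rw [← ec_zc, e4044, e4047, ← Classes.ec_mulU]; exact congrArg _ (by decide +kernel)

/-- `[x 40, U] ≤ ⟨z_s⟩` -/
theorem conj_40 {u : LL} (hu : u ∈ U) : u * x 40 * u⁻¹ = x 40 ∨ u * x 40 * u⁻¹ = x 40 * x 44 := by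
  obtain ⟨e, he, h⟩ := orbit (S := [65536, 1114112]) (by decide +kernel) hu 65536 (by simp)
  rw [e4044, ec_40, h]
  simp only [List.mem_cons, List.not_mem_nil, or_false] at he
  rcases he with rfl | rfl
  · exact Or.inl rfl
  · exact Or.inr rfl

theorem act_mul {u a z c : LL} (ha : u * a * u⁻¹ = a ∨ u * a * u⁻¹ = a * c) (hz : u * z * u⁻¹ = z)
    (hc : c * z = z * c) : u * (a * z) * u⁻¹ = a * z ∨ u * (a * z) * u⁻¹ = a * z * c := by
  have e : u * (a * z) * u⁻¹ = (u * a * u⁻¹) * (u * z * u⁻¹) := by group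
  rw [e, hz]
  rcases ha with ha | ha
  · left; rw [ha]
  · right; rw [ha, mul_assoc, hc, ← mul_assoc]

theorem mem_U_x {r : ℕ} (h : 24 ≤ r) (h' : r < 48) : x r ∈ U := x_mem_U h h'

theorem comm_of_central {z : LL} (hz : z ∈ U) (h : ∀ u ∈ U, u * z * u⁻¹ = z) {c : LL} (hc : c ∈ U) :
    c * z = z * c := by
  have := h c hc
  rwa [mul_inv_eq_iff_eq_mul] at this

theorem zc_mem : x 47 * x 44 ∈ U := mul_mem (mem_U_x (by omega) (by omega)) (mem_U_x (by omega) (by omega))

theorem zl_act {w : LL} (hw : Zl w) {u : LL} (hu : u ∈ U) : u * w * u⁻¹ = w ∨ u * w * u⁻¹ = w * x 47 := by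
  rcases hw with hw | rfl | rfl | rfl | rfl
  · exact Or.inl (zU_central hw hu)
  · exact conj_46 hu
  · exact act_mul (conj_46 hu) (central_44 hu)
      (comm_of_central (mem_U_x (by omega) (by omega)) (fun u hu => central_44 hu) (mem_U_x (by omega) (by omega)))
  · exact act_mul (conj_46 hu) (central_47 hu) rfl
  · exact act_mul (conj_46 hu) (central_zc hu)
      (comm_of_central zc_mem (fun u hu => central_zc hu) (mem_U_x (by omega) (by omega)))

theorem zs_act {w : LL} (hw : Zs w) {u : LL} (hu : u ∈ U) : u * w * u⁻¹ = w ∨ u * w * u⁻¹ = w * x 44 := by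
  rcases hw with hw | rfl | rfl | rfl | rfl
  · exact Or.inl (zU_central hw hu)
  · exact conj_40 hu
  · exact act_mul (conj_40 hu) (central_44 hu) rfl
  · exact act_mul (conj_40 hu) (central_47 hu)
      (comm_of_central (mem_U_x (by omega) (by omega)) (fun u hu => central_47 hu) (mem_U_x (by omega) (by omega)))
  · exact act_mul (conj_40 hu) (central_zc hu)
      (comm_of_central zc_mem (fun u hu => central_zc hu) (mem_U_x (by omega) (by omega)))

theorem conj_46_47 : Base.n 3 * x 47 * (Base.n 3)⁻¹ = x 46 := by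
  have h := n_conj (i := 3) (r := 47) (by omega) (by omega)
  rwa [show ChevalleyStructure.TwF4.Rel.refl 3 47 = 46 by decide] at h

theorem x47_eq : x 24 * x 46 * (x 24)⁻¹ * (x 46)⁻¹ = x 47 := by
  have h : wd [24, 46, 24, 46] = wd [47] := wd_eq _ _ (by decide +kernel)
  rw [wd_cons, wd_cons, wd_cons, wd_one, wd_one] at h
  rw [Base.x_inv, Base.x_inv, ← h]
  simp only [mul_assoc]

theorem x46_eq : x 25 * x 45 * (x 25)⁻¹ * (x 45)⁻¹ = x 46 := by
  have h : wd [25, 45, 25, 45] = wd [46] := wd_eq _ _ (by decide +kernel)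
  rw [wd_cons, wd_cons, wd_cons, wd_one, wd_one] at h
  rw [Base.x_inv, Base.x_inv, ← h]
  simp only [mul_assoc]

omit hφ hne in
include htt htc in
/-- the contradiction of the second step -/
theorem ty_of_conj {F : LL → LL} (d : Dat φ t n F) (hnt : n * t * n⁻¹ = t * φ (x 47 * x 44)) {l : LL}
    (hl : l * (x 47 * x 44) * l⁻¹ = x 47 * x 44 * F (x 46)) : ∃ g, g * t * g⁻¹ = t * φ (x 47) := by
  have h1 : n * φ (x 46) * n⁻¹ = φ (F (x 46)) := by
    have := Dat.exact htt htc d (mem_U_x (r := 25) (by omega) (by omega)) (mem_U_x (r := 45) (by omega) (by omega))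
    rwa [x46_eq] at this
  have h2 : n * (t * φ (x 46)) * n⁻¹ = t * φ (x 47 * x 44 * F (x 46)) := by
    rw [map_mul φ _ (F (x 46)), ← mul_assoc t, ← hnt, ← h1]
    group
  have tconj : ∀ l a : LL, φ l * (t * φ a) * (φ l)⁻¹ = t * φ (l * a * l⁻¹) := by
    intro l a
    rw [map_mul φ (l * a), map_mul φ l, map_inv, ← mul_assoc (φ l), ← htc]
    simp only [mul_assoc]
  have h3 : φ l * (t * φ (x 47 * x 44)) * (φ l)⁻¹ = t * φ (x 47 * x 44 * F (x 46)) := by
    rw [tconj, hl]
  have h4 : φ (Base.n 3) * (t * φ (x 47)) * (φ (Base.n 3))⁻¹ = t * φ (x 46) := by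
    rw [tconj, conj_46_47]
  refine ⟨(φ (Base.n 3))⁻¹ * n⁻¹ * φ l * n, ?_⟩
  calc (φ (Base.n 3))⁻¹ * n⁻¹ * φ l * n * t * ((φ (Base.n 3))⁻¹ * n⁻¹ * φ l * n)⁻¹
      = (φ (Base.n 3))⁻¹ * (n⁻¹ * (φ l * (n * t * n⁻¹) * (φ l)⁻¹) * n) * φ (Base.n 3) := by group
    _ = (φ (Base.n 3))⁻¹ * (t * φ (x 46)) * φ (Base.n 3) := by
        rw [hnt, h3, ← h2]
        group
    _ = t * φ (x 47) := by
        rw [← h4]
        group

include hφ htt htc hne in
/-- An element of `N_G(S₀)` carrying `t` to `t z_c` forces `t ~ t z_l`. -/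
theorem ty_long (hn : ∀ g, InS φ t g → InS φ t (n * g * n⁻¹)) (hn' : ∀ g, InS φ t g → InS φ t (n⁻¹ * g * n))
    (hnt : n * t * n⁻¹ = t * φ (x 47 * x 44)) : ∃ g, g * t * g⁻¹ = t * φ (x 47) := by
  obtain ⟨F, d⟩ := exists_dat hφ htt htc hne hn hn' hnt
  have u24 : x 24 ∈ U := mem_U_x (by omega) (by omega)
  have u25 : x 25 ∈ U := mem_U_x (by omega) (by omega)
  have u45 : x 45 ∈ U := mem_U_x (by omega) (by omega)
  have u46 : x 46 ∈ U := mem_U_x (by omega) (by omega)
  have u47 : x 47 ∈ U := mem_U_x (by omega) (by omega)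
  -- `F (x 47)` is central and not trivial
  have hc : ∀ g ∈ U, g * F (x 47) * g⁻¹ = F (x 47) := by
    intro g hg
    obtain ⟨v, hv, h⟩ := d.exists_conj u47 hg
    rw [h, central_47 hv]
  have h1 : F (x 47) ≠ 1 := by
    intro h
    have := Dat.exact htt htc d u24 u46
    rw [x47_eq, h, map_one, mul_inv_eq_one, mul_eq_left] at this
    exact x_ne_one (by omega) (hφ (this.trans (map_one φ).symm))
  have h46 : ∀ g ∈ U, g * F (x 46) * g⁻¹ = F (x 46) ∨ g * F (x 46) * g⁻¹ = F (x 46) * F (x 47) := by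
    intro g hg
    obtain ⟨v, hv, h⟩ := d.exists_conj u46 hg
    rcases conj_46 hv with h2 | h2
    · left; rw [h, h2]
    · right; rw [h, h2, d.mul _ u46 _ u47]
  have h24 : F (x 24) * F (x 46) * (F (x 24))⁻¹ = F (x 46) * F (x 47) := by
    rw [← d.conj u46 u24, rel_24, d.mul _ u46 _ u47]
  have hnc : ¬ ZU (F (x 46)) := by
    intro h
    rw [zU_central h (d.memU _ u24), left_eq_mul] at h24
    exact h1 h24
  have h45 : ∀ g ∈ U, g * F (x 45) * g⁻¹ = F (x 45) ∨ g * F (x 45) * g⁻¹ = F (x 45) * F (x 47) ∨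
      g * F (x 45) * g⁻¹ = F (x 45) * F (x 46) ∨ g * F (x 45) * g⁻¹ = F (x 45) * (F (x 46) * F (x 47)) := by
    intro g hg
    obtain ⟨v, hv, h⟩ := d.exists_conj u45 hg
    rcases conj_45 hv with h2 | h2 | h2 | h2
    · left; rw [h, h2]
    · right; left; rw [h, h2, d.mul _ u45 _ u47]
    · right; right; left; rw [h, h2, d.mul _ u45 _ u46]
    · right; right; right; rw [h, h2, d.mul _ u45 _ (mul_mem u46 u47), d.mul _ u46 _ u47]
  have h25 : F (x 25) * F (x 45) * (F (x 25))⁻¹ = F (x 45) * F (x 46) := by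
    rw [← d.conj u45 u25, rel_25, d.mul _ u45 _ u46]
  have hz : ZU (F (x 47)) := cen_c (d.memU _ u47) fun g hg => Or.inl (hc g hg)
  rcases hz with hz | hz | hz | hz
  · exact absurd hz h1
  · -- `F (x 47) = z_s`
    have hZ : Zs (F (x 46)) := cen_s (d.memU _ u46) fun g hg => by
      rcases h46 g hg with h | h
      · exact Or.inl h
      · right; rw [h, hz]
    have fin : ∀ w : LL, F (x 46) = w → w ≠ 1 → w ≠ x 44 → (∀ g ∈ U, g * F (x 45) * g⁻¹ = F (x 45) ∨
        g * F (x 45) * g⁻¹ = F (x 45) * x 44 ∨ g * F (x 45) * g⁻¹ = F (x 45) * (x 40 * x 47) ∨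
        g * F (x 45) * g⁻¹ = F (x 45) * (x 40 * (x 47 * x 44))) → False := by
      intro w hw hw1 hw2 h
      have h2 := zs_act (cen_s' (d.memU _ u45) h) (d.memU _ u25)
      rw [h25] at h2
      rcases h2 with h2 | h2
      · exact hw1 (by rw [← hw]; exact mul_eq_left.1 h2)
      · exact hw2 (by rw [← hw]; exact mul_left_cancel h2)
    rcases hZ with h | h | h | h | h
    · exact absurd h hnc
    · refine ty_of_conj htt htc d hnt (l := x 33 * Base.n 0) ?_
      rw [h, m7, ← conj_d, ← conj_c]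
      group
    · refine ty_of_conj htt htc d hnt (l := Base.n 0) ?_
      rw [h, m8, conj_c]
    · exfalso
      refine fin _ h ?_ ?_ fun g hg => ?_
      · rw [e4047, ← Classes.ec_zero]; exact ec_ne (by decide)
      · rw [e4047, Classes.ec44]; exact ec_ne (by decide)
      · rcases h45 g hg with h2 | h2 | h2 | h2
        · exact Or.inl h2
        · rw [hz] at h2; exact Or.inr (Or.inl h2)
        · rw [h] at h2; exact Or.inr (Or.inr (Or.inl h2))
        · rw [h, hz, m3] at h2; exact Or.inr (Or.inr (Or.inr h2))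
    · exfalso
      refine fin _ h ?_ ?_ fun g hg => ?_
      · rw [e40c, ← Classes.ec_zero]; exact ec_ne (by decide)
      · rw [e40c, Classes.ec44]; exact ec_ne (by decide)
      · rcases h45 g hg with h2 | h2 | h2 | h2
        · exact Or.inl h2
        · rw [hz] at h2; exact Or.inr (Or.inl h2)
        · rw [h] at h2; exact Or.inr (Or.inr (Or.inr h2))
        · rw [h, hz, m4] at h2; exact Or.inr (Or.inr (Or.inl h2))
  · -- `F (x 47) = z_l`
    have hZ : Zl (F (x 46)) := cen_l (d.memU _ u46) fun g hg => by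
      rcases h46 g hg with h | h
      · exact Or.inl h
      · right; rw [h, hz]
    have fin : ∀ w : LL, F (x 46) = w → w ≠ 1 → w ≠ x 47 → (∀ g ∈ U, g * F (x 45) * g⁻¹ = F (x 45) ∨
        g * F (x 45) * g⁻¹ = F (x 45) * x 47 ∨ g * F (x 45) * g⁻¹ = F (x 45) * (x 46 * x 44) ∨
        g * F (x 45) * g⁻¹ = F (x 45) * (x 46 * (x 47 * x 44))) → False := by
      intro w hw hw1 hw2 h
      have h2 := zl_act (cen_l' (d.memU _ u45) h) (d.memU _ u25)
      rw [h25] at h2
      rcases h2 with h2 | h2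
      · exact hw1 (by rw [← hw]; exact mul_eq_left.1 h2)
      · exact hw2 (by rw [← hw]; exact mul_left_cancel h2)
    rcases hZ with h | h | h | h | h
    · exact absurd h hnc
    · refine ty_of_conj htt htc d hnt (l := x 24 * Base.n 3) ?_
      rw [h, m5, ← conj_b, ← conj_a]
      group
    · exfalso
      refine fin _ h ?_ ?_ fun g hg => ?_
      · rw [e4644, ← Classes.ec_zero]; exact ec_ne (by decide)
      · rw [e4644, Classes.ec47]; exact ec_ne (by decide)
      · rcases h45 g hg with h2 | h2 | h2 | h2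
        · exact Or.inl h2
        · rw [hz] at h2; exact Or.inr (Or.inl h2)
        · rw [h] at h2; exact Or.inr (Or.inr (Or.inl h2))
        · rw [h, hz, m1] at h2; exact Or.inr (Or.inr (Or.inr h2))
    · refine ty_of_conj htt htc d hnt (l := Base.n 3) ?_
      rw [h, m6, conj_a]
    · exfalso
      refine fin _ h ?_ ?_ fun g hg => ?_
      · rw [e46c, ← Classes.ec_zero]; exact ec_ne (by decide)
      · rw [e46c, Classes.ec47]; exact ec_ne (by decide)
      · rcases h45 g hg with h2 | h2 | h2 | h2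
        · exact Or.inl h2
        · rw [hz] at h2; exact Or.inr (Or.inl h2)
        · rw [h] at h2; exact Or.inr (Or.inr (Or.inr h2))
        · rw [h, hz, m2] at h2; exact Or.inr (Or.inr (Or.inl h2))
  · -- `F (x 47) = z_c`
    exact absurd (cen_c (d.memU _ u46) fun g hg => by
      rcases h46 g hg with h | h
      · exact Or.inl h
      · right; rw [h, hz]) hnc

end

/-! ### the dual version -/

theorem bar_pos_tab : ((List.range 48).all fun r => decide (24 ≤ r) == decide (24 ≤ Base.bar r)) = true := by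
  decide +kernel

theorem bar_pos {r : ℕ} (h : 24 ≤ r) (h' : r < 48) : 24 ≤ Base.bar r := by
  have h1 := bar_pos_tab
  rw [List.all_eq_true] at h1
  have h2 := h1 r (List.mem_range.2 h')
  simpa [h] using h2

theorem alpha_alpha {α : LL ≃* LL} (hα : ∀ r < 48, α (x r) = x (Base.bar r)) (g : LL) : α (α g) = g := by
  have h : (α.toMonoidHom.comp α.toMonoidHom) = MonoidHom.id LL := by
    apply MonoidHom.eq_of_eqOn_dense closure_x
    rintro _ ⟨r, hr, rfl⟩
    show α (α (x r)) = x r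
    rw [hα r hr, hα _ (Base.bar_lt hr), Base.bar_bar hr]
  exact DFunLike.congr_fun h g

theorem alpha_mem_U {α : LL ≃* LL} (hα : ∀ r < 48, α (x r) = x (Base.bar r)) {u : LL} (hu : u ∈ U) : α u ∈ U := by
  obtain ⟨S, rfl⟩ := exists_nf hu
  have h : ∀ w : List ℕ, (∀ r ∈ w, 24 ≤ r ∧ r < 48) → α (wd w) ∈ U := by
    intro w
    induction w with
    | nil => intro _; rw [wd_nil, map_one]; exact one_mem _
    | cons r w ih =>
      intro h
      have h1 := h r List.mem_cons_self
      rw [wd_cons, map_mul, hα r h1.2]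
      exact mul_mem (x_mem_U (bar_pos h1.1 h1.2) (Base.bar_lt h1.2)) (ih fun s hs => h s (List.mem_cons_of_mem _ hs))
  exact h _ fun r hr => ChevalleyStructure.F4TwU.mem_posList.1 (List.mem_filter.1 hr).1

theorem zc_symm : x 44 * x 47 = x 47 * x 44 := by
  rw [← ec_zc, Classes.ec44, Classes.ec47]; exact (ec_4 _ _ _ (by decide +kernel)).symm

end Cfsg.Agent.F42.PatC
end

-- part: F42/Parity
section
set_option autoImplicit false

/-!
# Parity of the conjugates of `t` in the centre of a Sylow subgroup of `C_G(t)`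

`G` finite, `t` an involution, `P` a Sylow `2`-subgroup of `M = C_G(t)`, `φ : M →* A` abelian.
The transfer of `φ` is at `t` the product over the conjugates of `t` which centralise `P`.
-/

namespace Cfsg.Agent.F42.Parity

open MulAction Cfsg.Agent.StdL3.OneParity

variable {G : Type*} [Group G]

/-- Two `2`-subgroups of odd index in `M` are conjugate in `M`. -/
theorem exists_conj [Finite G] {M P R : Subgroup G} (hPM : P ≤ M) (hRM : R ≤ M)
    (hP : IsPGroup 2 P) (hR : IsPGroup 2 R) (hPo : Odd (P.relIndex M)) (hRo : Odd (R.relIndex M)) :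
    ∃ m ∈ M, ∀ x : G, x ∈ R ↔ m * x * m⁻¹ ∈ P := by
  have hP' : IsPGroup 2 (P.subgroupOf M) := hP.comap_of_injective M.subtype M.subtype_injective
  have hR' : IsPGroup 2 (R.subgroupOf M) := hR.comap_of_injective M.subtype M.subtype_injective
  have h2 : ∀ Q : Subgroup G, Odd (Q.relIndex M) → ¬ 2 ∣ (Q.subgroupOf M).index := by
    intro Q hQ h
    have h1 : Odd (Q.subgroupOf M).index := hQ
    exact (Nat.not_even_iff_odd.2 h1) (even_iff_two_dvd.2 h)
  have : Fact (Nat.Prime 2) := ⟨Nat.prime_two⟩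
  let SP : Sylow 2 M := hP'.toSylow (h2 P hPo)
  let SR : Sylow 2 M := hR'.toSylow (h2 R hRo)
  obtain ⟨m, hm⟩ := MulAction.exists_smul_eq M SR SP
  refine ⟨m, m.2, fun x => ?_⟩
  have key : ∀ y : M, y ∈ R.subgroupOf M ↔ m * y * m⁻¹ ∈ P.subgroupOf M := by
    intro y
    have e1 : (P.subgroupOf M : Subgroup M) = ((m • SR : Sylow 2 M) : Subgroup M) := by
      rw [hm]; rfl
    rw [e1, Sylow.coe_subgroup_smul, Subgroup.mem_pointwise_smul_iff_inv_smul_mem]
    have e2 : (MulAut.conj m)⁻¹ • (m * y * m⁻¹) = y := by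
      rw [← map_inv, MulAut.smul_def, MulAut.conj_apply]
      group
    rw [e2]
    rfl
  constructor
  · intro hx
    exact (key ⟨x, hRM hx⟩).1 (Subgroup.mem_subgroupOf.2 hx)
  · intro hx
    have hxM : x ∈ M := by
      have h1 := M.mul_mem (M.mul_mem (M.inv_mem m.2) (hPM hx)) m.2
      have e : (m : G)⁻¹ * (m * x * (m : G)⁻¹) * m = x := by group
      rwa [e] at h1
    exact Subgroup.mem_subgroupOf.1 ((key ⟨x, hxM⟩).2 (Subgroup.mem_subgroupOf.2 hx))

/-- The conjugates of `t` which centralise `P`. -/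
def Cen (t : G) (P : Subgroup G) : Set G := {s | IsConj t s ∧ ∀ p ∈ P, p * s = s * p}

/-- powers of an element of order two. -/
theorem pow_eq_of_modEq {A : Type*} [CommGroup A] {c : A} (hc : c ^ 2 = 1) {m n : ℕ}
    (h : m ≡ n [MOD 2]) : c ^ m = c ^ n := by
  have key : ∀ k : ℕ, c ^ k = c ^ (k % 2) := by
    intro k
    conv_lhs => rw [← Nat.div_add_mod k 2]
    rw [pow_add, pow_mul, hc, one_pow, one_mul]
  rw [key m, key n, h]

theorem relIndex_mul_card' [Finite G] {P M : Subgroup G} (h : P ≤ M) :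
    P.relIndex M * Nat.card P = Nat.card M := by
  rw [← Subgroup.index_mul_card (P.subgroupOf M),
    Nat.card_congr (Subgroup.subgroupOfEquivOfLe h).toEquiv]
  rfl

/-- A central involution lies in the Sylow subgroup. -/
theorem mem_of_central' [Finite G] {P M : Subgroup G} {t : G} (hP : IsPGroup 2 P)
    (htM : t ∈ M) (hc : ∀ m ∈ M, m * t = t * m) (hodd : Odd (P.relIndex M)) (ht : t * t = 1) : t ∈ P := by
  have : Fact (Nat.Prime 2) := ⟨Nat.prime_two⟩
  have hZ : IsPGroup 2 (Subgroup.zpowers (⟨t, htM⟩ : M)) := by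
    rintro ⟨x, hx⟩
    obtain ⟨k, rfl⟩ := hx
    refine ⟨1, Subtype.ext (Subtype.ext ?_)⟩
    change (t ^ k) ^ (2 ^ 1) = 1
    rw [pow_one, ← zpow_natCast, ← zpow_mul, mul_comm, zpow_mul]
    have : t ^ ((2 : ℕ) : ℤ) = 1 := by rw [zpow_natCast, pow_two, ht]
    rw [this, one_zpow]
  obtain ⟨Q, hQ⟩ := hZ.exists_le_sylow
  have hP' : IsPGroup 2 (P.subgroupOf M) := hP.comap_of_injective M.subtype M.subtype_injective
  have h2 : ¬ 2 ∣ (P.subgroupOf M).index := fun h =>
    (Nat.not_even_iff_odd.2 hodd) (even_iff_two_dvd.2 h)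
  let SP : Sylow 2 M := hP'.toSylow h2
  obtain ⟨m, hm⟩ := MulAction.exists_smul_eq M Q SP
  have h3 : (⟨t, htM⟩ : M) ∈ Q := hQ (Subgroup.mem_zpowers _)
  have h4 : (⟨t, htM⟩ : M) ∈ ((m • Q : Sylow 2 M) : Subgroup M) := by
    rw [Sylow.coe_subgroup_smul, Subgroup.mem_pointwise_smul_iff_inv_smul_mem]
    have e : (MulAut.conj m)⁻¹ • (⟨t, htM⟩ : M) = ⟨t, htM⟩ := by
      rw [← map_inv, MulAut.smul_def, MulAut.conj_apply, inv_inv]
      apply Subtype.ext
      have h5 : (m : G) * t = t * m := hc m m.2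
      change (m : G)⁻¹ * t * m = t
      rw [mul_assoc, ← h5, inv_mul_cancel_left]
    rw [e]
    exact h3
  rw [hm] at h4
  exact Subgroup.mem_subgroupOf.1 h4

/-- An involution commuting with a Sylow subgroup lies in it. -/
theorem mem_of_commute [Finite G] {P M : Subgroup G} {u : G} (hP : IsPGroup 2 P) (hPM : P ≤ M)
    (huM : u ∈ M) (hc : ∀ p ∈ P, p * u = u * p) (hodd : Odd (P.relIndex M)) (hu : u * u = 1) : u ∈ P := by
  have hPN : P ≤ M ⊓ Subgroup.centralizer {u} := le_inf hPM (fun p hp =>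
    Subgroup.mem_centralizer_singleton_iff.2 (hc p hp))
  refine mem_of_central' (M := M ⊓ Subgroup.centralizer {u}) hP
    (Subgroup.mem_inf.2 ⟨huM, Subgroup.mem_centralizer_singleton_iff.2 rfl⟩)
    (fun m hm => Subgroup.mem_centralizer_singleton_iff.1 (Subgroup.mem_inf.1 hm).2) ?_ hu
  have h1 := Subgroup.relIndex_mul_relIndex P (M ⊓ Subgroup.centralizer {u}) M hPN inf_le_left
  rw [← h1] at hodd
  exact (Nat.odd_mul.1 hodd).1

theorem mem_of_central [Finite G] {P : Subgroup G} {t : G} (hP : IsPGroup 2 P)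
    (hodd : Odd (P.relIndex (Subgroup.centralizer ({t} : Set G)))) (ht : t * t = 1) : t ∈ P :=
  mem_of_central' hP (Subgroup.mem_centralizer_singleton_iff.2 rfl)
    (fun _ hm => Subgroup.mem_centralizer_singleton_iff.1 hm) hodd ht

section

variable [Finite G] {A : Type*} [CommGroup A] {t : G} (ht : t * t = 1) {M : Subgroup G}
  (hM : M = Subgroup.centralizer ({t} : Set G)) (φ : M →* A) (htM : t ∈ M)
  {P : Subgroup G} (hP : IsPGroup 2 P) (hPt : P ≤ M) (hodd : Odd (P.relIndex M))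

omit [Finite G] in
include hM in
theorem coset_eq_iff (g k : G) :
    ((g : G) : G ⧸ M) = (k : G ⧸ M) ↔ g * t * g⁻¹ = k * t * k⁻¹ := by
  rw [QuotientGroup.eq, hM, Subgroup.mem_centralizer_singleton_iff]
  constructor
  · intro h
    calc g * t * g⁻¹ = g * (t * (g⁻¹ * k)) * k⁻¹ := by group
      _ = g * (g⁻¹ * k * t) * k⁻¹ := by rw [h]
      _ = k * t * k⁻¹ := by group
  · intro h
    calc g⁻¹ * k * t = g⁻¹ * (k * t * k⁻¹) * k := by group
      _ = g⁻¹ * (g * t * g⁻¹) * k := by rw [h]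
      _ = t * (g⁻¹ * k) := by group

include ht hM hP hPt hodd in
/-- The transfer at `t`. -/
theorem transfer_eq
    (hv : ∀ g : G, ∀ hg : g⁻¹ * t * g ∈ M,
      (∀ p ∈ P, p * (g⁻¹ * t * g) = (g⁻¹ * t * g) * p) → φ ⟨g⁻¹ * t * g, hg⟩ = φ ⟨t, htM⟩) :
    MonoidHom.transfer φ t = φ ⟨t, htM⟩ ^ (Cen t P).ncard := by
  classical
  have : Fact (Nat.Prime 2) := ⟨Nat.prime_two⟩
  have hti : t⁻¹ = t := inv_eq_of_mul_eq_one_right ht
  have := Fintype.ofFinite (G ⧸ M)
  obtain ⟨f, hf, hprod⟩ := transfer_eq_prod_fixed M φ t ht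
  set a : A := φ ⟨t, htM⟩ with ha
  have hfix : ∀ g : G, t • ((g : G) : G ⧸ M) = (g : G ⧸ M) ↔ g⁻¹ * t * g ∈ M := by
    intro g
    rw [MulAction.Quotient.smul_mk, smul_eq_mul, QuotientGroup.eq]
    have : (t * g)⁻¹ * g = g⁻¹ * t * g := by rw [mul_inv_rev, hti]
    rw [this]
  have hcommM : ∀ p ∈ M, p * t = t * p := fun p hp => by
    rw [hM] at hp
    exact Subgroup.mem_centralizer_singleton_iff.1 hp
  have hcomm : ∀ p ∈ P, p * t = t * p := fun p hp => hcommM p (hPt hp)
  -- `P` acts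
  have hPf : ∀ p ∈ P, ∀ q : G ⧸ M, t • q = q → t • (p • q) = p • q ∧ f (p • q) = f q := by
    intro p hp q hq
    obtain ⟨g, rfl⟩ := QuotientGroup.mk_surjective q
    have hg := (hfix g).1 hq
    have hc := hcomm p hp
    have h1 : (p * g)⁻¹ * t * (p * g) = g⁻¹ * t * g := by
      calc (p * g)⁻¹ * t * (p * g) = g⁻¹ * (p⁻¹ * (t * p)) * g := by group
        _ = g⁻¹ * (p⁻¹ * (p * t)) * g := by rw [hc]
        _ = g⁻¹ * t * g := by group
    have h2 : (p * g)⁻¹ * t * (p * g) ∈ M := by rw [h1]; exact hg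
    rw [MulAction.Quotient.smul_mk, smul_eq_mul]
    refine ⟨(hfix _).2 h2, ?_⟩
    rw [hf _ (p * g) rfl h2, hf _ g rfl hg]
    congr 1
    exact Subtype.ext h1
  have hsq : ∀ q : G ⧸ M, t • q = q → f q ^ 2 = 1 := by
    intro q hq
    obtain ⟨g, rfl⟩ := QuotientGroup.mk_surjective q
    have hg := (hfix g).1 hq
    rw [hf _ g rfl hg, ← map_pow]
    have : (⟨g⁻¹ * t * g, hg⟩ : M) ^ 2 = 1 := by
      apply Subtype.ext
      rw [Subgroup.coe_pow, Subgroup.coe_one, pow_two]
      calc g⁻¹ * t * g * (g⁻¹ * t * g) = g⁻¹ * (t * t) * g := by group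
        _ = 1 := by rw [ht]; group
    rw [this, map_one]
  set F := Finset.univ.filter (fun q : G ⧸ M => t • q = q) with hF
  set FP := Finset.univ.filter (fun q : G ⧸ M => ∀ p ∈ P, p • q = q) with hFP
  -- level sets
  have hlev : ∀ c : A, (∃ q ∈ F, f q = c) →
      c ^ (F.filter (fun q => f q = c)).card = c ^ ((F.filter (fun q => ∀ p ∈ P, p • q = q)).filter
        (fun q => f q = c)).card := by
    intro c hc
    obtain ⟨q0, hq0, hq0c⟩ := hc
    have hc2 : c ^ 2 = 1 := by rw [← hq0c]; exact hsq q0 (Finset.mem_filter.1 hq0).2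
    let Ω : SubMulAction P (G ⧸ M) :=
      { carrier := {q | t • q = q ∧ f q = c}
        smul_mem' := by
          rintro ⟨p, hp⟩ q ⟨h1, h2⟩
          have h3 := hPf p hp q h1
          exact ⟨h3.1, h3.2.trans h2⟩ }
    have h1 := hP.card_modEq_card_fixedPoints Ω
    have e1 : Nat.card Ω = (F.filter (fun q => f q = c)).card := by
      apply Nat.subtype_card
      intro q
      rw [Finset.mem_filter, hF, Finset.mem_filter]
      exact ⟨fun h => ⟨h.1.2, h.2⟩, fun h => ⟨⟨Finset.mem_univ _, h.1⟩, h.2⟩⟩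
    have e2 : Nat.card (MulAction.fixedPoints P Ω) =
        ((F.filter (fun q => ∀ p ∈ P, p • q = q)).filter (fun q => f q = c)).card := by
      have e3 : Nat.card (MulAction.fixedPoints P Ω) =
          Nat.card {q : G ⧸ M // (t • q = q ∧ f q = c) ∧ ∀ p ∈ P, p • q = q} := by
        refine Nat.card_congr
          { toFun := fun x => ⟨x.1.1, x.1.2, fun p hp => congrArg Subtype.val (x.2 ⟨p, hp⟩)⟩
            invFun := fun y => ⟨⟨y.1, y.2.1⟩, fun p => Subtype.ext (y.2.2 p.1 p.2)⟩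
            left_inv := fun x => rfl
            right_inv := fun y => rfl }
      rw [e3]
      apply Nat.subtype_card
      intro q
      rw [Finset.mem_filter, Finset.mem_filter, hF, Finset.mem_filter]
      exact ⟨fun h => ⟨⟨h.1.1.2, h.2⟩, h.1.2⟩, fun h => ⟨⟨⟨Finset.mem_univ _, h.1.1⟩, h.2⟩, h.1.2⟩⟩
    rw [e1, e2] at h1
    exact pow_eq_of_modEq hc2 h1
  rw [hprod, ← Finset.prod_fiberwise_of_maps_to (s := F) (t := F.image f)
    (fun q hq => Finset.mem_image_of_mem f hq) f]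
  have h3 : ∀ c ∈ F.image f, ∏ q ∈ F.filter (fun q => f q = c), f q =
      ∏ q ∈ (F.filter (fun q => ∀ p ∈ P, p • q = q)).filter (fun q => f q = c), f q := by
    intro c hc
    rw [Finset.prod_congr rfl (g := fun _ => c) (fun q hq => (Finset.mem_filter.1 hq).2),
      Finset.prod_const, hlev c (by simpa using hc),
      Finset.prod_congr rfl (g := fun _ => c) (fun q hq => (Finset.mem_filter.1 hq).2),
      Finset.prod_const]
  rw [Finset.prod_congr rfl h3, Finset.prod_fiberwise_of_maps_to (s := F.filter (fun q => ∀ p ∈ P, p • q = q))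
    (t := F.image f) (fun q hq => Finset.mem_image_of_mem f (Finset.mem_filter.1 hq).1) f]
  -- the fixed cosets of `P`
  have htP : t ∈ P := mem_of_central hP (hM ▸ hodd) ht
  have hval : ∀ q ∈ F.filter (fun q => ∀ p ∈ P, p • q = q), f q = a := by
    intro q hq
    obtain ⟨hq1, hq2⟩ := Finset.mem_filter.1 hq
    obtain ⟨g, rfl⟩ := QuotientGroup.mk_surjective q
    set R : Subgroup G := P.map (MulAut.conj g⁻¹).toMonoidHom with hR
    have hRmem : ∀ x, x ∈ R ↔ g * x * g⁻¹ ∈ P := by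
      intro x
      rw [hR, Subgroup.mem_map_equiv, MulAut.conj_symm_apply, inv_inv]
    have hRM : R ≤ M := by
      intro x hx
      rw [hRmem] at hx
      have h5 := hq2 _ hx
      rw [MulAction.Quotient.smul_mk, smul_eq_mul, eq_comm, QuotientGroup.eq] at h5
      have e : g⁻¹ * (g * x * g⁻¹ * g) = x := by group
      rwa [e] at h5
    have hR2 : IsPGroup 2 R := hP.map _
    have hcardR : Nat.card R = Nat.card P :=
      Nat.card_congr (P.equivMapOfInjective _ (MulAut.conj g⁻¹).injective).symm.toEquiv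
    have hRo : Odd (R.relIndex M) := by
      have h6 := relIndex_mul_card' hRM
      have h7 := relIndex_mul_card' hPt
      rw [hcardR, ← h7] at h6
      rw [Nat.eq_of_mul_eq_mul_right Nat.card_pos h6]
      exact hodd
    obtain ⟨m, hm, hmR⟩ := exists_conj hPt hRM hP hR2 hodd hRo
    -- k = g * m⁻¹ normalises P
    have hk : ((g * m⁻¹ : G) : G ⧸ M) = ((g : G) : G ⧸ M) := by
      rw [QuotientGroup.eq]
      have e : (g * m⁻¹)⁻¹ * g = m := by group
      rw [e]; exact hm
    have hkP : ∀ p ∈ P, p * ((g * m⁻¹)⁻¹ * t * (g * m⁻¹)) = ((g * m⁻¹)⁻¹ * t * (g * m⁻¹)) * p := by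
      intro p hp
      have h8 : m⁻¹ * p * m ∈ R := by
        rw [hmR]
        have e : m * (m⁻¹ * p * m) * m⁻¹ = p := by group
        rw [e]; exact hp
      rw [hRmem] at h8
      have h9 := hcomm _ h8
      calc p * ((g * m⁻¹)⁻¹ * t * (g * m⁻¹))
          = m * g⁻¹ * (g * (m⁻¹ * p * m) * g⁻¹ * t) * g * m⁻¹ := by group
        _ = m * g⁻¹ * (t * (g * (m⁻¹ * p * m) * g⁻¹)) * g * m⁻¹ := by rw [h9]
        _ = ((g * m⁻¹)⁻¹ * t * (g * m⁻¹)) * p := by group
    have hkM : (g * m⁻¹)⁻¹ * t * (g * m⁻¹) ∈ M := by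
      rw [hM, Subgroup.mem_centralizer_singleton_iff]
      exact (hkP t htP).symm
    rw [hf _ (g * m⁻¹) hk hkM]
    exact hv _ hkM hkP
  rw [Finset.prod_congr rfl hval, Finset.prod_const]
  congr 1
  -- count
  rw [← Set.ncard_coe_finset]
  refine Set.ncard_congr (fun q _ => (q.out : G) * t * (q.out)⁻¹) ?_ ?_ ?_
  · intro q hq
    rw [Finset.mem_coe, Finset.mem_filter] at hq
    refine ⟨isConj_iff.2 ⟨q.out, rfl⟩, fun p hp => ?_⟩
    have h5 := hq.2 p hp
    have h6 : ((p * q.out : G) : G ⧸ M) = ((q.out : G) : G ⧸ M) := by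
      rw [← smul_eq_mul, ← MulAction.Quotient.smul_mk, QuotientGroup.out_eq']
      exact h5
    rw [coset_eq_iff hM] at h6
    calc p * (q.out * t * (q.out)⁻¹) = (p * q.out * t * (p * q.out)⁻¹) * p := by group
      _ = q.out * t * (q.out)⁻¹ * p := by rw [h6]
  · intro q q' _ _ h
    have := (coset_eq_iff hM q.out q'.out).2 h
    rwa [QuotientGroup.out_eq', QuotientGroup.out_eq'] at this
  · rintro s ⟨hs, hsP⟩
    obtain ⟨g, rfl⟩ := isConj_iff.1 hs
    refine ⟨((g : G) : G ⧸ M), ?_, ?_⟩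
    · rw [Finset.mem_coe, Finset.mem_filter, hF, Finset.mem_filter]
      have h7 : ∀ p ∈ P, p • ((g : G) : G ⧸ M) = ((g : G) : G ⧸ M) := by
        intro p hp
        rw [MulAction.Quotient.smul_mk, smul_eq_mul, coset_eq_iff hM]
        calc p * g * t * (p * g)⁻¹ = (p * (g * t * g⁻¹)) * p⁻¹ := by group
          _ = g * t * g⁻¹ := by rw [hsP p hp]; group
      exact ⟨⟨Finset.mem_univ _, h7 t htP⟩, h7⟩
    · rw [← coset_eq_iff hM, QuotientGroup.out_eq']


include ht hM hP hPt hodd in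
/-- **(P1)**: if all abelian images of `G` kill `t` (`G` simple), the number of conjugates of `t` which
centralise `P` is even. -/
theorem even_cen [IsSimpleGroup G] (hG : ¬ ∀ a b : G, a * b = b * a) (h1 : φ ⟨t, htM⟩ ≠ 1)
    (hv : ∀ g : G, ∀ hg : g⁻¹ * t * g ∈ M,
      (∀ p ∈ P, p * (g⁻¹ * t * g) = (g⁻¹ * t * g) * p) → φ ⟨g⁻¹ * t * g, hg⟩ = φ ⟨t, htM⟩) :
    Even (Cen t P).ncard := by
  have h2 := transfer_eq ht hM φ htM hP hPt hodd hv
  rw [GTwoFour.TransferTL.map_eq_one_of_simple hG] at h2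
  by_contra h
  rw [Nat.not_even_iff_odd] at h
  apply h1
  have h3 : φ ⟨t, htM⟩ ^ 2 = 1 := by
    rw [← map_pow]
    have : (⟨t, htM⟩ : M) ^ 2 = 1 := Subtype.ext (by simp [pow_two, ht])
    rw [this, map_one]
  rw [pow_eq_of_modEq h3 (n := 1) (by rw [Nat.ModEq]; exact Nat.odd_iff.1 h), pow_one] at h2
  exact h2.symm

end

/-- **(P1)**, form with a subgroup `L` such that `M/L` is abelian. -/
theorem even_cen_of_comm [Finite G] [IsSimpleGroup G] (hG : ¬ ∀ a b : G, a * b = b * a)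
    {t : G} (ht : t * t = 1) {M L : Subgroup G} (hM : M = Subgroup.centralizer ({t} : Set G))
    (hab : ∀ a ∈ M, ∀ b ∈ M, a * b * a⁻¹ * b⁻¹ ∈ L) (htL : t ∉ L)
    {P : Subgroup G} (hP : IsPGroup 2 P) (hPt : P ≤ M) (hodd : Odd (P.relIndex M))
    (hv : ∀ u : G, IsConj t u → u ∈ P → (∀ p ∈ P, p * u = u * p) → u * t ∈ L) :
    Even (Cen t P).ncard := by
  have htM : t ∈ M := by rw [hM]; exact Subgroup.mem_centralizer_singleton_iff.2 rfl
  have hN : (L.subgroupOf M).Normal := by
    refine ⟨fun l hl m => ?_⟩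
    rw [Subgroup.mem_subgroupOf] at hl ⊢
    have := L.mul_mem (hab m m.2 l l.2) hl
    simpa [mul_assoc] using this
  let _ : CommGroup (M ⧸ L.subgroupOf M) :=
    { (inferInstance : Group (M ⧸ L.subgroupOf M)) with
      mul_comm := by
        intro x y
        obtain ⟨a, rfl⟩ := QuotientGroup.mk_surjective x
        obtain ⟨b, rfl⟩ := QuotientGroup.mk_surjective y
        rw [← QuotientGroup.mk_mul, ← QuotientGroup.mk_mul, QuotientGroup.eq, Subgroup.mem_subgroupOf]
        have := hab (b : G)⁻¹ (M.inv_mem b.2) (a : G)⁻¹ (M.inv_mem a.2)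
        simpa [mul_assoc] using this }
  refine even_cen ht hM (QuotientGroup.mk' (L.subgroupOf M)) htM hP hPt hodd hG ?_ ?_
  · intro h
    rw [QuotientGroup.mk'_apply, QuotientGroup.eq_one_iff, Subgroup.mem_subgroupOf] at h
    exact htL h
  · intro g hg hgP
    rw [QuotientGroup.mk'_apply, QuotientGroup.mk'_apply, QuotientGroup.eq, Subgroup.mem_subgroupOf]
    have h2 : (g⁻¹ * t * g) * (g⁻¹ * t * g) = 1 := by
      calc g⁻¹ * t * g * (g⁻¹ * t * g) = g⁻¹ * (t * t) * g := by group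
        _ = 1 := by rw [ht]; group
    have hu : g⁻¹ * t * g ∈ P := mem_of_commute hP hPt hg hgP hodd h2
    have h1 := hv _ (isConj_iff.2 ⟨g⁻¹, by group⟩) hu hgP
    have h3 : (g⁻¹ * t * g)⁻¹ = g⁻¹ * t * g := inv_eq_of_mul_eq_one_right h2
    change (g⁻¹ * t * g)⁻¹ * t ∈ L
    rw [h3]
    exact h1

end Cfsg.Agent.F42.Parity
end

-- part: F42/Red
section
/-!
# A group `X` (`F₄(2)` in the application) has no proper tightly embedded part of even order at least 4

`RedData X`: the facts on `X`. `Tight Rh J M`: the situation in which `Rh` is the group of automorphisms induced on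
`X = B` by `C(A) ∩ N(B)`, `J = C(A) ∩ B`, `M = B ∩ N(A)` for a good pair `(A, B)`. `Tight.main`: `M = ⊤`.
-/

set_option autoImplicit false

namespace Cfsg.Agent.F42.Red

open Subgroup Cfsg.Agent.StdAlt.Pairs
open scoped Pointwise

/-- the facts on `X` which are used -/
structure RedData (X : Type*) [Group X] where
  U : Subgroup X
  Q : Subgroup X
  W : Subgroup X
  s : X
  l : X
  hU : IsPGroup 2 U
  hZ : ∀ b : X, (∀ x, b * x = x * b) → b = 1
  nU : ∀ b, (∀ u ∈ U, b * u * b⁻¹ ∈ U) → b ∈ U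
  sU : s ∈ U
  lU : l ∈ U
  s1 : s ≠ 1
  l1 : l ≠ 1
  sl : s ≠ l
  ss : s * s = 1
  ll : l * l = 1
  sc : ∀ u ∈ U, u * s = s * u
  lc : ∀ u ∈ U, u * l = l * u
  cU : ∀ z ∈ U, (∀ u ∈ U, z * u = u * z) → z = 1 ∨ z = s ∨ z = l ∨ z = s * l
  aut1 : ∀ α : MulAut X, (∀ u ∈ U, α u ∈ U) → α s = s ∨ α s = l
  aut2 : ∀ α : MulAut X, (∀ u ∈ U, α u ∈ U) → α s = s → ∃ b, ∀ x, α x = b * x * b⁻¹
  aut3 : ∀ α : MulAut X, (∀ u ∈ U, α u ∈ U) → α s = l → ∃ u ∈ U, α u * u⁻¹ ≠ 1 ∧ α u * u⁻¹ ≠ s * l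
  stepS : ∀ J : Subgroup X, (∀ g, g * s = s * g → ∀ j ∈ J, g * j * g⁻¹ ∈ J) → ∀ w ∈ U, w ≠ 1 → w ≠ s →
    (∀ u ∈ U, w * u * w⁻¹ * u⁻¹ = 1 ∨ w * u * w⁻¹ * u⁻¹ = s) →
    (∀ g, g * s = s * g → g * w * g⁻¹ * w⁻¹ ∈ J) → l ∈ J
  stepL : ∀ J : Subgroup X, (∀ g, g * l = l * g → ∀ j ∈ J, g * j * g⁻¹ ∈ J) → ∀ w ∈ U, w ≠ 1 → w ≠ l →
    (∀ u ∈ U, w * u * w⁻¹ * u⁻¹ = 1 ∨ w * u * w⁻¹ * u⁻¹ = l) →
    (∀ g, g * l = l * g → g * w * g⁻¹ * w⁻¹ ∈ J) → s ∈ J
  stepC : ∀ w ∈ U, (∀ u ∈ U, w * u * w⁻¹ * u⁻¹ = 1 ∨ w * u * w⁻¹ * u⁻¹ = s * l) → ∀ u ∈ U, w * u = u * w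
  move : ∃ g, g * s = s * g ∧ g * l * g⁻¹ ∈ U ∧ g * l * g⁻¹ ≠ l ∧ g * l * g⁻¹ ≠ s
  gen : ∀ M : Subgroup X, (∀ g, g * s = s * g → g ∈ M) → (∀ g, g * l = l * g → g ∈ M) → M = ⊤
  qs : ∀ q ∈ Q, q * s = s * q
  qq : ∀ q ∈ Q, ∀ q' ∈ Q, q * q' * q⁻¹ * q'⁻¹ = 1 ∨ q * q' * q⁻¹ * q'⁻¹ = s
  wq : ∀ w ∈ W, ∀ q ∈ Q, w * q = q * w
  wn : ∀ g, g * s = s * g → ∀ w ∈ W, g * w * g⁻¹ ∈ W
  cW : ∀ g, g * s = s * g → (∀ w ∈ W, g * w = w * g) → g ∈ Q
  cQ : ∀ g ∈ Q, (∀ q ∈ Q, g * q = q * g) → g ∈ W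
  wc : ∀ w ∈ W, w = 1 ∨ (w * w = 1 ∧ ∃ h : X, ∀ u ∈ U, w * (h * u * h⁻¹) = (h * u * h⁻¹) * w)
  inv : ∀ b, b ≠ 1 → b * b = 1 → ∃ h, h * b * h⁻¹ ∈ Q
  pair : ∀ g, g * s * g⁻¹ ≠ s → ∀ n : ℕ, (s * (g * s * g⁻¹)) ^ 2 ^ n = 1 → ∃ m : ℕ,
    (s * (g * s * g⁻¹)) ^ m ≠ 1 ∧ (s * (g * s * g⁻¹)) ^ m * (s * (g * s * g⁻¹)) ^ m = 1 ∧
      ∃ h : X, ∀ u ∈ U, (s * (g * s * g⁻¹)) ^ m * (h * u * h⁻¹) = (h * u * h⁻¹) * (s * (g * s * g⁻¹)) ^ m

variable {X : Type*} [Group X]

/-! ### general tools -/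

/-- in a 2-group: between two normal subgroups there is an element centralized modulo the smaller one -/
theorem exists_mod [Finite X] {U Z N : Subgroup X} (hU : IsPGroup 2 U) (hZ : ∀ u ∈ U, ∀ z ∈ Z, u * z * u⁻¹ ∈ Z)
    (hN : ∀ u ∈ U, ∀ z ∈ N, u * z * u⁻¹ ∈ N) {n : X} (hnU : n ∈ U) (hnN : n ∈ N) (hnZ : n ∉ Z) :
    ∃ w ∈ N, w ∈ U ∧ w ∉ Z ∧ ∀ u ∈ U, w * u * w⁻¹ * u⁻¹ ∈ Z := by
  have hZn : (Z.subgroupOf U).Normal := ⟨fun z hz g => mem_subgroupOf.2 (hZ g g.2 _ (mem_subgroupOf.1 hz))⟩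
  have hNn : (N.subgroupOf U).Normal := ⟨fun z hz g => mem_subgroupOf.2 (hN g g.2 _ (mem_subgroupOf.1 hz))⟩
  have h2 : IsPGroup 2 (U ⧸ Z.subgroupOf U) := hU.to_quotient _
  have hKn : ((N.subgroupOf U).map (QuotientGroup.mk' (Z.subgroupOf U))).Normal :=
    hNn.map _ (QuotientGroup.mk'_surjective _)
  have hK : (N.subgroupOf U).map (QuotientGroup.mk' (Z.subgroupOf U)) ≠ ⊥ := by
    intro h
    apply hnZ
    have h1 : QuotientGroup.mk' (Z.subgroupOf U) ⟨n, hnU⟩ ∈
        (N.subgroupOf U).map (QuotientGroup.mk' (Z.subgroupOf U)) :=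
      mem_map_of_mem _ (mem_subgroupOf.2 hnN)
    rw [h, mem_bot, QuotientGroup.mk'_apply, QuotientGroup.eq_one_iff, mem_subgroupOf] at h1
    exact h1
  obtain ⟨z, hz, hzc, hzo⟩ := Cfsg.Agent.Transfer.PGroupNormal.exists_mem_inf_center_orderOf h2 _ hK
  obtain ⟨w, hw, rfl⟩ := hz
  refine ⟨w, mem_subgroupOf.1 hw, w.2, ?_, ?_⟩
  · intro h
    have h1 : QuotientGroup.mk' (Z.subgroupOf U) w = 1 := by
      rw [QuotientGroup.mk'_apply, QuotientGroup.eq_one_iff, mem_subgroupOf]; exact h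
    rw [h1, orderOf_one] at hzo
    exact absurd hzo (by norm_num)
  · intro u hu
    have h1 := mem_center_iff.1 hzc (QuotientGroup.mk' (Z.subgroupOf U) ⟨u, hu⟩)
    have h3 : QuotientGroup.mk' (Z.subgroupOf U) (w * ⟨u, hu⟩ * w⁻¹ * ⟨u, hu⟩⁻¹) = 1 := by
      rw [map_mul, map_mul, map_mul, map_inv, map_inv, ← h1]; group
    rw [QuotientGroup.mk'_apply, QuotientGroup.eq_one_iff, mem_subgroupOf] at h3
    exact h3

/-- a 2-group normalizing `R` (order divisible by 4): there is a 2-subgroup of `R` of order divisible by 4 normalized by it -/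
theorem exists_four [Finite X] {R Q : Subgroup X} (h4 : 4 ∣ Nat.card R) (hQ : IsPGroup 2 Q)
    (hn : ∀ q ∈ Q, ∀ r ∈ R, q * r * q⁻¹ ∈ R) :
    ∃ P : Subgroup X, IsPGroup 2 P ∧ Q ≤ P ∧ 4 ∣ Nat.card ↥(P ⊓ R) ∧ (∀ p ∈ P, ∀ r ∈ R, p * r * p⁻¹ ∈ R) := by
  have hQN : Q ≤ normalizer (R : Set X) := fun q hq => mem_normalizer_fintype (hn q hq)
  obtain ⟨P, hP, hQP, hPY, hPm⟩ := exists_two_subgroup (Q ⊔ R) Q hQ le_sup_left
  have hPN : P ≤ normalizer (R : Set X) := hPY.trans (sup_le hQN le_normalizer)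
  refine ⟨P, hP, hQP, ?_, fun p hp r hr => (mem_normalizer_iff.1 (hPN hp) r).1 hr⟩
  -- orders
  have hPR : P ⊔ R = Q ⊔ R := le_antisymm (sup_le hPY le_sup_right) (sup_le_sup_right hQP R)
  have hcard : Nat.card ↥(P ⊔ R) * Nat.card ↥(P ⊓ R) = Nat.card P * Nat.card R := by
    rw [← Cfsg.Agent.Lib.ProductSet.card_mul_card_inf P R]
    congr 1
    exact Nat.card_congr (Equiv.setCongr (Subgroup.coe_mul_of_left_le_normalizer_right P R hPN))
  obtain ⟨m, hm⟩ := hP.exists_card_eq
  obtain ⟨k, hk⟩ := (hP.to_le (inf_le_left : P ⊓ R ≤ P)).exists_card_eq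
  rw [hk]
  by_contra hcon
  have hk1 : k < 2 := by
    by_contra h
    exact hcon (pow_dvd_pow 2 (not_lt.1 h))
  have h5 : 2 ^ (m + 1) ∣ Nat.card ↥(Q ⊔ R) := by
    obtain ⟨c, hc⟩ := h4
    rw [hPR, hk, hm, hc] at hcard
    have h6 : 2 ^ k * 2 ^ (m + 1) ∣ 2 ^ k * Nat.card ↥(Q ⊔ R) := by
      rw [mul_comm (2 ^ k) (Nat.card ↥(Q ⊔ R)), hcard]
      have : k = 0 ∨ k = 1 := by omega
      rcases this with rfl | rfl
      · exact ⟨2 * c, by ring⟩
      · exact ⟨c, by ring⟩
    exact Nat.dvd_of_mul_dvd_mul_left (by positivity) h6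
  have h7 := hPm _ h5
  rw [hm] at h7
  have h8 := Nat.le_of_dvd (by positivity) h7
  have h9 : 0 < 2 ^ m := by positivity
  rw [pow_succ] at h8
  omega

/-- a 2-subgroup of automorphisms fixes a Sylow 2-subgroup -/
theorem exists_sylow_fixed [Finite X] {P : Subgroup (MulAut X)} (hP : IsPGroup 2 P) :
    ∃ S : Sylow 2 X, ∀ ρ ∈ P, ∀ u ∈ S, ρ u ∈ S := by
  have h1 : ¬ 2 ∣ Nat.card (Sylow 2 X) := by
    have := card_sylow_modEq_one 2 X
    intro h
    have h2 : Nat.card (Sylow 2 X) ≡ 0 [MOD 2] := (Nat.modEq_zero_iff_dvd).2 h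
    exact absurd (this.symm.trans h2) (by decide)
  obtain ⟨S, hS⟩ := hP.nonempty_fixed_point_of_prime_not_dvd_card (Sylow 2 X) h1
  refine ⟨S, fun ρ hρ u hu => ?_⟩
  have h2 : (⟨ρ, hρ⟩ : P) • S = S := hS ⟨ρ, hρ⟩
  have h3 : ρ • S = S := h2
  have h4 : ρ • u ∈ ρ • (S : Subgroup X) := Subgroup.smul_mem_pointwise_smul _ _ _ hu
  have h5 : ((ρ • S : Sylow 2 X) : Subgroup X) = ρ • (S : Subgroup X) := rfl
  rw [← h5, h3] at h4
  exact h4

end Cfsg.Agent.F42.Red
end

-- part: F42/RedTight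
section
/-!
# The tight situation: `M = ⊤`
-/

set_option autoImplicit false

namespace Cfsg.Agent.F42.Red

open Subgroup Cfsg.Agent.StdAlt.Pairs

variable {X : Type*} [Group X]

/-- `R`: automorphisms induced by `C(A) ∩ N(B)`, `J = C(A) ∩ B`, `M = B ∩ N(A)` -/
structure Tight (R : Subgroup (MulAut X)) (J M : Subgroup X) : Prop where
  comm : ∀ x ∈ M, ∀ ρ ∈ R, ρ x * x⁻¹ ∈ J
  nR : ∀ x ∈ M, ∀ ρ ∈ R, MulAut.conj x * ρ * (MulAut.conj x)⁻¹ ∈ R
  JM : J ≤ M
  nJ : ∀ x ∈ M, ∀ j ∈ J, x * j * x⁻¹ ∈ J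
  cent : ∀ ρ ∈ R, ρ ≠ 1 → ρ * ρ = 1 → ∀ x, ρ x = x → x ∈ M
  inn : ∀ j ∈ J, MulAut.conj j ∈ R
  four : 4 ∣ Nat.card R

theorem conj_conj (ρ : MulAut X) (x : X) : ρ * MulAut.conj x * ρ⁻¹ = MulAut.conj (ρ x) := by
  ext y
  simp only [MulAut.mul_apply, MulAut.conj_apply, map_mul, map_inv, MulAut.apply_inv_self]

theorem mem_three [Finite X] {T : Subgroup X} (h4 : 4 ≤ Nat.card T) {a b c : X}
    (h : ∀ x ∈ T, x = a ∨ x = b ∨ x = c) : False := by
  have h1 : (T : Set X) ⊆ {a, b, c} := by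
    intro x hx
    simpa using h x hx
  have h2 := Set.ncard_le_ncard h1 (Set.toFinite _)
  have h3 : ({a, b, c} : Set X).ncard ≤ 3 := by
    refine (Set.ncard_insert_le _ _).trans ?_
    have := Set.ncard_insert_le b ({c} : Set X)
    rw [Set.ncard_singleton] at this
    omega
  have h4' : Nat.card T = (T : Set X).ncard := rfl
  omega

theorem exists_ne_ne [Finite X] {T : Subgroup X} (h4 : 4 ≤ Nat.card T) (a b : X) :
    ∃ x ∈ T, x ≠ a ∧ x ≠ b := by
  by_contra h
  push Not at h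
  refine mem_three h4 (a := a) (b := b) (c := b) fun x hx => ?_
  by_cases h1 : x = a
  · exact Or.inl h1
  · exact Or.inr (Or.inl (h x hx h1))

theorem mem_of_four [Finite X] {T : Subgroup X} (h4 : 4 ≤ Nat.card T) {a b c d : X}
    (h : ∀ x ∈ T, x = a ∨ x = b ∨ x = c ∨ x = d) : b ∈ T := by
  by_contra hb
  refine mem_three h4 (a := a) (b := c) (c := d) fun x hx => ?_
  rcases h x hx with h1 | h1 | h1 | h1
  · exact Or.inl h1
  · exact absurd (h1 ▸ hx) hb
  · exact Or.inr (Or.inl h1)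
  · exact Or.inr (Or.inr h1)

/-! ### consequences of the data -/

namespace RedData

variable (D : RedData X)
include D

theorem conj_inj {b c : X} (h : MulAut.conj b = MulAut.conj c) : b = c := by
  have h1 : c⁻¹ * b = 1 := by
    apply D.hZ
    intro x
    have h2 : b * x * b⁻¹ = c * x * c⁻¹ := by
      have := congrArg (fun ρ : MulAut X => ρ x) h
      simpa [MulAut.conj_apply] using this
    calc c⁻¹ * b * x = c⁻¹ * (b * x * b⁻¹) * b := by group
      _ = c⁻¹ * (c * x * c⁻¹) * b := by rw [h2]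
      _ = x * (c⁻¹ * b) := by group
  calc b = c * (c⁻¹ * b) := by group
    _ = c := by rw [h1, mul_one]

theorem conj_ne_one {b : X} (h : b ≠ 1) : MulAut.conj b ≠ 1 := by
  intro e
  apply h
  apply D.conj_inj
  rw [e, map_one]

theorem max [Finite X] {V : Subgroup X} (hV : IsPGroup 2 V) (hUV : D.U ≤ V) : V = D.U := by
  by_contra hne
  obtain ⟨c, -, hcU, hc⟩ := exists_normalizing V D.U hV hUV (Ne.symm hne)
  exact hcU (D.nU c hc)

theorem scl : D.s * D.l = D.l * D.s := D.lc _ D.sU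

theorem c1 : D.s * D.l ≠ 1 := by
  intro h
  apply D.sl
  calc D.s = D.s * (D.l * D.l) := by rw [D.ll, mul_one]
    _ = (D.s * D.l) * D.l := by group
    _ = D.l := by rw [h, one_mul]

theorem cc : D.s * D.l * (D.s * D.l) = 1 := by
  calc D.s * D.l * (D.s * D.l) = D.s * D.l * (D.l * D.s) := by rw [← D.scl]
    _ = D.s * (D.l * D.l) * D.s := by group
    _ = 1 := by rw [D.ll, mul_one, D.ss]

theorem sinv : D.s⁻¹ = D.s := inv_eq_of_mul_eq_one_left D.ss

theorem cc' : ∀ u ∈ D.U, u * (D.s * D.l) = D.s * D.l * u := by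
  intro u hu
  rw [← mul_assoc, D.sc u hu, mul_assoc, D.lc u hu, ← mul_assoc]

end RedData

namespace Tight

variable {R : Subgroup (MulAut X)} {J M : Subgroup X}

theorem conj (h : Tight R J M) (g : X) : Tight (R.map (MulAut.conj (MulAut.conj g)).toMonoidHom)
    (J.map (MulAut.conj g).toMonoidHom) (M.map (MulAut.conj g).toMonoidHom) := by
  constructor
  · rintro _ ⟨x, hx, rfl⟩ _ ⟨ρ, hρ, rfl⟩
    refine ⟨ρ x * x⁻¹, h.comm x hx ρ hρ, ?_⟩
    simp only [MulEquiv.coe_toMonoidHom, MulAut.conj_apply, MulAut.mul_apply, MulAut.conj_inv_apply]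
    simp only [map_mul, map_inv, mul_assoc, mul_inv_rev, inv_inv, inv_mul_cancel_left]
  · rintro _ ⟨x, hx, rfl⟩ _ ⟨ρ, hρ, rfl⟩
    refine ⟨_, h.nR x hx ρ hρ, ?_⟩
    simp only [MulEquiv.coe_toMonoidHom]
    have e : MulAut.conj ((MulAut.conj g) x) = MulAut.conj g * MulAut.conj x * (MulAut.conj g)⁻¹ :=
      (conj_conj _ _).symm
    rw [e, MulAut.conj_apply, MulAut.conj_apply]
    group
  · rintro _ ⟨x, hx, rfl⟩
    exact ⟨x, h.JM hx, rfl⟩
  · rintro _ ⟨x, hx, rfl⟩ _ ⟨j, hj, rfl⟩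
    refine ⟨x * j * x⁻¹, h.nJ x hx j hj, ?_⟩
    simp only [MulEquiv.coe_toMonoidHom, map_mul, map_inv]
  · rintro _ ⟨ρ, hρ, rfl⟩ h1 h2 x hx
    refine ⟨g⁻¹ * x * g, h.cent ρ hρ ?_ ?_ _ ?_, ?_⟩
    · rintro rfl
      exact h1 (map_one _)
    · apply (MulAut.conj (MulAut.conj g)).injective
      rw [map_mul, map_one]
      exact h2
    · simp only [MulEquiv.coe_toMonoidHom, MulAut.conj_apply, MulAut.mul_apply,
        MulAut.conj_inv_apply] at hx
      calc ρ (g⁻¹ * x * g) = g⁻¹ * (g * ρ (g⁻¹ * x * g) * g⁻¹) * g := by group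
        _ = g⁻¹ * x * g := by rw [hx]
    · simp only [MulEquiv.coe_toMonoidHom, MulAut.conj_apply]
      group
  · rintro _ ⟨j, hj, rfl⟩
    refine ⟨_, h.inn j hj, ?_⟩
    simp only [MulEquiv.coe_toMonoidHom]
    rw [MulAut.conj_apply, conj_conj]
  · rw [Nat.card_congr ((R.equivMapOfInjective _ (MulAut.conj (MulAut.conj g)).injective).symm.toEquiv)]
    exact h.four

variable (D : RedData X)
include D

/-- centralizers of inner involutions -/
theorem cent_le (h : Tight R J M) {b : X} (hb : MulAut.conj b ∈ R) (hb1 : b ≠ 1) (hbb : b * b = 1)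
    {x : X} (hx : x * b = b * x) : x ∈ M := by
  refine h.cent _ hb (D.conj_ne_one hb1) ?_ x ?_
  · rw [← map_mul, hbb, map_one]
  · rw [MulAut.conj_apply, ← hx, mul_inv_cancel_right]

/-- `s, l ∈ J` gives `M = ⊤` -/
theorem finish (h : Tight R J M) (hs : D.s ∈ J) (hl : D.l ∈ J) : M = ⊤ ∧ J ≠ ⊥ := by
  refine ⟨D.gen M (fun g hg => ?_) (fun g hg => ?_), ?_⟩
  · exact h.cent_le D (h.inn _ hs) D.s1 D.ss hg
  · exact h.cent_le D (h.inn _ hl) D.l1 D.ll hg
  · rintro rfl
    exact D.s1 (mem_bot.1 hs)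

/-- (A) if `U ≤ M` then `M = ⊤` -/
theorem of_le [Finite X] (h : Tight R J M) (hU : D.U ≤ M) : M = ⊤ ∧ J ≠ ⊥ := by
  have : Finite (MulAut X) := Finite.of_injective (fun ρ : MulAut X => (ρ : X → X)) DFunLike.coe_injective
  obtain ⟨P, hP, hQP, h4, hPR⟩ := exists_four (X := MulAut X) h.four (Q := D.U.map MulAut.conj) (D.hU.map _) (by
    rintro _ ⟨u, hu, rfl⟩ ρ hρ
    exact h.nR u (hU hu) ρ hρ)
  have h4' : 4 ≤ Nat.card ↥(P ⊓ R) := Nat.le_of_dvd Nat.card_pos h4
  -- `P` fixes `U`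
  have hPU : ∀ ρ ∈ P, ∀ u ∈ D.U, ρ u ∈ D.U := by
    intro ρ hρ u hu
    have h1 : P.comap MulAut.conj = D.U := by
      apply D.max
      · exact hP.comap_of_injective _ (fun a b hab => D.conj_inj hab)
      · intro v hv
        exact hQP ⟨v, hv, rfl⟩
    rw [← h1, mem_comap, ← conj_conj]
    exact mul_mem (mul_mem hρ (hQP ⟨u, hu, rfl⟩)) (inv_mem hρ)
  -- inner elements
  have hin : ∀ ρ ∈ P, ρ D.s = D.s → ∃ b ∈ D.U, ρ = MulAut.conj b := by
    intro ρ hρ hs
    obtain ⟨b, hb⟩ := D.aut2 ρ (hPU ρ hρ) hs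
    refine ⟨b, D.nU b fun u hu => ?_, ?_⟩
    · rw [← hb]
      exact hPU ρ hρ u hu
    · ext x
      rw [hb, MulAut.conj_apply]
  have hJU : ∀ ρ ∈ P ⊓ R, ∀ u ∈ D.U, ρ u * u⁻¹ ∈ J ∧ ρ u * u⁻¹ ∈ D.U := fun ρ hρ u hu =>
    ⟨h.comm u (hU hu) ρ hρ.2, mul_mem (hPU ρ hρ.1 u hu) (inv_mem hu)⟩
  have hcen : ∀ b ∈ D.U, (∀ u ∈ D.U, b * u = u * b) →
      MulAut.conj b = 1 ∨ MulAut.conj b = MulAut.conj D.s ∨ MulAut.conj b = MulAut.conj D.l ∨
        MulAut.conj b = MulAut.conj (D.s * D.l) := by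
    intro b hb hbu
    rcases D.cU b hb hbu with rfl | rfl | rfl | rfl
    · exact Or.inl (map_one _)
    · exact Or.inr (Or.inl rfl)
    · exact Or.inr (Or.inr (Or.inl rfl))
    · exact Or.inr (Or.inr (Or.inr rfl))
  have hJUn : ∀ u ∈ D.U, ∀ z ∈ J ⊓ D.U, u * z * u⁻¹ ∈ J ⊓ D.U := fun u hu z hz =>
    ⟨h.nJ u (hU hu) z hz.1, D.U.mul_mem (D.U.mul_mem hu hz.2) (D.U.inv_mem hu)⟩
  obtain ⟨g, hgs, hgU, hgl, hgs'⟩ := D.move
  by_cases hJ1 : ∀ j ∈ J, j ∈ D.U → j = 1
  · -- `J ∩ U = 1`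
    exfalso
    have h1 : ∀ ρ ∈ P ⊓ R, ρ = 1 ∨ ρ = MulAut.conj D.s ∨ ρ = MulAut.conj D.l ∨ ρ = MulAut.conj (D.s * D.l) := by
      intro ρ hρ
      have h2 : ∀ u ∈ D.U, ρ u = u := fun u hu =>
        mul_inv_eq_one.1 (hJ1 _ (hJU ρ hρ u hu).1 (hJU ρ hρ u hu).2)
      obtain ⟨b, hb, rfl⟩ := hin ρ hρ.1 (h2 _ D.sU)
      apply hcen b hb
      intro u hu
      have := h2 u hu
      rw [MulAut.conj_apply] at this
      calc b * u = b * u * b⁻¹ * b := by group
        _ = u * b := by rw [this]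
    have hs : MulAut.conj D.s ∈ P ⊓ R := mem_of_four h4' h1
    have hl : MulAut.conj D.l ∈ P ⊓ R := mem_of_four (a := (1 : MulAut X)) (b := MulAut.conj D.l)
      (c := MulAut.conj D.s) (d := MulAut.conj (D.s * D.l)) h4' (fun x hx => by
        rcases h1 x hx with h | h | h | h <;> simp [h])
    have hgM : g ∈ M := h.cent_le D hs.2 D.s1 D.ss hgs
    have h2 := h.comm g hgM _ hl.2
    rw [MulAut.conj_apply] at h2
    have h3 : D.l * g * D.l⁻¹ * g⁻¹ = D.l * (g * D.l * g⁻¹)⁻¹ := by group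
    rw [h3] at h2
    have h4 := hJ1 _ h2 (mul_mem D.lU (inv_mem hgU))
    exact hgl (mul_inv_eq_one.1 h4).symm
  · push Not at hJ1
    obtain ⟨j, hjJ, hjU, hj1⟩ := hJ1
    -- a central element in `J`
    obtain ⟨z, hz, hzU, hz1, hzc⟩ := exists_mod D.hU (Z := ⊥) (N := J ⊓ D.U) (by
      intro u _ z hz
      rw [mem_bot] at hz ⊢
      rw [hz]; group) hJUn hjU ⟨hjJ, hjU⟩ (by rw [mem_bot]; exact hj1)
    have hzc' : ∀ u ∈ D.U, z * u = u * z := by
      intro u hu
      have h1 := mem_bot.1 (hzc u hu)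
      calc z * u = z * u * z⁻¹ * u⁻¹ * (u * z) := by group
        _ = u * z := by rw [h1, one_mul]
    rw [mem_bot] at hz1
    -- the three steps
    have four' : ∀ a : X, ∃ ρ ∈ P ⊓ R, ρ ≠ 1 ∧ ρ ≠ MulAut.conj a := fun a => exists_ne_ne h4' _ _
    have hgen : ∀ a ∈ D.U, a ≠ 1 → a * a = 1 → (∀ u ∈ D.U, u * a = a * u) → a ∈ J →
        (∃ w ∈ D.U, w ≠ 1 ∧ w ≠ a ∧ (∀ u ∈ D.U, w * u * w⁻¹ * u⁻¹ = 1 ∨ w * u * w⁻¹ * u⁻¹ = a) ∧
          w ∈ J) ∨ ((∀ w ∈ J, w ∈ D.U → w = 1 ∨ w = a) ∧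
            ∀ ρ ∈ P ⊓ R, ∀ u ∈ D.U, ρ u * u⁻¹ = 1 ∨ ρ u * u⁻¹ = a) := by
      intro a haU ha1 haa hac haJ
      by_cases hw : ∀ w ∈ J, w ∈ D.U → w = 1 ∨ w = a
      · right
        refine ⟨hw, fun ρ hρ u hu => ?_⟩
        exact hw _ (hJU ρ hρ u hu).1 (hJU ρ hρ u hu).2
      · left
        push Not at hw
        obtain ⟨w, hwJ, hwU, hw1, hwa⟩ := hw
        have haz : ∀ x, x ∈ zpowers a ↔ x = 1 ∨ x = a := by
          intro x
          constructor
          · rintro ⟨k, rfl⟩
            have ha2 : a ^ (2 : ℤ) = 1 := by rw [zpow_two]; exact haa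
            rcases Int.even_or_odd' k with ⟨m, rfl | rfl⟩
            · left
              show a ^ (2 * m) = 1
              rw [zpow_mul, ha2, one_zpow]
            · right
              show a ^ (2 * m + 1) = a
              rw [zpow_add, zpow_mul, ha2, one_zpow, one_mul, zpow_one]
          · rintro (rfl | rfl)
            · exact one_mem _
            · exact mem_zpowers _
        obtain ⟨v, hv, hvU, hvZ, hvc⟩ := exists_mod D.hU (Z := zpowers a) (N := J ⊓ D.U) (by
          intro u hu z hz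
          rw [haz] at hz ⊢
          rcases hz with rfl | rfl
          · left; group
          · right
            rw [hac u hu, mul_inv_cancel_right]) hJUn hwU ⟨hwJ, hwU⟩ (by
              rw [haz]
              push Not
              exact ⟨hw1, hwa⟩)
        rw [haz] at hvZ
        push Not at hvZ
        exact ⟨v, hvU, hvZ.1, hvZ.2, fun u hu => (haz _).1 (hvc u hu), hv.1⟩
    -- `s ∈ J → l ∈ J`
    have stS : D.s ∈ J → D.l ∈ J := by
      intro hsJ
      have hCM : ∀ g, g * D.s = D.s * g → g ∈ M := fun g hg => h.cent_le D (h.inn _ hsJ) D.s1 D.ss hg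
      rcases hgen D.s D.sU D.s1 D.ss D.sc hsJ with ⟨w, hwU, hw1, hws, hwc, hwJ⟩ | ⟨hw1, h1⟩
      · refine D.stepS J (fun g hg j hj => h.nJ g (hCM g hg) j hj) w hwU hw1 hws hwc fun g hg => ?_
        exact mul_mem (h.nJ g (hCM g hg) w hwJ) (inv_mem hwJ)
      · obtain ⟨ρ, hρ, hρ1, hρs⟩ := four' D.s
        have h2 : ρ D.s = D.s := by
          rcases D.aut1 ρ (hPU ρ hρ.1) with h2 | h2
          · exact h2
          · exfalso
            rcases h1 ρ hρ _ D.sU with h3 | h3
            · rw [h2] at h3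
              exact D.sl (mul_inv_eq_one.1 h3).symm
            · rw [h2, D.sinv] at h3
              exact D.l1 (mul_eq_right.1 h3)
        obtain ⟨b, hbU, rfl⟩ := hin ρ hρ.1 h2
        refine D.stepS J (fun g hg j hj => h.nJ g (hCM g hg) j hj) b hbU ?_ ?_ ?_ ?_
        · rintro rfl; exact hρ1 (map_one _)
        · rintro rfl; exact hρs rfl
        · intro u hu
          exact h1 _ hρ u hu
        · intro g hg
          have h3 := inv_mem (h.comm g (hCM g hg) _ hρ.2)
          rw [MulAut.conj_apply] at h3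
          rwa [show (b * g * b⁻¹ * g⁻¹)⁻¹ = g * b * g⁻¹ * b⁻¹ by group] at h3
    have stL : D.l ∈ J → D.s ∈ J := by
      intro hsJ
      have hCM : ∀ g, g * D.l = D.l * g → g ∈ M := fun g hg => h.cent_le D (h.inn _ hsJ) D.l1 D.ll hg
      rcases hgen D.l D.lU D.l1 D.ll D.lc hsJ with ⟨w, hwU, hw1, hws, hwc, hwJ⟩ | ⟨hw1, h1⟩
      · refine D.stepL J (fun g hg j hj => h.nJ g (hCM g hg) j hj) w hwU hw1 hws hwc fun g hg => ?_
        exact mul_mem (h.nJ g (hCM g hg) w hwJ) (inv_mem hwJ)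
      · obtain ⟨ρ, hρ, hρ1, hρs⟩ := four' D.l
        have h2 : ρ D.s = D.s := by
          rcases D.aut1 ρ (hPU ρ hρ.1) with h2 | h2
          · exact h2
          · exfalso
            rcases h1 ρ hρ _ D.sU with h3 | h3
            · rw [h2] at h3
              exact D.sl (mul_inv_eq_one.1 h3).symm
            · rw [h2] at h3
              exact D.s1 (inv_eq_one.1 (mul_eq_left.1 h3))
        obtain ⟨b, hbU, rfl⟩ := hin ρ hρ.1 h2
        refine D.stepL J (fun g hg j hj => h.nJ g (hCM g hg) j hj) b hbU ?_ ?_ ?_ ?_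
        · rintro rfl; exact hρ1 (map_one _)
        · rintro rfl; exact hρs rfl
        · intro u hu
          exact h1 _ hρ u hu
        · intro g hg
          have h3 := inv_mem (h.comm g (hCM g hg) _ hρ.2)
          rw [MulAut.conj_apply] at h3
          rwa [show (b * g * b⁻¹ * g⁻¹)⁻¹ = g * b * g⁻¹ * b⁻¹ by group] at h3
    have stC : D.s * D.l ∈ J → D.s ∈ J ∨ D.l ∈ J := by
      intro hcJ
      rcases hgen (D.s * D.l) (mul_mem D.sU D.lU) D.c1 D.cc D.cc' hcJ with ⟨w, hwU, hw1, hws, hwc, hwJ⟩ | ⟨hw1, h1⟩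
      · rcases D.cU w hwU (D.stepC w hwU hwc) with rfl | rfl | rfl | rfl
        · exact absurd rfl hw1
        · exact Or.inl hwJ
        · exact Or.inr hwJ
        · exact absurd rfl hws
      · exfalso
        have h3 : ∀ ρ ∈ P ⊓ R, ρ = 1 ∨ ρ = MulAut.conj D.s ∨ ρ = MulAut.conj D.l ∨
            ρ = MulAut.conj (D.s * D.l) := by
          intro ρ hρ
          have h2 : ρ D.s = D.s := by
            rcases D.aut1 ρ (hPU ρ hρ.1) with h2 | h2
            · exact h2
            · exfalso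
              obtain ⟨u, hu, hu1, hu2⟩ := D.aut3 ρ (hPU ρ hρ.1) h2
              rcases h1 ρ hρ u hu with h3 | h3
              · exact hu1 h3
              · exact hu2 h3
          obtain ⟨b, hbU, rfl⟩ := hin ρ hρ.1 h2
          exact hcen b hbU (D.stepC b hbU fun u hu => h1 _ hρ u hu)
        have hs : MulAut.conj D.s ∈ P ⊓ R := mem_of_four h4' h3
        have hgM : g ∈ M := h.cent_le D hs.2 D.s1 D.ss hgs
        have h5 := h.nJ g hgM _ hcJ
        have h6 : g * (D.s * D.l) * g⁻¹ = D.s * (g * D.l * g⁻¹) := by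
          rw [← mul_assoc, hgs]; group
        rw [h6] at h5
        rcases hw1 _ h5 (mul_mem D.sU hgU) with h7 | h7
        · apply hgs'
          rw [← D.sinv]
          exact (inv_eq_of_mul_eq_one_right h7).symm
        · exact hgl (mul_left_cancel h7)
    rcases D.cU z hzU hzc' with h1 | h1 | h1 | h1
    · exact absurd h1 hz1
    · have hsJ : D.s ∈ J := h1 ▸ hz.1
      exact h.finish D hsJ (stS hsJ)
    · have hlJ : D.l ∈ J := h1 ▸ hz.1
      exact h.finish D (stL hlJ) hlJ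
    · have hcJ : D.s * D.l ∈ J := h1 ▸ hz.1
      rcases stC hcJ with h2 | h2
      · exact h.finish D h2 (stS h2)
      · exact h.finish D (stL h2) h2

/-- no involution of `R` of central type -/
theorem central_false (h : Tight R J M) (hno : ∀ g : X, ¬ ∀ u ∈ D.U, g * u * g⁻¹ ∈ M) {b : X}
    (hb : MulAut.conj b ∈ R) (hb1 : b ≠ 1) (hbb : b * b = 1)
    (hc : ∃ g : X, ∀ u ∈ D.U, b * (g * u * g⁻¹) = (g * u * g⁻¹) * b) : False := by
  obtain ⟨g, hg⟩ := hc
  exact hno g fun u hu => h.cent_le D hb hb1 hbb (hg u hu).symm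

end Tight

/-- involutions in 2-groups -/
theorem exists_pow_inv {Y : Type*} [Group Y] {T : Subgroup Y} (hT : IsPGroup 2 T) {x : Y} (hx : x ∈ T)
    (hx1 : x ≠ 1) : ∃ k : ℕ, x ^ k ≠ 1 ∧ x ^ k * x ^ k = 1 := by
  obtain ⟨n, hn⟩ := hT ⟨x, hx⟩
  have hn' : x ^ 2 ^ n = 1 := by
    have := congrArg Subtype.val hn
    simpa using this
  clear hn
  induction n with
  | zero => rw [pow_zero, pow_one] at hn'; exact absurd hn' hx1
  | succ n ih =>
    by_cases h : x ^ 2 ^ n = 1
    · exact ih h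
    · exact ⟨2 ^ n, h, by rw [← pow_add, ← two_mul, ← pow_succ']; exact hn'⟩

namespace Tight

variable {R : Subgroup (MulAut X)} {J M : Subgroup X} (D : RedData X)
include D

/-- (B2) -/
theorem false_of_inner [Finite X] (h : Tight R J M) (hno : ∀ g : X, ¬ ∀ u ∈ D.U, g * u * g⁻¹ ∈ M)
    (hin : ∀ T : Subgroup (MulAut X), T ≤ R → IsPGroup 2 T → ∀ ρ ∈ T, ∃ b, ρ = MulAut.conj b)
    {b₀ : X} (hb : MulAut.conj b₀ ∈ R) (hbQ : b₀ ∈ D.Q) (hb1 : b₀ ≠ 1) (hbb : b₀ * b₀ = 1)
    (h4 : 4 ∣ Nat.card ↥(R ⊓ centralizer {MulAut.conj b₀})) : False := by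
  have : Finite (MulAut X) := Finite.of_injective (fun ρ : MulAut X => (ρ : X → X)) DFunLike.coe_injective
  have hsb : D.s * b₀ = b₀ * D.s := (D.qs b₀ hbQ).symm
  have hsM : D.s ∈ M := h.cent_le D hb hb1 hbb hsb
  have e1 : MulAut.conj D.s * MulAut.conj D.s = 1 := by rw [← map_mul, D.ss, map_one]
  have e2 : MulAut.conj b₀ * MulAut.conj b₀ = 1 := by rw [← map_mul, hbb, map_one]
  have e3 : MulAut.conj D.s * MulAut.conj b₀ = MulAut.conj b₀ * MulAut.conj D.s := by
    rw [← map_mul, ← map_mul, hsb]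
  set Q := Cfsg.Agent.StdAlt.Pairs.four (MulAut.conj D.s) (MulAut.conj b₀) e1 e2 e3 with hQ
  have hQp : IsPGroup 2 Q := isPGroup_of_sq fun x hx => four_sq hx
  set R₀ := R ⊓ centralizer {MulAut.conj b₀} with hR₀
  have hn1 : ∀ r ∈ R₀, MulAut.conj D.s * r * (MulAut.conj D.s)⁻¹ ∈ R₀ := by
    rintro r ⟨hr, hrc⟩
    refine ⟨h.nR _ hsM r hr, ?_⟩
    have h1 := mem_cent.1 hrc
    refine mem_cent.2 ?_
    have e4 : (MulAut.conj D.s)⁻¹ * MulAut.conj b₀ = MulAut.conj b₀ * (MulAut.conj D.s)⁻¹ := by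
      rw [inv_mul_eq_iff_eq_mul, ← mul_assoc, e3, mul_inv_cancel_right]
    calc MulAut.conj D.s * r * (MulAut.conj D.s)⁻¹ * MulAut.conj b₀
        = MulAut.conj D.s * r * (MulAut.conj b₀ * (MulAut.conj D.s)⁻¹) := by rw [← e4]; group
      _ = MulAut.conj D.s * (r * MulAut.conj b₀) * (MulAut.conj D.s)⁻¹ := by group
      _ = (MulAut.conj D.s * MulAut.conj b₀) * r * (MulAut.conj D.s)⁻¹ := by rw [h1]; group
      _ = MulAut.conj b₀ * (MulAut.conj D.s * r * (MulAut.conj D.s)⁻¹) := by rw [e3]; group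
  have hbR₀ : MulAut.conj b₀ ∈ R₀ := ⟨hb, mem_cent.2 rfl⟩
  have hn2 : ∀ r ∈ R₀, MulAut.conj b₀ * r * (MulAut.conj b₀)⁻¹ ∈ R₀ := fun r hr =>
    mul_mem (mul_mem hbR₀ hr) (inv_mem hbR₀)
  obtain ⟨P, hP, hQP, hP4, hPn⟩ := exists_four (X := MulAut X) h4 hQp (by
    intro q hq r hr
    rcases mem_four.1 hq with rfl | rfl | rfl | rfl
    · rwa [one_mul, inv_one, mul_one]
    · exact hn1 r hr
    · exact hn2 r hr
    · have := hn1 _ (hn2 r hr)
      rwa [mul_inv_rev, show MulAut.conj D.s * MulAut.conj b₀ * r * ((MulAut.conj b₀)⁻¹ * (MulAut.conj D.s)⁻¹) =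
        MulAut.conj D.s * (MulAut.conj b₀ * r * (MulAut.conj b₀)⁻¹) * (MulAut.conj D.s)⁻¹ by group])
  have h4' : 4 ≤ Nat.card ↥(P ⊓ R₀) := Nat.le_of_dvd Nat.card_pos hP4
  have hsP : MulAut.conj D.s ∈ P := hQP (mem_four.2 (Or.inr (Or.inl rfl)))
  have hbP : MulAut.conj b₀ ∈ P := hQP (mem_four.2 (Or.inr (Or.inr (Or.inl rfl))))
  have hTp : IsPGroup 2 ↥(P ⊓ R₀) := hP.to_le inf_le_left
  have hTin : ∀ ρ ∈ P ⊓ R₀, ∃ b, ρ = MulAut.conj b :=
    hin _ (inf_le_right.trans inf_le_left) hTp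
  -- (i)
  have hi : ∀ b, MulAut.conj b ∈ P ⊓ R₀ → b * D.s * b⁻¹ = D.s := by
    intro b hbT
    by_contra hne
    obtain ⟨n, hn⟩ := hP ⟨MulAut.conj (D.s * (b * D.s * b⁻¹)), by
      rw [map_mul, map_mul, map_mul, map_inv]
      exact mul_mem hsP (mul_mem (mul_mem hbT.1 hsP) (inv_mem hbT.1))⟩
    have hn' : (D.s * (b * D.s * b⁻¹)) ^ 2 ^ n = 1 := by
      apply D.conj_inj
      rw [map_pow, map_one]
      have := congrArg Subtype.val hn
      simpa using this
    obtain ⟨m, hm1, hmm, hmc⟩ := D.pair b hne n hn'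
    have h1 : D.s * (b * D.s * b⁻¹) ∈ J := by
      have h2 := inv_mem (h.comm D.s hsM _ hbT.2.1)
      rw [MulAut.conj_apply] at h2
      have h3 : (b * D.s * b⁻¹ * D.s⁻¹)⁻¹ = D.s * (b * D.s * b⁻¹) := by
        rw [mul_inv_rev, inv_inv, mul_inv_rev, mul_inv_rev, inv_inv, D.sinv, mul_assoc b]
      rwa [h3] at h2
    exact h.central_false D hno (h.inn _ (pow_mem h1 m)) hm1 hmm hmc
  have hi' : ∀ b, MulAut.conj b ∈ P ⊓ R₀ → b * D.s = D.s * b := fun b hbT => by
    calc b * D.s = b * D.s * b⁻¹ * b := by group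
      _ = D.s * b := by rw [hi b hbT]
  -- (ii)
  have hii : ∀ b, MulAut.conj b ∈ P ⊓ R₀ → b ∈ D.Q := by
    intro b hbT
    refine D.cW b (hi' b hbT) fun w hw => ?_
    have hwM : w ∈ M := h.cent_le D hb hb1 hbb (D.wq w hw b₀ hbQ)
    have h1 := h.comm w hwM _ hbT.2.1
    rw [MulAut.conj_apply] at h1
    have h2 : b * w * b⁻¹ * w⁻¹ ∈ D.W := mul_mem (D.wn b (hi' b hbT) w hw) (inv_mem hw)
    rcases D.wc _ h2 with h3 | ⟨h3, h4⟩
    · calc b * w = b * w * b⁻¹ * w⁻¹ * (w * b) := by group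
        _ = w * b := by rw [h3, one_mul]
    · by_contra hne
      refine h.central_false D hno (h.inn _ h1) (fun h5 => hne ?_) h3 h4
      calc b * w = b * w * b⁻¹ * w⁻¹ * (w * b) := by group
        _ = w * b := by rw [h5, one_mul]
  -- (iii)
  have hiii : ∀ b, MulAut.conj b ∈ P ⊓ R₀ → b ∈ D.W := by
    intro b hbT
    refine D.cQ b (hii b hbT) fun q hq => ?_
    -- an involution commuting with `q`
    have h1 : ∃ c, MulAut.conj c ∈ P ⊓ R₀ ∧ c ≠ 1 ∧ c * q = q * c := by
      obtain ⟨ρ₁, hρ₁, h11, -⟩ := exists_ne_ne h4' 1 1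
      obtain ⟨b₁, rfl⟩ := hTin _ hρ₁
      obtain ⟨ρ₂, hρ₂, h21, h22⟩ := exists_ne_ne h4' 1 (MulAut.conj b₁)
      obtain ⟨b₂, rfl⟩ := hTin _ hρ₂
      have k1 : b₁ ≠ 1 := by rintro rfl; exact h11 (map_one _)
      have k2 : b₂ ≠ 1 := by rintro rfl; exact h21 (map_one _)
      have key : ∀ c, c * q * c⁻¹ * q⁻¹ = 1 → c * q = q * c := fun c hc => by
        calc c * q = c * q * c⁻¹ * q⁻¹ * (q * c) := by group
          _ = q * c := by rw [hc, one_mul]
      rcases D.qq _ (hii _ hρ₁) q hq with h5 | h5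
      · exact ⟨b₁, hρ₁, k1, key _ h5⟩
      rcases D.qq _ (hii _ hρ₂) q hq with h6 | h6
      · exact ⟨b₂, hρ₂, k2, key _ h6⟩
      refine ⟨b₁⁻¹ * b₂, ?_, ?_, ?_⟩
      · rw [map_mul, map_inv]; exact mul_mem (inv_mem hρ₁) hρ₂
      · intro h7
        apply h22
        rw [inv_mul_eq_one.1 h7]
      · have h7 : b₂ * q * b₂⁻¹ = b₁ * q * b₁⁻¹ := by
          have := h6.trans h5.symm
          exact mul_right_cancel this
        calc b₁⁻¹ * b₂ * q = b₁⁻¹ * (b₂ * q * b₂⁻¹) * b₂ := by group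
          _ = q * (b₁⁻¹ * b₂) := by rw [h7]; group
    obtain ⟨c, hcT, hc1, hcq⟩ := h1
    have hc1' : MulAut.conj c ≠ 1 := D.conj_ne_one hc1
    obtain ⟨k, hk1, hk2⟩ := exists_pow_inv hTp hcT hc1'
    have hk1' : c ^ k ≠ 1 := by
      intro e
      apply hk1
      rw [← map_pow, e, map_one]
    have hk2' : c ^ k * c ^ k = 1 := by
      apply D.conj_inj
      rw [map_mul, map_pow, map_one]
      exact hk2
    have hqM : q ∈ M := by
      refine h.cent_le D (b := c ^ k) ?_ hk1' hk2' ?_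
      · rw [map_pow]
        exact (pow_mem hcT k).2.1
      · have : Commute c q := hcq
        exact ((this.pow_left k).symm).eq
    have h5 := h.comm q hqM _ hbT.2.1
    rw [MulAut.conj_apply] at h5
    rcases D.qq b (hii b hbT) q hq with h6 | h6
    · calc b * q = b * q * b⁻¹ * q⁻¹ * (q * b) := by group
        _ = q * b := by rw [h6, one_mul]
    · exfalso
      rw [h6] at h5
      exact h.central_false D hno (h.inn _ h5) D.s1 D.ss ⟨1, fun u hu => by
        rw [one_mul, inv_one, mul_one]; exact (D.sc u hu).symm⟩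
  rcases D.wc _ (hiii b₀ ⟨hbP, hbR₀⟩) with h5 | ⟨-, h6⟩
  · exact hb1 h5
  · exact h.central_false D hno hb hb1 hbb h6

/-- (B1) -/
theorem inner_of_fix [Finite X] (h : Tight R J M) (hno : ∀ g : X, ¬ ∀ u ∈ D.U, g * u * g⁻¹ ∈ M)
    {P : Subgroup (MulAut X)} (hP : IsPGroup 2 P) (hPR : P ≤ R) (h4 : 4 ≤ Nat.card P)
    (hPU : ∀ ρ ∈ P, ∀ u ∈ D.U, ρ u ∈ D.U) : ∀ ρ ∈ P, ∃ b, ρ = MulAut.conj b := by
  have : Finite (MulAut X) := Finite.of_injective (fun ρ : MulAut X => (ρ : X → X)) DFunLike.coe_injective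
  have hin : ∀ ρ ∈ P, ρ D.s = D.s → ∃ b, ρ = MulAut.conj b := by
    intro ρ hρ hs
    obtain ⟨b, hb⟩ := D.aut2 ρ (hPU ρ hρ) hs
    exact ⟨b, by ext x; rw [hb, MulAut.conj_apply]⟩
  intro ρ hρ
  by_contra hni
  have hρs : ρ D.s = D.l := by
    rcases D.aut1 ρ (hPU ρ hρ) with h1 | h1
    · exact absurd (hin ρ hρ h1) hni
    · exact h1
  -- a nontrivial inner element
  have h1 : ∃ b, MulAut.conj b ∈ P ∧ b ≠ 1 := by
    obtain ⟨σ, hσ, hσ1, hσρ⟩ := exists_ne_ne h4 1 ρ
    rcases D.aut1 σ (hPU σ hσ) with h2 | h2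
    · obtain ⟨b, rfl⟩ := hin σ hσ h2
      exact ⟨b, hσ, fun e => hσ1 (by rw [e, map_one])⟩
    · have h3 : (σ⁻¹ * ρ) D.s = D.s := by
        rw [MulAut.mul_apply, hρs, ← h2, MulAut.inv_apply_self]
      obtain ⟨b, hb⟩ := hin (σ⁻¹ * ρ) (mul_mem (inv_mem hσ) hρ) h3
      refine ⟨b, hb ▸ mul_mem (inv_mem hσ) hρ, ?_⟩
      rintro rfl
      rw [map_one] at hb
      exact hσρ (inv_mul_eq_one.1 hb)
  obtain ⟨b, hbP, hb1⟩ := h1
  obtain ⟨k, hk1, hk2⟩ := exists_pow_inv hP hbP (D.conj_ne_one hb1)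
  rw [← map_pow] at hk1 hk2
  have hb' : MulAut.conj (b ^ k) ∈ P := by rw [map_pow]; exact pow_mem hbP k
  have hk1' : b ^ k ≠ 1 := fun e => hk1 (by rw [e, map_one])
  have hk2' : b ^ k * b ^ k = 1 := by
    apply D.conj_inj
    rw [map_mul, map_one]
    exact hk2
  have hbU : b ^ k ∈ D.U := D.nU _ fun u hu => by
    have := hPU _ hb' u hu
    rwa [MulAut.conj_apply] at this
  have hsM : D.s ∈ M := h.cent_le D (hPR hb') hk1' hk2' (D.sc _ hbU).symm
  have h2 := h.comm D.s hsM ρ (hPR hρ)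
  rw [hρs, D.sinv, ← D.scl] at h2
  exact h.central_false D hno (h.inn _ h2) D.c1 D.cc ⟨1, fun u hu => by
    rw [one_mul, inv_one, mul_one]; exact (D.cc' u hu).symm⟩

end Tight

end Cfsg.Agent.F42.Red
end

-- part: F42/RedMain
section
/-!
# The tight situation: `M = ⊤` in all cases
-/

set_option autoImplicit false

namespace Cfsg.Agent.F42.Red

open Subgroup Cfsg.Agent.StdAlt.Pairs

variable {X : Type*} [Group X]

namespace Tight

variable {R : Subgroup (MulAut X)} {J M : Subgroup X} (D : RedData X)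

/-- a conjugate automorphism is inner if and only if the automorphism is -/
theorem inner_conj {g : X} {ρ : MulAut X} (h : ∃ b, MulAut.conj (MulAut.conj g) ρ = MulAut.conj b) :
    ∃ b, ρ = MulAut.conj b := by
  obtain ⟨b, hb⟩ := h
  refine ⟨g⁻¹ * b * g, ?_⟩
  rw [MulAut.conj_apply] at hb
  rw [map_mul, map_mul, map_inv, ← hb]
  group

theorem exists_central {Y : Type*} [Group Y] [Finite Y] {P : Subgroup Y} (hP : IsPGroup 2 P) (h : P ≠ ⊥) :
    ∃ r ∈ P, r ≠ 1 ∧ r * r = 1 ∧ ∀ x ∈ P, x * r = r * x :=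
  Cfsg.Agent.StdAlt.First.exists_comm_inv hP le_rfl h fun _ hx _ hr =>
    mul_mem (mul_mem hx hr) (inv_mem hx)

include D

theorem main [Finite X] (h : Tight R J M) : M = ⊤ ∧ J ≠ ⊥ := by
  have hfin : Finite (MulAut X) := Finite.of_injective (fun ρ : MulAut X => (ρ : X → X)) DFunLike.coe_injective
  by_cases hM : ∃ g : X, ∀ u ∈ D.U, g * u * g⁻¹ ∈ M
  · obtain ⟨g, hg⟩ := hM
    obtain ⟨h1, h2⟩ := (h.conj g⁻¹).of_le D (by
      intro u hu
      refine ⟨g * u * g⁻¹, hg u hu, ?_⟩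
      simp only [MulEquiv.coe_toMonoidHom, MulAut.conj_apply]
      group)
    constructor
    · rw [eq_top_iff]
      intro x _
      have h3 : (MulAut.conj g⁻¹) x ∈ M.map (MulAut.conj g⁻¹).toMonoidHom := by rw [h1]; trivial
      obtain ⟨m, hm, hmx⟩ := h3
      have h4 : m = x := (MulAut.conj g⁻¹).injective hmx
      exact h4 ▸ hm
    · rintro rfl
      exact h2 (Subgroup.map_bot _)
  · exfalso
    push Not at hM
    have hno : ∀ g : X, ¬ ∀ u ∈ D.U, g * u * g⁻¹ ∈ M := by
      intro g hg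
      obtain ⟨u, hu, hu'⟩ := hM g
      exact hu' (hg u hu)
    have hnoc : ∀ k g : X, ¬ ∀ u ∈ D.U, g * u * g⁻¹ ∈ M.map (MulAut.conj k).toMonoidHom := by
      intro k g hg
      apply hno (k⁻¹ * g)
      intro u hu
      obtain ⟨m, hm, hmx⟩ := hg u hu
      have h1 : m = k⁻¹ * g * u * (k⁻¹ * g)⁻¹ := by
        have : k * m * k⁻¹ = g * u * g⁻¹ := hmx
        calc m = k⁻¹ * (k * m * k⁻¹) * k := by group
          _ = k⁻¹ * g * u * (k⁻¹ * g)⁻¹ := by rw [this]; group
      exact h1 ▸ hm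
    -- a Sylow 2-subgroup of `R`
    obtain ⟨P, hP, -, hPR, hPm⟩ := exists_two_subgroup R ⊥ (IsPGroup.of_bot) bot_le
    have hP4 : 4 ∣ Nat.card P := hPm 2 h.four
    have hP4' : 4 ≤ Nat.card P := Nat.le_of_dvd Nat.card_pos hP4
    have hmax : ∀ Q : Subgroup (MulAut X), IsPGroup 2 Q → P ≤ Q → Q ≤ R → Q = P := by
      intro Q hQ hPQ hQR
      obtain ⟨m, hm⟩ := hQ.exists_card_eq
      have h1 : 2 ^ m ∣ Nat.card P := hPm m (hm ▸ card_dvd_of_le hQR)
      exact (eq_of_le_of_card_ge hPQ (by rw [hm]; exact Nat.le_of_dvd Nat.card_pos h1)).symm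
    -- all elements of `P` are inner
    have hPin : ∀ ρ ∈ P, ∃ b, ρ = MulAut.conj b := by
      obtain ⟨S, hS⟩ := exists_sylow_fixed hP
      let US : Sylow 2 X := ⟨D.U, D.hU, fun {Q} hQ hUQ => D.max hQ hUQ⟩
      obtain ⟨g, hg⟩ := MulAction.exists_smul_eq X S US
      -- `g S g⁻¹ = U`
      have hgS : ∀ x, x ∈ S ↔ g * x * g⁻¹ ∈ D.U := by
        intro x
        have e : (D.U : Subgroup X) = ((g • S : Sylow 2 X) : Subgroup X) := by rw [hg]
        have e2 : ((g • S : Sylow 2 X) : Subgroup X) = (S : Subgroup X).map (MulAut.conj g).toMonoidHom := rfl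
        rw [e, e2]
        constructor
        · intro hx
          exact ⟨x, hx, rfl⟩
        · rintro ⟨y, hy, hyx⟩
          have : y = x := (MulAut.conj g).injective hyx
          exact this ▸ hy
      intro ρ hρ
      apply inner_conj (g := g)
      refine (h.conj g).inner_of_fix D (hnoc g) (P := P.map (MulAut.conj (MulAut.conj g)).toMonoidHom)
        (hP.map _) (map_mono hPR) ?_ ?_ _ ⟨ρ, hρ, rfl⟩
      · rw [Nat.card_congr ((P.equivMapOfInjective _ (MulAut.conj (MulAut.conj g)).injective).symm.toEquiv)]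
        exact hP4'
      · rintro _ ⟨σ, hσ, rfl⟩ u hu
        simp only [MulEquiv.coe_toMonoidHom, MulAut.conj_apply, MulAut.mul_apply, MulAut.conj_inv_apply]
        rw [← hgS]
        apply hS σ hσ
        rw [hgS, show g * (g⁻¹ * u * g) * g⁻¹ = u by group]
        exact hu
    have hin : ∀ T : Subgroup (MulAut X), T ≤ R → IsPGroup 2 T → ∀ ρ ∈ T, ∃ b, ρ = MulAut.conj b := by
      intro T hTR hT ρ hρ
      obtain ⟨σ, -, hσ⟩ := exists_conj_le R P T hP hT hPR hTR hmax
      obtain ⟨b, hb⟩ := hPin _ (hσ ρ hρ)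
      refine ⟨σ⁻¹ b, ?_⟩
      rw [← conj_conj, ← hb]
      group
    -- a central involution
    obtain ⟨r, hrP, hr1, hrr, hrc⟩ := exists_central hP (by
      rintro rfl
      rw [card_bot] at hP4'
      omega)
    obtain ⟨b, rfl⟩ := hPin r hrP
    have hb1 : b ≠ 1 := by rintro rfl; exact hr1 (map_one _)
    have hbb : b * b = 1 := by
      apply D.conj_inj
      rw [map_mul, hrr, map_one]
    obtain ⟨k, hk⟩ := D.inv b hb1 hbb
    have ek : MulAut.conj (MulAut.conj k) (MulAut.conj b) = MulAut.conj (k * b * k⁻¹) := by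
      rw [MulAut.conj_apply, map_mul, map_mul, map_inv]
    refine (h.conj k).false_of_inner D (hnoc k) ?_ (b₀ := k * b * k⁻¹) ?_ hk ?_ ?_ ?_
    · intro T hTR hT ρ hρ
      have h1 : ∃ c, MulAut.conj (MulAut.conj k⁻¹) ρ = MulAut.conj c := by
        refine hin (T.map (MulAut.conj (MulAut.conj k⁻¹)).toMonoidHom) ?_ (hT.map _) _ ⟨ρ, hρ, rfl⟩
        rintro _ ⟨σ, hσ, rfl⟩
        obtain ⟨τ, hτ, rfl⟩ := hTR hσ
        have e : (MulAut.conj (MulAut.conj k⁻¹)).toMonoidHom ((MulAut.conj (MulAut.conj k)).toMonoidHom τ) = τ := by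
          simp only [MulEquiv.coe_toMonoidHom, map_inv, MulAut.inv_apply_self]
        rw [e]
        exact hτ
      exact inner_conj h1
    · rw [← ek]
      exact ⟨_, hPR hrP, rfl⟩
    · intro e
      apply hb1
      calc b = k⁻¹ * (k * b * k⁻¹) * k := by group
        _ = 1 := by rw [e]; group
    · calc k * b * k⁻¹ * (k * b * k⁻¹) = k * (b * b) * k⁻¹ := by group
        _ = 1 := by rw [hbb]; group
    · refine Dvd.dvd.trans ?_ (card_dvd_of_le (H := P.map (MulAut.conj (MulAut.conj k)).toMonoidHom) ?_)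
      · rw [Nat.card_congr ((P.equivMapOfInjective _ (MulAut.conj (MulAut.conj k)).injective).symm.toEquiv)]
        exact hP4
      · rintro _ ⟨σ, hσ, rfl⟩
        refine ⟨⟨σ, hPR hσ, rfl⟩, mem_cent.2 ?_⟩
        rw [← ek]
        simp only [MulEquiv.coe_toMonoidHom]
        rw [← map_mul, ← map_mul, hrc σ hσ]

end Tight

end Cfsg.Agent.F42.Red
end

-- part: F42/RedStd
section
/-!
# Reduction for a standard subgroup `A ≅ X`

`X` a finite simple group with `RedData X` (in the application `F₄(2)`), `f : X →* G` injective with range `A`.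

* `not_four_dvd`: `4 ∤ |C(A)|`.
* `exists_ctx`: there is an involution `t` with `C_G(t) ≤ N(A)`, `C(A) ∩ C_G(t) = {1, t}`, and any two elements of
  `C_G(t)` outside `A ∪ t A` differ by an element of `A ∪ t A`.
-/

set_option autoImplicit false

namespace Cfsg.Agent.F42.Red

open Subgroup Cfsg.Agent.StdAlt.Conj Cfsg.Agent.StdAlt.Pairs Cfsg.Agent.StdAlt.First

variable {X G : Type*} [Group X] [Group G]

/-- the action of `N(f.range)` on `X` -/
noncomputable def act (f : X →* G) (hf : Function.Injective f) : ↥(N f.range) →* MulAut X :=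
  (MulAut.congr (MonoidHom.ofInjective hf).symm).toMonoidHom.comp f.range.normalizerMonoidHom

theorem f_act (f : X →* G) (hf : Function.Injective f) (r : ↥(N f.range)) (x : X) :
    f (act f hf r x) = (r : G) * f x * (r : G)⁻¹ := by
  have h1 : act f hf r x = (MonoidHom.ofInjective hf).symm
      (f.range.normalizerMonoidHom r (MonoidHom.ofInjective hf x)) := rfl
  rw [h1]
  have h2 : ∀ y : f.range, f ((MonoidHom.ofInjective hf).symm y) = y := by
    intro y
    obtain ⟨z, rfl⟩ := (MonoidHom.ofInjective hf).surjective y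
    rw [MulEquiv.symm_apply_apply]
    rfl
  rw [h2]
  rfl

/-- the tight situation given by a good pair -/
theorem exists_tight [Finite G] {A : Subgroup G} (hA : TE A) (f : X →* G) (hf : Function.Injective f)
    (hB : Cj A f.range) (hne : A ≠ f.range) (h4 : 4 ∣ Nat.card ↥(C A ⊓ N f.range)) :
    ∃ R : Subgroup (MulAut X), Tight R ((C A).comap f) ((N A).comap f) := by
  have hodd : ∀ k, k ∈ C A → k ∈ C f.range → Odd (orderOf k) := by
    intro k hk hk'
    rw [← Nat.not_even_iff_odd]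
    rintro ⟨m, hm⟩
    have h0 : 0 < orderOf k := orderOf_pos k
    have h1 : k ^ m ≠ 1 := by
      intro e
      have := Nat.le_of_dvd (by omega) (orderOf_dvd_of_pow_eq_one e)
      omega
    refine hne (hA.eq_of_mem hB h1 ?_ (pow_mem hk m) (pow_mem hk' m))
    rw [← pow_add, ← hm, pow_orderOf_eq_one]
  set φ := act f hf with hφ
  have key : ∀ (r : ↥(N f.range)) (x : X), f (φ r x) = (r : G) * f x * (r : G)⁻¹ := f_act f hf
  have hker : ∀ r : ↥(N f.range), φ r = 1 → (r : G) ∈ C f.range := by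
    intro r hr
    rw [mem_C]
    rintro _ ⟨x, rfl⟩
    have h1 := key r x
    rw [hr, MulAut.one_apply] at h1
    calc (r : G) * f x = ((r : G) * f x * (r : G)⁻¹) * r := by group
      _ = f x * r := by rw [← h1]
  refine ⟨((C A).subgroupOf (N f.range)).map φ, ?_, ?_, ?_, ?_, ?_, ?_, ?_⟩
  · rintro x hx _ ⟨r, hr, rfl⟩
    have hr' : (r : G) ∈ C A := mem_subgroupOf.1 hr
    rw [mem_comap, map_mul, map_inv, key,
      show (r : G) * f x * (r : G)⁻¹ * (f x)⁻¹ = (r : G) * (f x * (r : G)⁻¹ * (f x)⁻¹) by group]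
    exact mul_mem hr' (conj_mem_C hx (inv_mem hr'))
  · rintro x hx _ ⟨r, hr, rfl⟩
    have hr' : (r : G) ∈ C A := mem_subgroupOf.1 hr
    have hxN : f x ∈ N f.range := le_N ⟨x, rfl⟩
    refine ⟨⟨f x, hxN⟩ * r * ⟨f x, hxN⟩⁻¹, mem_subgroupOf.2 (conj_mem_C hx hr'), ?_⟩
    ext y
    apply hf
    rw [key]
    simp only [MulAut.mul_apply, MulAut.conj_apply, MulAut.conj_inv_apply, map_mul, map_inv]
    rw [key]
    simp only [coe_mul, InvMemClass.coe_inv]
    rw [key]
    simp only [mul_inv_rev, inv_inv]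
    group
  · intro j hj
    exact C_le_N hj
  · intro x hx j hj
    rw [mem_comap, map_mul, map_mul, map_inv]
    exact conj_mem_C hx hj
  · rintro _ ⟨r, hr, rfl⟩ hρ1 hρρ x hx
    have hr' : (r : G) ∈ C A := mem_subgroupOf.1 hr
    have h1 : ((r * r : ↥(N f.range)) : G) ∈ C f.range := hker _ (by rw [map_mul]; exact hρρ)
    rw [coe_mul] at h1
    obtain ⟨m, hm⟩ := hodd _ (mul_mem hr' hr') h1
    -- `r ^ (2 m + 1)` is an involution inducing the same automorphism
    have h2 : φ (r ^ (2 * m + 1)) = φ r := by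
      rw [map_pow, pow_succ, pow_mul, sq, hρρ, one_pow, one_mul]
    have h3 : ((r : G) ^ (2 * m + 1)) * ((r : G) ^ (2 * m + 1)) = 1 := by
      have e : ((r : G) * r) ^ (2 * m + 1) = 1 := by rw [← hm, pow_orderOf_eq_one]
      rw [← e, ← pow_add, ← sq, ← pow_mul]
      congr 1
      ring
    have h4 : (r : G) ^ (2 * m + 1) ≠ 1 := by
      intro e
      apply hρ1
      rw [← h2]
      have : r ^ (2 * m + 1) = 1 := Subtype.ext (by rw [coe_pow, e, coe_one])
      rw [this, map_one]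
    refine hA.nrm (k := (r : G) ^ (2 * m + 1)) (pow_mem hr' _) h4 h3 ?_
    have h5 := key (r ^ (2 * m + 1)) x
    rw [h2, hx, coe_pow] at h5
    calc f x * (r : G) ^ (2 * m + 1) = ((r : G) ^ (2 * m + 1) * f x * ((r : G) ^ (2 * m + 1))⁻¹) *
          (r : G) ^ (2 * m + 1) := by rw [← h5]
      _ = (r : G) ^ (2 * m + 1) * f x := by group
  · intro j hj
    have hjN : f j ∈ N f.range := le_N ⟨j, rfl⟩
    refine ⟨⟨f j, hjN⟩, mem_subgroupOf.2 hj, ?_⟩
    ext y
    apply hf
    rw [key, MulAut.conj_apply, map_mul, map_mul, map_inv]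
  · -- orders
    set K := (C A).subgroupOf (N f.range) with hK
    have h1 : Nat.card ↥(C A ⊓ N f.range) = Nat.card K := by
      rw [hK, ← Subgroup.subgroupOf_map_subtype]
      exact (Nat.card_congr ((K.equivMapOfInjective _ (N f.range).subtype_injective).toEquiv)).symm
    rw [h1] at h4
    set ψ : K →* MulAut X := φ.comp K.subtype with hψ
    have h2 : K.map φ = ψ.range := by
      rw [hψ, MonoidHom.range_comp, range_subtype]
    rw [h2]
    have h3 : Nat.card K = Nat.card ψ.range * Nat.card ψ.ker := by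
      rw [← Nat.card_congr (QuotientGroup.quotientKerEquivRange ψ).toEquiv]
      exact ψ.ker.card_eq_card_quotient_mul_card_subgroup
    have h5 : ¬ 2 ∣ Nat.card ψ.ker := by
      intro h
      have : Fact (Nat.Prime 2) := ⟨Nat.prime_two⟩
      obtain ⟨k, hk⟩ := exists_prime_orderOf_dvd_card' 2 h
      have h6 : ((k : K) : ↥(N f.range)) = ((k : K) : ↥(N f.range)) := rfl
      have h7 : (((k : K) : ↥(N f.range)) : G) ∈ C A := mem_subgroupOf.1 (k : K).2
      have h8 : (((k : K) : ↥(N f.range)) : G) ∈ C f.range := hker _ k.2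
      have h9 := hodd _ h7 h8
      rw [orderOf_coe, orderOf_coe, orderOf_coe, hk] at h9
      exact absurd h9 (by decide)
    rw [h3] at h4
    have h6 : Nat.Coprime 4 (Nat.card ψ.ker) := by
      rw [show 4 = 2 ^ 2 by norm_num]
      exact Nat.Coprime.pow_left 2 ((Nat.prime_two.coprime_iff_not_dvd).2 h5)
    exact h6.dvd_of_dvd_mul_right h4

/-- in a good pair the second group centralizes the first one -/
theorem range_le_C [Finite G] [Finite X] [IsSimpleGroup X] (D : RedData X) {A : Subgroup G} (hA : TE A)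
    (f : X →* G) (hf : Function.Injective f) (hB : Cj A f.range) (hne : A ≠ f.range)
    (h4 : 4 ∣ Nat.card ↥(C A ⊓ N f.range)) : f.range ≤ C A := by
  obtain ⟨R, hR⟩ := exists_tight hA f hf hB hne h4
  obtain ⟨hM, hJ⟩ := hR.main D
  have hn : ((C A).comap f).Normal := ⟨fun j hj x => hR.nJ x (by rw [hM]; trivial) j hj⟩
  rcases hn.eq_bot_or_eq_top with h | h
  · exact absurd h hJ
  · rintro _ ⟨x, rfl⟩
    have : x ∈ (C A).comap f := by rw [h]; trivial
    exact this

theorem not_good [Finite G] [Finite X] [IsSimpleGroup X] (D : RedData X) {A : Subgroup G} (hA : TE A)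
    (hst : ∀ g : G, A.map (MulAut.conj g).toMonoidHom ≠ A → ⁅A, A.map (MulAut.conj g).toMonoidHom⁆ ≠ ⊥)
    (f : X →* G) (hf : Function.Injective f) (hfA : f.range = A) : ¬ Good A := by
  rintro ⟨B, hB, hne, h4⟩
  obtain ⟨g, rfl⟩ := hB.exists_eq
  have hr : ((MulAut.conj g).toMonoidHom.comp f).range = cj g A := by
    rw [MonoidHom.range_comp, hfA]
  have h1 := range_le_C D hA ((MulAut.conj g).toMonoidHom.comp f)
    ((MulAut.conj g).injective.comp hf) (hr ▸ hB) (hr ▸ hne) (hr ▸ h4)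
  rw [hr] at h1
  refine hst g hne.symm ?_
  rw [commutator_comm, commutator_eq_bot_iff_le_centralizer]
  exact h1

/-- `y ∈ N(A)` normalizing a Sylow 2-subgroup: either `y` induces an inner automorphism or it swaps -/
theorem inner_or_swap [Finite X] (D : RedData X) (f : X →* G) (hf : Function.Injective f) {y : G}
    (hy : y ∈ N f.range) (hyp : ∃ n : ℕ, y ^ 2 ^ n = 1) :
    (∃ b : X, f b * y ∈ C f.range) ∨ ∃ g : X, y * f (g * D.s * g⁻¹) * y⁻¹ = f (g * D.l * g⁻¹) := by
  set ρ := act f hf ⟨y, hy⟩ with hρ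
  have key : ∀ x, f (ρ x) = y * f x * y⁻¹ := f_act f hf ⟨y, hy⟩
  have hP : IsPGroup 2 (zpowers ρ) := by
    obtain ⟨n, hn⟩ := hyp
    have h1 : ρ ^ 2 ^ n = 1 := by
      rw [hρ, ← map_pow]
      have : (⟨y, hy⟩ : ↥(N f.range)) ^ 2 ^ n = 1 := Subtype.ext (by rw [coe_pow]; exact hn)
      rw [this, map_one]
    rintro ⟨_, k, rfl⟩
    refine ⟨n, Subtype.ext ?_⟩
    simp only [coe_pow, coe_one]
    rw [← zpow_natCast, ← zpow_mul, mul_comm, zpow_mul, zpow_natCast, h1, one_zpow]
  obtain ⟨S, hS⟩ := exists_sylow_fixed hP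
  let US : Sylow 2 X := ⟨D.U, D.hU, fun {Q} hQ hUQ => D.max hQ hUQ⟩
  obtain ⟨g, hg⟩ := MulAction.exists_smul_eq X US S
  -- `S = g U g⁻¹`
  have hgS : ∀ x, g * x * g⁻¹ ∈ S ↔ x ∈ D.U := by
    intro x
    have e2 : ((g • US : Sylow 2 X) : Subgroup X) = (D.U : Subgroup X).map (MulAut.conj g).toMonoidHom := rfl
    rw [← hg]
    constructor
    · rintro ⟨y, hy, hyx⟩
      have : y = x := (MulAut.conj g).injective hyx
      exact this ▸ hy
    · intro hx
      exact ⟨x, hx, rfl⟩
  set α : MulAut X := (MulAut.conj g)⁻¹ * ρ * MulAut.conj g with hα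
  have hαx : ∀ x, α x = g⁻¹ * ρ (g * x * g⁻¹) * g := by
    intro x
    rw [hα]
    simp [MulAut.mul_apply, MulAut.conj_apply, mul_assoc]
  have hαU : ∀ u ∈ D.U, α u ∈ D.U := by
    intro u hu
    rw [← hgS, hαx, show g * (g⁻¹ * ρ (g * u * g⁻¹) * g) * g⁻¹ = ρ (g * u * g⁻¹) by group]
    exact hS ρ (mem_zpowers ρ) _ ((hgS u).2 hu)
  rcases D.aut1 α hαU with h1 | h1
  · left
    obtain ⟨b, hb⟩ := D.aut2 α hαU h1
    -- `ρ = conj (g b g⁻¹)`
    have h2 : ∀ x, ρ x = (g * b * g⁻¹) * x * (g * b * g⁻¹)⁻¹ := by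
      intro x
      have h3 := hb (g⁻¹ * x * g)
      rw [hαx, show g * (g⁻¹ * x * g) * g⁻¹ = x by group] at h3
      calc ρ x = g * (g⁻¹ * ρ x * g) * g⁻¹ := by group
        _ = (g * b * g⁻¹) * x * (g * b * g⁻¹)⁻¹ := by rw [h3]; group
    refine ⟨(g * b * g⁻¹)⁻¹, ?_⟩
    rw [mem_C]
    rintro _ ⟨x, rfl⟩
    have h3 := key x
    rw [h2, map_mul, map_mul, map_inv] at h3
    rw [map_inv]
    calc (f (g * b * g⁻¹))⁻¹ * y * f x = (f (g * b * g⁻¹))⁻¹ * (y * f x * y⁻¹) * y := by group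
      _ = f x * ((f (g * b * g⁻¹))⁻¹ * y) := by rw [← h3]; group
  · right
    refine ⟨g, ?_⟩
    rw [← key]
    congr 1
    rw [hαx] at h1
    rw [← h1]; group

theorem outer [Finite X] (D : RedData X) (f : X →* G) (hf : Function.Injective f) {A : Subgroup G}
    (hfA : f.range = A) : Outer A := by
  subst hfA
  intro y hy hy1 hyy hout
  rcases inner_or_swap D f hf hy ⟨1, by rw [pow_one, sq]; exact hyy⟩ with ⟨b, hb⟩ | ⟨g, hg⟩
  · exact absurd hb (hout _ ⟨b, rfl⟩)
  · have hyi : y⁻¹ = y := inv_eq_of_mul_eq_one_left hyy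
    set S := f (g * D.s * g⁻¹) with hS
    set L := f (g * D.l * g⁻¹) with hL
    have hSS : S * S = 1 := by
      rw [hS, ← map_mul, show g * D.s * g⁻¹ * (g * D.s * g⁻¹) = g * (D.s * D.s) * g⁻¹ by group, D.ss]
      simp
    have hSi : S⁻¹ = S := inv_eq_of_mul_eq_one_left hSS
    have hSL : S * L = L * S := by
      rw [hS, hL, ← map_mul, ← map_mul,
        show g * D.s * g⁻¹ * (g * D.l * g⁻¹) = g * (D.s * D.l) * g⁻¹ by group, D.scl]
      congr 1
      group
    have hgL : y * L * y⁻¹ = S := by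
      rw [← hg, hyi]
      calc y * (y * S * y) * y = (y * y) * S * (y * y) := by group
        _ = S := by rw [hyy, one_mul, mul_one]
    refine ⟨S * L, ⟨g * D.s * g⁻¹ * (g * D.l * g⁻¹), by rw [map_mul]⟩, ?_, ?_, ?_, S, ⟨_, rfl⟩, ?_⟩
    · intro e
      have h1 : f (g * (D.s * D.l) * g⁻¹) = f 1 := by
        rw [map_one, ← e, hS, hL, ← map_mul]
        congr 1
        group
      have h2 := hf h1
      apply D.c1
      calc D.s * D.l = g⁻¹ * (g * (D.s * D.l) * g⁻¹) * g := by group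
        _ = 1 := by rw [h2]; group
    · have hLL : L * L = 1 := by
        rw [hL, ← map_mul, show g * D.l * g⁻¹ * (g * D.l * g⁻¹) = g * (D.l * D.l) * g⁻¹ by group, D.ll]
        simp
      calc S * L * (S * L) = S * L * (L * S) := by rw [← hSL]
        _ = S * (L * L) * S := by group
        _ = 1 := by rw [hLL, mul_one, hSS]
    · calc S * L * y = L * S * y := by rw [hSL]
        _ = (y * S * y⁻¹) * (y * L * y⁻¹) * y := by rw [hg, hgL]
        _ = y * (S * L) := by group
    · calc S * y * S⁻¹ = S * (y * S * y⁻¹) * y := by rw [hSi]; group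
        _ = S * L * y := by rw [hg]

/-- **`4 ∤ |C(A)|`** -/
theorem not_four_dvd [Finite G] [IsSimpleGroup G] [Finite X] [IsSimpleGroup X] (D : RedData X)
    {A : Subgroup G} (hA : Cfsg.IsStandardSubgroup A) (hcomm : CommHalf G) (f : X →* G)
    (hf : Function.Injective f) (hfA : f.range = A) : ¬ 4 ∣ Nat.card (C A) := by
  intro h4
  have hs : IsSimpleGroup A := by
    subst hfA
    exact (MulEquiv.isSimpleGroup_congr (MonoidHom.ofInjective hf)).1 inferInstance
  have hTE : TE A := TE.of_standard hA hs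
  have hsA : f D.s ∈ A := hfA ▸ ⟨_, rfl⟩
  rcases normal_or_good hTE hs hcomm (outer D f hf hfA) h4 (s := f D.s) hsA
    (fun e => D.s1 (hf (by rw [e, map_one]))) (by rw [← map_mul, D.ss, map_one]) with h | h
  · rcases h.eq_bot_or_eq_top with h1 | h1
    · rw [h1, mem_bot] at hsA
      exact D.s1 (hf (by rw [hsA, map_one]))
    · have h2 : C A = ⊥ := by
        rw [eq_bot_iff]
        intro x hx
        exact mem_bot.2 (hTE.disj x (h1 ▸ mem_top x) hx)
      rw [h2, card_bot] at h4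
      exact absurd h4 (by norm_num)
  · exact not_good D hTE hA.2.2.1 f hf hfA h

end Cfsg.Agent.F42.Red
end

-- part: F42/RedCtx
section
/-!
# The centralizer of the involution: `C_G(t) = ⟨t⟩ × A`, or this extended by a graph automorphism
-/

set_option autoImplicit false

namespace Cfsg.Agent.F42.Red

open Subgroup Cfsg.Agent.StdAlt.Conj Cfsg.Agent.StdAlt.Pairs Cfsg.Agent.StdAlt.First
open scoped Pointwise

variable {X G : Type*} [Group X] [Group G]

/-- a normal subgroup `K` of `C_G(t)` containing `t` with `4 ∤ |K|`, where `O(C_G(t)) = 1` -/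
theorem eq_one_or_eq [Finite G] {K : Subgroup G} {t : G} (ht : t ∈ K) (hto : orderOf t = 2)
    (hc : ∀ k ∈ K, k * t = t * k) (h4 : ¬ 4 ∣ Nat.card K) (hN : ∀ y, y * t = t * y → ∀ x ∈ K, y * x * y⁻¹ ∈ K)
    (hbal : Cfsg.centralizerPPrimeCore 2 t = ⊥) : ∀ k ∈ K, k = 1 ∨ k = t := by
  have htt : t * t = 1 := by rw [← sq, ← hto]; exact pow_orderOf_eq_one t
  set t' : K := ⟨t, ht⟩ with ht'
  have ho : orderOf t' = 2 := by rw [← hto, ← orderOf_coe]
  have h2 : 2 ∣ Nat.card K := ho ▸ orderOf_dvd_natCard t'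
  obtain ⟨m, hm⟩ := h2
  have hmo : Odd m := by
    rw [← Nat.not_even_iff_odd]
    rintro ⟨k, hk⟩
    exact h4 ⟨k, by rw [hm, hk]; ring⟩
  have hTc : ∀ x ∈ zpowers t', ∀ k : K, k * x = x * k := by
    rintro _ ⟨i, rfl⟩ k
    have h1 : Commute k t' := Subtype.ext (hc k k.2)
    exact (h1.zpow_right i).eq
  have hTn : (zpowers t').Normal := ⟨fun x hx k => by
    rw [hTc x hx k, mul_inv_cancel_right]; exact hx⟩
  have hTcard : Nat.card (zpowers t') = 2 := by rw [Nat.card_zpowers, ho]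
  have hidx : (zpowers t').index = m := by
    have := (zpowers t').card_mul_index
    rw [hTcard, hm] at this
    exact Nat.eq_of_mul_eq_mul_left (by norm_num) this
  obtain ⟨H, hH⟩ := exists_right_complement'_of_coprime (N := zpowers t') (by
    rw [hTcard, hidx]
    exact (Nat.coprime_two_left).2 hmo)
  have hHcard : Nat.card H = m := by rw [← hidx, hH.symm.index_eq_card]
  -- `H` is the set of elements with `k ^ m = 1`
  have hHm : ∀ x : K, x ∈ H ↔ x ^ m = 1 := by
    intro x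
    constructor
    · intro hx
      have := pow_card_eq_one' (x := (⟨x, hx⟩ : H))
      rw [hHcard] at this
      exact congrArg Subtype.val this
    · intro hx
      have h1 : x ∈ (zpowers t' ⊔ H : Subgroup K) := by rw [hH.sup_eq_top]; trivial
      have h3 : ((zpowers t' ⊔ H : Subgroup K) : Set K) = (zpowers t' : Set K) * (H : Set K) :=
        Subgroup.normal_mul _ _
      have h4 : x ∈ ((zpowers t' ⊔ H : Subgroup K) : Set K) := h1
      rw [h3] at h4
      obtain ⟨a, ha, b, hb, rfl⟩ := h4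
      have h5 : Commute a b := (hTc a ha b).symm
      have h6 : b ^ m = 1 := by
        have := pow_card_eq_one' (x := (⟨b, hb⟩ : H))
        rw [hHcard] at this
        exact congrArg Subtype.val this
      have h7 : a ^ 2 = 1 := by
        have := pow_card_eq_one' (x := (⟨a, ha⟩ : zpowers t'))
        rw [hTcard] at this
        exact congrArg Subtype.val this
      have h8 : a = 1 := by
        obtain ⟨n, hn⟩ := hmo
        have h9 := hx
        rw [h5.mul_pow, h6, mul_one, hn, pow_succ, pow_mul, h7, one_pow, one_mul] at h9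
        exact h9
      show a * b ∈ H
      rw [h8, one_mul]
      exact hb
  have hN1 : H.map K.subtype ≤ Cfsg.centralizerPPrimeCore 2 t := by
    apply Cfsg.Agent.StandardComponent.CentCore.le_core
    · rintro _ ⟨x, -, rfl⟩
      exact hc x x.2
    · rintro y hy _ ⟨x, hx, rfl⟩
      refine ⟨⟨y * x * y⁻¹, hN y hy x x.2⟩, ?_, rfl⟩
      have hx' := (hHm x).1 hx
      refine (hHm _).2 (Subtype.ext ?_)
      have h1 : (x : G) ^ m = 1 := congrArg Subtype.val hx'
      simp only [coe_pow, coe_one]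
      rw [conj_pow, h1, mul_one, mul_inv_cancel]
    · rw [card_map_of_injective K.subtype_injective, hHcard]
      exact hmo
  rw [hbal, le_bot_iff, map_eq_bot_iff_of_injective _ K.subtype_injective] at hN1
  have hm1 : m = 1 := by rw [← hHcard, hN1, card_bot]
  intro k hk
  have h1 : ((K : Set G)).ncard = 2 := by
    have : Nat.card K = ((K : Set G)).ncard := rfl
    rw [← this, hm, hm1]
  have ht1 : t ≠ 1 := by rintro rfl; rw [orderOf_one] at hto; exact absurd hto (by norm_num)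
  have h2 : ({1, t} : Set G) ⊆ (K : Set G) := by
    intro x hx
    rcases hx with rfl | rfl
    · exact one_mem K
    · exact ht
  have h3 := Set.eq_of_subset_of_ncard_le h2 (by rw [h1, Set.ncard_pair (Ne.symm ht1)]) (Set.toFinite _)
  have h4 : k ∈ ({1, t} : Set G) := by rw [h3]; exact hk
  simpa using h4

/-- a normalizing element can be changed by an element of `A` into one which normalizes `U` and either
centralizes `A` modulo `C(A)` or swaps -/
theorem inner_or_swap' [Finite X] (D : RedData X) (f : X →* G) (hf : Function.Injective f) {y : G}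
    (hy : y ∈ N f.range) :
    (∃ b : X, f b * y ∈ C f.range) ∨ ∃ a : X, (∀ u ∈ D.U, ∃ u' ∈ D.U, f a * y * f u * (f a * y)⁻¹ = f u') ∧
      f a * y * f D.s * (f a * y)⁻¹ = f D.l := by
  set ρ := act f hf ⟨y, hy⟩ with hρ
  have key : ∀ x, f (ρ x) = y * f x * y⁻¹ := f_act f hf ⟨y, hy⟩
  let US : Sylow 2 X := ⟨D.U, D.hU, fun {Q} hQ hUQ => D.max hQ hUQ⟩
  obtain ⟨g, hg⟩ := MulAction.exists_smul_eq X (ρ • US) US
  set α : MulAut X := MulAut.conj g * ρ with hα
  have hαx : ∀ x, α x = g * ρ x * g⁻¹ := fun x => by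
    rw [hα, MulAut.mul_apply, MulAut.conj_apply]
  have hαU : ∀ u ∈ D.U, α u ∈ D.U := by
    intro u hu
    have h1 : ρ u ∈ (ρ • US : Sylow 2 X) := ⟨u, hu, rfl⟩
    have h2 : g * ρ u * g⁻¹ ∈ (g • (ρ • US) : Sylow 2 X) := ⟨ρ u, h1, rfl⟩
    rw [hg] at h2
    rw [hαx]
    exact h2
  have key2 : ∀ x, f (α x) = f g * y * f x * (f g * y)⁻¹ := by
    intro x
    rw [hαx, map_mul, map_mul, map_inv, key]
    group
  rcases D.aut1 α hαU with h1 | h1
  · left
    obtain ⟨b, hb⟩ := D.aut2 α hαU h1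
    refine ⟨b⁻¹ * g, ?_⟩
    rw [mem_C]
    rintro _ ⟨x, rfl⟩
    have h3 := key2 x
    rw [hb, map_mul, map_mul, map_inv] at h3
    rw [map_mul, map_inv]
    calc (f b)⁻¹ * f g * y * f x = (f b)⁻¹ * (f g * y * f x * (f g * y)⁻¹) * (f g * y) := by group
      _ = f x * ((f b)⁻¹ * f g * y) := by rw [← h3]; group
  · right
    refine ⟨g, fun u hu => ⟨α u, hαU u hu, (key2 u).symm⟩, ?_⟩
    rw [← key2, h1]

/-- **The context**: `t` is an involution centralizing `A = f.range`, and either `C_G(t) = ⟨t⟩ × A`, or there is a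
2-element `y ∈ C_G(t)` normalizing `f(U)`, swapping `f(s)` and `f(l)`, with `C_G(t) = (⟨t⟩ × A) ∪ (⟨t⟩ × A) y`. -/
theorem exists_ctx [Finite G] [IsSimpleGroup G] [Finite X] [IsSimpleGroup X] (D : RedData X)
    (hbal : ∀ t : G, orderOf t = 2 → Cfsg.centralizerPPrimeCore 2 t = ⊥) (hcomm : CommHalf G)
    {A : Subgroup G} (hA : Cfsg.IsStandardSubgroup A) (f : X →* G)
    (hf : Function.Injective f) (hfA : f.range = A) :
    ∃ t : G, orderOf t = 2 ∧ t ∉ A ∧ (∀ a ∈ A, a * t = t * a) ∧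
      (∀ g, g * t = t * g → ∀ a ∈ A, g * a * g⁻¹ ∈ A) ∧
      ((∀ g, g * t = t * g → g ∈ A ∨ g * t ∈ A) ∨
        ∃ y, y * t = t * y ∧ (∃ n : ℕ, y ^ 2 ^ n = 1) ∧ (∀ u ∈ D.U, ∃ u' ∈ D.U, y * f u * y⁻¹ = f u') ∧
          y * f D.s * y⁻¹ = f D.l ∧ y * f D.l * y⁻¹ = f D.s ∧
          ∀ g, g * t = t * g → g ∈ A ∨ g * t ∈ A ∨ g * y⁻¹ ∈ A ∨ g * y⁻¹ * t ∈ A) := by
  have h4 := not_four_dvd D hA hcomm f hf hfA
  have hs : IsSimpleGroup A := by
    subst hfA
    exact (MulEquiv.isSimpleGroup_congr (MonoidHom.ofInjective hf)).1 inferInstance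
  have hTE : TE A := TE.of_standard hA hs
  obtain ⟨t0, ht0⟩ := exists_prime_orderOf_dvd_card' (G := ↥(C A)) 2 (even_iff_two_dvd.1 hA.2.1.1)
  set t : G := (t0 : G) with htdef
  have hto : orderOf t = 2 := by rw [htdef, orderOf_coe]; exact ht0
  have htC : t ∈ C A := t0.2
  have ht1 : t ≠ 1 := by
    intro h; rw [h, orderOf_one] at hto; exact absurd hto (by norm_num)
  have htt : t * t = 1 := by rw [← sq, ← hto]; exact pow_orderOf_eq_one t
  have hCN : ∀ g, g * t = t * g → g ∈ N A := fun g hg => hTE.nrm htC ht1 htt hg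
  have htA : t ∉ A := fun h => ht1 (hTE.disj t h htC)
  have hK : ∀ k, k ∈ C A → k * t = t * k → k = 1 ∨ k = t := by
    have h1 := eq_one_or_eq (K := C A ⊓ centralizer {t}) (t := t) ⟨htC, mem_cent.2 rfl⟩ hto
      (fun k hk => mem_cent.1 hk.2) (fun h => h4 (h.trans (card_dvd_of_le inf_le_left)))
      (fun y hy x hx => ⟨conj_mem_C (hCN y hy) hx.1, mem_cent.2 (by
        have e1 := mem_cent.1 hx.2
        have e2 : y⁻¹ * t = t * y⁻¹ := by
          rw [inv_mul_eq_iff_eq_mul, ← mul_assoc, hy, mul_inv_cancel_right]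
        calc y * x * y⁻¹ * t = y * x * (t * y⁻¹) := by rw [← e2]; group
          _ = y * (x * t) * y⁻¹ := by group
          _ = (y * t) * x * y⁻¹ := by rw [e1]; group
          _ = t * (y * x * y⁻¹) := by rw [hy]; group)⟩) (hbal t hto)
    exact fun k hk hkt => h1 k ⟨hk, mem_cent.2 hkt⟩
  have htA' : ∀ a ∈ A, a * t = t * a := fun a ha => (comm_of_C htC ha).symm
  refine ⟨t, hto, htA, htA', fun g hg a ha => conj_mem (hCN g hg) ha, ?_⟩
  -- inner elements of `C_G(t)`
  have hinn : ∀ g, g * t = t * g → (∃ b : X, f b * g ∈ C f.range) → g ∈ A ∨ g * t ∈ A := by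
    rintro g hg ⟨b, hb⟩
    rw [hfA] at hb
    have hbA : f b ∈ A := hfA ▸ ⟨b, rfl⟩
    have h1 : f b * g * t = t * (f b * g) := by
      rw [mul_assoc, hg, ← mul_assoc, htA' _ hbA, mul_assoc]
    rcases hK _ hb h1 with h2 | h2
    · left
      have : g = (f b)⁻¹ := (inv_eq_of_mul_eq_one_right h2).symm
      rw [this]; exact inv_mem hbA
    · right
      have : g * t = (f b)⁻¹ := by
        calc g * t = (f b)⁻¹ * (f b * g) * t := by group
          _ = (f b)⁻¹ * (t * t) := by rw [h2]; group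
          _ = (f b)⁻¹ := by rw [htt, mul_one]
      rw [this]; exact inv_mem hbA
  by_cases hall : ∀ g, g * t = t * g → ∃ b : X, f b * g ∈ C f.range
  · left
    exact fun g hg => hinn g hg (hall g hg)
  · right
    push Not at hall
    obtain ⟨y₀, hy₀, hy₀n⟩ := hall
    have hNf : ∀ g, g * t = t * g → g ∈ N f.range := fun g hg => by rw [hfA]; exact hCN g hg
    rcases inner_or_swap' D f hf (hNf y₀ hy₀) with ⟨b, hb⟩ | ⟨a, haU, has⟩
    · exact absurd hb (hy₀n b)
    -- the swapping element, made a 2-element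
    set y₁ := f a * y₀ with hy₁
    have haA : f a ∈ A := hfA ▸ ⟨a, rfl⟩
    have hy₁t : y₁ * t = t * y₁ := by
      rw [hy₁, mul_assoc, hy₀, ← mul_assoc, htA' _ haA, mul_assoc]
    -- two swaps differ by an inner element
    have hsw : ∀ g h, g * t = t * g → h * t = t * h →
        (∀ u ∈ D.U, ∃ u' ∈ D.U, g * f u * g⁻¹ = f u') → (∀ u ∈ D.U, ∃ u' ∈ D.U, h * f u * h⁻¹ = f u') →
        g * f D.s * g⁻¹ = f D.l → h * f D.s * h⁻¹ = f D.l → g * h⁻¹ ∈ A ∨ g * h⁻¹ * t ∈ A := by
      intro g h hg hh hgU hhU hgs hhs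
      have hgh : g * h⁻¹ * t = t * (g * h⁻¹) := by
        have e2 : h⁻¹ * t = t * h⁻¹ := by
          rw [inv_mul_eq_iff_eq_mul, ← mul_assoc, hh, mul_inv_cancel_right]
        rw [mul_assoc, e2, ← mul_assoc, hg, mul_assoc]
      apply hinn _ hgh
      have hN : g * h⁻¹ ∈ N f.range := hNf _ hgh
      have key : ∀ x, f (act f hf ⟨_, hN⟩ x) = g * h⁻¹ * f x * (g * h⁻¹)⁻¹ := f_act f hf ⟨_, hN⟩
      -- `h⁻¹` normalizes `f(U)`
      have hhU' : ∀ u ∈ D.U, ∃ u' ∈ D.U, h⁻¹ * f u * h = f u' := by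
        have hinj : Function.Injective (fun u : D.U => (⟨(hhU u u.2).choose, (hhU u u.2).choose_spec.1⟩ : D.U)) := by
          intro u v huv
          have e : (hhU u u.2).choose = (hhU v v.2).choose := congrArg Subtype.val huv
          have e1 := (hhU u u.2).choose_spec.2
          have e2 := (hhU v v.2).choose_spec.2
          rw [e, ← e2] at e1
          exact Subtype.ext (hf (mul_left_cancel (mul_right_cancel e1)))
        intro u hu
        obtain ⟨v, hv⟩ := (Finite.injective_iff_surjective.1 hinj) ⟨u, hu⟩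
        refine ⟨v, v.2, ?_⟩
        have e1 := (hhU v v.2).choose_spec.2
        have e2 : (hhU v v.2).choose = u := congrArg Subtype.val hv
        rw [e2] at e1
        rw [← e1]; group
      have hαU : ∀ u ∈ D.U, act f hf ⟨_, hN⟩ u ∈ D.U := by
        intro u hu
        obtain ⟨u', hu', e'⟩ := hhU' u hu
        obtain ⟨u'', hu'', e''⟩ := hgU u' hu'
        have : act f hf ⟨_, hN⟩ u = u'' := by
          apply hf
          rw [key, ← e'', ← e']; group
        rw [this]; exact hu''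
      have hαl : act f hf ⟨_, hN⟩ D.l = D.l := by
        apply hf
        rw [key]
        calc g * h⁻¹ * f D.l * (g * h⁻¹)⁻¹ = g * (h⁻¹ * f D.l * h) * g⁻¹ := by group
          _ = g * f D.s * g⁻¹ := by rw [← hhs]; group
          _ = f D.l := hgs
      have hαs : act f hf ⟨_, hN⟩ D.s = D.s := by
        rcases D.aut1 _ hαU with e | e
        · exact e
        · exfalso
          exact D.sl ((act f hf ⟨_, hN⟩).injective (e.trans hαl.symm))
      obtain ⟨b, hb⟩ := D.aut2 _ hαU hαs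
      refine ⟨b⁻¹, ?_⟩
      rw [mem_C]
      rintro _ ⟨x, rfl⟩
      have h3 := key x
      rw [hb, map_mul, map_mul, map_inv] at h3
      rw [map_inv]
      calc (f b)⁻¹ * (g * h⁻¹) * f x = (f b)⁻¹ * (g * h⁻¹ * f x * (g * h⁻¹)⁻¹) * (g * h⁻¹) := by group
        _ = f x * ((f b)⁻¹ * (g * h⁻¹)) := by rw [← h3]; group
    -- `y₁` maps `f l` to `f s`
    have hy₁l : y₁ * f D.l * y₁⁻¹ = f D.s := by
      have hN : y₁ ∈ N f.range := hNf _ hy₁t
      have key : ∀ x, f (act f hf ⟨_, hN⟩ x) = y₁ * f x * y₁⁻¹ := f_act f hf ⟨_, hN⟩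
      set α := act f hf ⟨_, hN⟩ with hα
      have hαU : ∀ u ∈ D.U, α u ∈ D.U := by
        intro u hu
        obtain ⟨u', hu', e'⟩ := haU u hu
        have : α u = u' := by
          apply hf
          rw [key, ← e']
        rw [this]; exact hu'
      have hαs : α D.s = D.l := hf (by rw [key]; exact has)
      have h1 : α D.l = D.s := by
        rcases D.aut1 (α * α) (fun u hu => hαU _ (hαU u hu)) with e | e
        · rw [MulAut.mul_apply, hαs] at e
          exact e
        · rw [MulAut.mul_apply, hαs] at e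
          exact absurd (α.injective (hαs.trans e.symm)) D.sl
      rw [← key, h1]
    have hpow : ∀ j : ℕ, (∀ u ∈ D.U, ∃ u' ∈ D.U, y₁ ^ (2 * j + 1) * f u * (y₁ ^ (2 * j + 1))⁻¹ = f u') ∧
        y₁ ^ (2 * j + 1) * f D.s * (y₁ ^ (2 * j + 1))⁻¹ = f D.l ∧
        y₁ ^ (2 * j + 1) * f D.l * (y₁ ^ (2 * j + 1))⁻¹ = f D.s := by
      intro j
      induction j with
      | zero => exact ⟨by simpa using haU, by simpa using has, by simpa using hy₁l⟩
      | succ j ih =>
        obtain ⟨i1, i2, i3⟩ := ih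
        have e : ∀ z : G, y₁ ^ (2 * (j + 1) + 1) * z * (y₁ ^ (2 * (j + 1) + 1))⁻¹ =
            y₁ * (y₁ * (y₁ ^ (2 * j + 1) * z * (y₁ ^ (2 * j + 1))⁻¹) * y₁⁻¹) * y₁⁻¹ := by
          intro z
          rw [show 2 * (j + 1) + 1 = 1 + (1 + (2 * j + 1)) by ring, pow_add, pow_add, pow_one]
          group
        refine ⟨fun u hu => ?_, ?_, ?_⟩
        · obtain ⟨u', hu', e'⟩ := i1 u hu
          obtain ⟨u'', hu'', e''⟩ := haU u' hu'
          obtain ⟨u3, hu3, e3⟩ := haU u'' hu''
          exact ⟨u3, hu3, by rw [e, e', e'', e3]⟩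
        · rw [e, i2, hy₁l, has]
        · rw [e, i3, has, hy₁l]
    -- the 2-part
    obtain ⟨k, m', hm', hord⟩ := Nat.exists_eq_two_pow_mul_odd (n := orderOf y₁) (orderOf_pos y₁).ne'
    obtain ⟨j, hj⟩ := hm'
    obtain ⟨p1, p2, p3⟩ := hpow j
    have hyt : y₁ ^ (2 * j + 1) * t = t * y₁ ^ (2 * j + 1) := by
      have : Commute y₁ t := hy₁t
      exact (this.pow_left _).eq
    refine ⟨y₁ ^ (2 * j + 1), hyt, ⟨k, ?_⟩, p1, p2, p3, ?_⟩
    · rw [← pow_mul, mul_comm, ← hj, ← hord, pow_orderOf_eq_one]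
    · intro g hg
      rcases inner_or_swap' D f hf (hNf g hg) with ⟨b, hb⟩ | ⟨b, hbU, hbs⟩
      · rcases hinn g hg ⟨b, hb⟩ with h | h
        · exact Or.inl h
        · exact Or.inr (Or.inl h)
      · have hbA : f b ∈ A := hfA ▸ ⟨b, rfl⟩
        have hbt : f b * g * t = t * (f b * g) := by
          rw [mul_assoc, hg, ← mul_assoc, htA' _ hbA, mul_assoc]
        rcases hsw (f b * g) (y₁ ^ (2 * j + 1)) hbt hyt hbU p1 hbs p2 with h | h
        · right; right; left
          have := mul_mem (inv_mem hbA) h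
          rwa [← mul_assoc, ← mul_assoc, inv_mul_cancel, one_mul] at this
        · right; right; right
          have := mul_mem (inv_mem hbA) h
          rwa [← mul_assoc, ← mul_assoc, ← mul_assoc, inv_mul_cancel, one_mul] at this

end Cfsg.Agent.F42.Red
end

-- part: F42/Ctx
section
/-!
# From the context of the reduction to `Std`
-/

set_option autoImplicit false

namespace Cfsg.Agent.F42.Ctx

open Cfsg.Agent.FourTwo Cfsg.Agent.FourTwo.Base Cfsg.Agent.FourTwo.BN

private noncomputable def _root_.Cfsg.Agent.KO213c67e.k22 : type_of% @List.range.loop := @(fun x0 x1 => @Nat.rec.{1} @(fun x2 => (@List.{0} ℕ) → @List.{0} ℕ) @(fun x2 => @x2) @(fun x2 x3 x4 => @x3 (@x2 :: @x4)) @x0 @x1)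
private theorem _root_.Cfsg.Agent.KO213c67e.e22 : @List.range.loop = @_root_.Cfsg.Agent.KO213c67e.k22 := by delta _root_.Cfsg.Agent.KO213c67e.k22; funext a0 a1; refine (congrFun (_root_.Cfsg.Agent.KO213c67e.e2 (fun a0 a1 => @List.range.loop a0 a1) ?_ (fun c0 => ?_) a0) a1 :) <;> (rfl')
private noncomputable def _root_.Cfsg.Agent.KO213c67e.k23 : type_of% @List.range := @(fun x0 => @Cfsg.Agent.KO213c67e.k22 @x0 [])
private theorem _root_.Cfsg.Agent.KO213c67e.e23 : @List.range = @_root_.Cfsg.Agent.KO213c67e.k23 := by delta _root_.Cfsg.Agent.KO213c67e.k23; rewrite [← Cfsg.Agent.KO213c67e.e22]; rfl'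
private noncomputable def _root_.Cfsg.Agent.KO213c67e.k31.{ku0, ku1} : type_of% @List.foldr.{ku0, ku1} := @(fun x0 x1 x2 x3 x4 => @List.rec.{(ku1+1), ku0} @x0 @(fun x5 => @x1) @x3 @(fun x5 x6 x7 => @x2 @x5 @x7) @x4)
private theorem _root_.Cfsg.Agent.KO213c67e.e31.{ku0, ku1} : @List.foldr.{ku0, ku1} = @_root_.Cfsg.Agent.KO213c67e.k31.{ku0, ku1} := by delta _root_.Cfsg.Agent.KO213c67e.k31; funext a0 a1 a2 a3 a4; refine (_root_.Cfsg.Agent.KO213c67e.e0 (fun a4 => @List.foldr.{ku0, ku1} a0 a1 a2 a3 a4) ?_ (fun c0 c1 => ?_) a4 :) <;> (rfl')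
private noncomputable def _root_.Cfsg.Agent.KO213c67e.k34 : (by first | exact type_of% @Cfsg.Agent.ChevalleyStructure.TwF4.Bits.moveRow | exact Unit : Sort _) := by first | (refine @Subtype.val _ (fun g => @Cfsg.Agent.ChevalleyStructure.TwF4.Bits.moveRow = @g) (@Subtype.mk _ _ (@(fun x0 x1 x2 => @Nat.shiftLeft (@Nat.mod (@Nat.shiftRight @x0 (@Nat.mul (nat_lit 52) @x2)) (@Nat.pow (nat_lit 2) (nat_lit 52))) (@Nat.mul (nat_lit 52) @x1))) ?_); rfl') | exact @Cfsg.Agent.ChevalleyStructure.TwF4.Bits.moveRow | exact ()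
private theorem _root_.Cfsg.Agent.KO213c67e.e34 : (by first | exact @Cfsg.Agent.ChevalleyStructure.TwF4.Bits.moveRow = @_root_.Cfsg.Agent.KO213c67e.k34 | exact True : Prop) := by first | (delta _root_.Cfsg.Agent.KO213c67e.k34; exact @Subtype.property _ (fun g => @Cfsg.Agent.ChevalleyStructure.TwF4.Bits.moveRow = @g) _) | rfl | trivial
private noncomputable def _root_.Cfsg.Agent.KO213c67e.k35 : (by first | exact type_of% @Cfsg.Agent.ChevalleyStructure.TwF4.Bits.lmul | exact Unit : Sort _) := by first | (refine @Subtype.val _ (fun g => @Cfsg.Agent.ChevalleyStructure.TwF4.Bits.lmul = @g) (@Subtype.mk _ _ (@(fun x0 x1 => @Decidable.rec.{1} _ @(fun x2 => ℕ) @(fun x2 => @Cfsg.Agent.KO213c67e.k31.{0, 0} _ _ @(fun x3 x4 => @Nat.xor @x4 (@Cfsg.Agent.KO213c67e.k34 @x1 (@Prod.fst.{0, 0} _ _ @x3) (@Prod.snd.{0, 0} _ _ @x3))) (nat_lit 0) @x0) @(fun x2 => @Eq.rec.{1, 1} ℕ (nat_lit 0) @(fun x3 x4 => ℕ) (nat_lit 0) @x1 (@Eq.symm.{1} _ _ _ @x2)) (@Cfsg.Agent.KO213c67e.k20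 @x1 (nat_lit 0)))) ?_); rewrite [← Cfsg.Agent.KO213c67e.e20, ← Cfsg.Agent.KO213c67e.e34, ← Cfsg.Agent.KO213c67e.e31.{0, 0}]; (try delta Cfsg.Agent.ChevalleyStructure.TwF4.Bits.lmul); (try generalize @Cfsg.Agent.ChevalleyStructure.TwF4.Bits.moveRow = g0); rfl') | exact @Cfsg.Agent.ChevalleyStructure.TwF4.Bits.lmul | exact ()
private theorem _root_.Cfsg.Agent.KO213c67e.e35 : (by first | exact @Cfsg.Agent.ChevalleyStructure.TwF4.Bits.lmul = @_root_.Cfsg.Agent.KO213c67e.k35 | exact True : Prop) := by first | (delta _root_.Cfsg.Agent.KO213c67e.k35; exact @Subtype.property _ (fun g => @Cfsg.Agent.ChevalleyStructure.TwF4.Bits.lmul = @g) _) | rfl | trivial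
private noncomputable def _root_.Cfsg.Agent.KO213c67e.k37 : (by first | exact type_of% @Cfsg.Agent.ChevalleyStructure.TwF4.Tables.nth | exact Unit : Sort _) := by first | (refine @Subtype.val _ (fun g => @Cfsg.Agent.ChevalleyStructure.TwF4.Tables.nth = @g) (@Subtype.mk _ _ (@(fun x0 x1 x2 => @List.rec.{1, 0} (@List.{0} @x0) @(fun x3 => ℕ → @List.{0} @x0) @(fun x3 => []) @(fun x3 x4 x5 x6 => @Nat.rec.{1} @(fun x7 => @List.{0} @x0) @x3 @(fun x7 x8 => @x5 @x7) @x6) @x1 @x2)) ?_); funext a0 a1 a2; refine (congrFun (_root_.Cfsg.Agent.KO213c67e.e0 (fun a1 a2 => @Cfsg.Agent.ChevalleyStructure.TwF4.Tables.nth a0 a1 a2) ?_ (fun c0 c1 => ?_) a1) a2 :) <;> [(funext b0; (rfl')); (funext b0; (cases b0 with | @zero  => (rfl') | @succ b0_0 => (rfl')))]) | exact @Cfsg.Agent.ChevalleyStructure.TwF4.Tables.nth | exact ()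
private theorem _root_.Cfsg.Agent.KO213c67e.e37 : (by first | exact @Cfsg.Agent.ChevalleyStructure.TwF4.Tables.nth = @_root_.Cfsg.Agent.KO213c67e.k37 | exact True : Prop) := by first | (delta _root_.Cfsg.Agent.KO213c67e.k37; exact @Subtype.property _ (fun g => @Cfsg.Agent.ChevalleyStructure.TwF4.Tables.nth = @g) _) | rfl | trivial
private noncomputable def _root_.Cfsg.Agent.KO213c67e.k45 : type_of% @Decidable.decide := @(fun x0 x1 => @Decidable.rec.{1} _ @(fun x2 => @Bool) @(fun x2 => @Bool.false) @(fun x2 => @Bool.true) @x1)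
private theorem _root_.Cfsg.Agent.KO213c67e.e45 : @Decidable.decide = @_root_.Cfsg.Agent.KO213c67e.k45 := by delta _root_.Cfsg.Agent.KO213c67e.k45; rfl'
private noncomputable def _root_.Cfsg.Agent.KO213c67e.k50 : type_of% @Bool.or := @(fun x0 x1 => @Bool.rec.{1} @(fun x2 => @Bool) @x1 @Bool.true @x0)
private theorem _root_.Cfsg.Agent.KO213c67e.e50 : @Bool.or = @_root_.Cfsg.Agent.KO213c67e.k50 := by delta _root_.Cfsg.Agent.KO213c67e.k50; rfl'
private noncomputable def _root_.Cfsg.Agent.KO213c67e.k51.{ku0, ku1} : type_of% @instDecidableEqProd.{ku0, ku1} := @(fun x0 x1 x2 x3 x4 x5 => @Prod.rec.{1, ku0, ku1} @x0 @x1 @(fun x6 => @Decidable (@Eq.{(max (ku1+1) (ku0+1))} _ @x6 @x5)) @(fun x6 x7 => @Prod.rec.{1, ku0, ku1} @x0 @x1 @(fun x8 => @Decidable (@Eq.{(max (ku1+1) (ku0+1))} _ ((@x6, @x7)) @x8)) @(fun x8 x9 => @Decidable.rec.{1} _ @(fun x10 => @Decidable (@Eq.{(max (ku1+1) (ku0+1))} _ ((@x6, @x7)) ((@x8, @x9)))) @(fun x10 => @Decidable.isFalse _ (@instDecidableEqProd._proof_3.{ku1,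 ku0} _ _ @x6 @x7 @x8 @x9 @x10)) @(fun x10 => @Decidable.rec.{1} _ @(fun x11 => @Decidable (@Eq.{(max (ku1+1) (ku0+1))} _ ((@x6, @x7)) ((@x8, @x9)))) @(fun x11 => @Decidable.isFalse _ (@instDecidableEqProd._proof_2.{ku1, ku0} _ _ @x6 @x7 @x8 @x9 @x11)) @(fun x11 => @Decidable.isTrue _ (@instDecidableEqProd._proof_1.{ku1, ku0} _ _ @x6 @x7 @x8 @x9 @x10 @x11)) (@x3 @x7 @x9)) (@x2 @x6 @x8)) @x5) @x4)
private theorem _root_.Cfsg.Agent.KO213c67e.e51.{ku0, ku1} : @instDecidableEqProd.{ku0, ku1} = @_root_.Cfsg.Agent.KO213c67e.k51.{ku0, ku1} := by delta _root_.Cfsg.Agent.KO213c67e.k51; rfl'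
private noncomputable def _root_.Cfsg.Agent.KO213c67e.k52 : (by first | exact type_of% @Cfsg.Agent.FourTwo.RankInv.tb | exact Unit : Sort _) := by first | (refine @Subtype.val _ (fun g => @Cfsg.Agent.FourTwo.RankInv.tb = @g) (@Subtype.mk _ _ (@(fun x0 x1 => @Nat.beq (@Nat.land (@Nat.shiftRight @x0 @x1) (nat_lit 1)) (nat_lit 1))) ?_); rfl') | exact @Cfsg.Agent.FourTwo.RankInv.tb | exact ()
private theorem _root_.Cfsg.Agent.KO213c67e.e52 : (by first | exact @Cfsg.Agent.FourTwo.RankInv.tb = @_root_.Cfsg.Agent.KO213c67e.k52 | exact True : Prop) := by first | (delta _root_.Cfsg.Agent.KO213c67e.k52; exact @Subtype.property _ (fun g => @Cfsg.Agent.FourTwo.RankInv.tb = @g) _) | rfl | trivial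
private noncomputable def _root_.Cfsg.Agent.KO213c67e.k53 : (by first | exact type_of% @Cfsg.Agent.FourTwo.RankInv.red | exact Unit : Sort _) := by first | (refine @Subtype.val _ (fun g => @Cfsg.Agent.FourTwo.RankInv.red = @g) (@Subtype.mk _ _ (@(fun x0 x1 => @Bool.rec.{1} @(fun x2 => ℕ) @x1 (@Nat.xor @x1 @x0) (@Cfsg.Agent.KO213c67e.k52 @x1 (@Nat.log2 @x0)))) ?_); rewrite [← Cfsg.Agent.KO213c67e.e52]; (try delta Cfsg.Agent.FourTwo.RankInv.red); (try generalize @Cfsg.Agent.FourTwo.RankInv.tb = g0); rfl') | exact @Cfsg.Agent.FourTwo.RankInv.red | exact ()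
private theorem _root_.Cfsg.Agent.KO213c67e.e53 : (by first | exact @Cfsg.Agent.FourTwo.RankInv.red = @_root_.Cfsg.Agent.KO213c67e.k53 | exact True : Prop) := by first | (delta _root_.Cfsg.Agent.KO213c67e.k53; exact @Subtype.property _ (fun g => @Cfsg.Agent.FourTwo.RankInv.red = @g) _) | rfl | trivial
private noncomputable def _root_.Cfsg.Agent.KO213c67e.k55 : (by first | exact type_of% @Cfsg.Agent.FourTwo.RankInv.rkF | exact Unit : Sort _) := by first | (refine @Subtype.val _ (fun g => @Cfsg.Agent.FourTwo.RankInv.rkF = @g) (@Subtype.mk _ _ (@(fun x0 x1 => @Nat.rec.{1} @(fun x2 => (@List.{0} ℕ) → ℕ) @(fun x2 => nat_lit 0) @(fun x2 x3 x4 => @List.rec.{1, 0} ℕ @(fun x5 => ℕ) (nat_lit 0) @(fun x5 x6 x7 => @Bool.rec.{1} @(fun x8 => ℕ) (@Nat.succ (@x3 (@Cfsg.Agent.KO213c67e.k16.{0, 0} _ _ (@Cfsg.Agent.KO213c67e.k53 @x5) @x6))) (@x3 @x6) (@Nat.beq @x5 (nat_lit 0))) @x4) @x0 @x1)) ?_); rewrite [← Cfsg.Agent.KO213c67e.e53, ← Cfsg.Agent.KO213c67e.e16.{0, 0}];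 funext a0 a1; refine (congrFun (_root_.Cfsg.Agent.KO213c67e.e2 (fun a0 a1 => @Cfsg.Agent.FourTwo.RankInv.rkF a0 a1) ?_ (fun c0 => ?_) a0) a1 :) <;> [(funext b0; ((try delta Cfsg.Agent.FourTwo.RankInv.rkF Cfsg.Agent.FourTwo.RankInv.rkF._f); (try generalize @Cfsg.Agent.FourTwo.RankInv.red = g0); rfl')); (funext b0; (cases b0 with | @nil  => ((try delta Cfsg.Agent.FourTwo.RankInv.rkF Cfsg.Agent.FourTwo.RankInv.rkF._f); (try generalize @Cfsg.Agent.FourTwo.RankInv.red = g0); rfl') | @cons b0_0 b0_1 => ((try delta Cfsg.Agent.FourTwo.RankInv.rkF Cfsg.Agent.FourTwo.RankInv.rkF._f); (try generalize @Cfsg.Agent.FourTwo.RankInv.red = g0); rfl')))]) | exact @Cfsg.Agent.FourTwo.RankInv.rkF | exact ()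
private theorem _root_.Cfsg.Agent.KO213c67e.e55 : (by first | exact @Cfsg.Agent.FourTwo.RankInv.rkF = @_root_.Cfsg.Agent.KO213c67e.k55 | exact True : Prop) := by first | (delta _root_.Cfsg.Agent.KO213c67e.k55; exact @Subtype.property _ (fun g => @Cfsg.Agent.FourTwo.RankInv.rkF = @g) _) | rfl | trivial
private noncomputable def _root_.Cfsg.Agent.KO213c67e.k56 : (by first | exact type_of% @Cfsg.Agent.FourTwo.RankInv.rowN | exact Unit : Sort _) := by first | (refine @Subtype.val _ (fun g => @Cfsg.Agent.FourTwo.RankInv.rowN = @g) (@Subtype.mk _ _ (@(fun x0 x1 => @Nat.mod (@Nat.shiftRight @x0 (@Nat.mul (nat_lit 52) @x1)) (@Nat.pow (nat_lit 2) (nat_lit 52)))) ?_); rfl') | exact @Cfsg.Agent.FourTwo.RankInv.rowN | exact ()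
private theorem _root_.Cfsg.Agent.KO213c67e.e56 : (by first | exact @Cfsg.Agent.FourTwo.RankInv.rowN = @_root_.Cfsg.Agent.KO213c67e.k56 | exact True : Prop) := by first | (delta _root_.Cfsg.Agent.KO213c67e.k56; exact @Subtype.property _ (fun g => @Cfsg.Agent.FourTwo.RankInv.rowN = @g) _) | rfl | trivial
private noncomputable def _root_.Cfsg.Agent.KO213c67e.k57 : (by first | exact type_of% @Cfsg.Agent.FourTwo.RankInv.rkM | exact Unit : Sort _) := by first | (refine @Subtype.val _ (fun g => @Cfsg.Agent.FourTwo.RankInv.rkM = @g) (@Subtype.mk _ _ (@(fun x0 x1 => @Cfsg.Agent.KO213c67e.k55 (nat_lit 52) (@Cfsg.Agent.KO213c67e.k16.{0, 0} _ _ @(fun x2 => @Bool.rec.{1} @(fun x3 => ℕ) (nat_lit 0) (@Nat.land (@Cfsg.Agent.KO213c67e.k56 (@Nat.xor @x1 @Cfsg.Agent.ChevalleyStructure.TwF4.Bits.idN) @x2) @x0) (@Cfsg.Agent.KO213c67e.k52 @x0 @x2)) (@Cfsg.Agent.KO213c67e.k22 (nat_lit 52) [])))) ?_); rewrite [← Cfsg.Agent.KO213c67e.e22, ← Cfsg.Agent.KO213c67e.e52, ← Cfsg.Agent.KO213c67e.e56,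 ← Cfsg.Agent.KO213c67e.e16.{0, 0}, ← Cfsg.Agent.KO213c67e.e55]; (try delta Cfsg.Agent.FourTwo.RankInv.rkM); (try generalize @Cfsg.Agent.FourTwo.RankInv.rkF = g0); (try generalize @Cfsg.Agent.FourTwo.RankInv.rowN = g1); (try generalize @Cfsg.Agent.ChevalleyStructure.TwF4.Bits.idN = g2); (try generalize @Cfsg.Agent.FourTwo.RankInv.tb = g3); rfl') | exact @Cfsg.Agent.FourTwo.RankInv.rkM | exact ()
private theorem _root_.Cfsg.Agent.KO213c67e.e57 : (by first | exact @Cfsg.Agent.FourTwo.RankInv.rkM = @_root_.Cfsg.Agent.KO213c67e.k57 | exact True : Prop) := by first | (delta _root_.Cfsg.Agent.KO213c67e.k57; exact @Subtype.property _ (fun g => @Cfsg.Agent.FourTwo.RankInv.rkM = @g) _) | rfl | trivial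
private noncomputable def _root_.Cfsg.Agent.KO213c67e.k58 : (by first | exact type_of% @Cfsg.Agent.FourTwo.RankInv.stepM | exact Unit : Sort _) := by first | (refine @Subtype.val _ (fun g => @Cfsg.Agent.FourTwo.RankInv.stepM = @g) (@Subtype.mk _ _ (@(fun x0 x1 => @Nat.xor @x1 (@Cfsg.Agent.KO213c67e.k35 (@Cfsg.Agent.KO213c67e.k14.{0} _ (@Cfsg.Agent.KO213c67e.k37 _ @Cfsg.Agent.ChevalleyStructure.TwF4.Tables.tabE @x0) (@Cfsg.Agent.KO213c67e.k37 _ @Cfsg.Agent.ChevalleyStructure.TwF4.Tables.tabF @x0)) @x1))) ?_); rewrite [← Cfsg.Agent.KO213c67e.e37, ← Cfsg.Agent.KO213c67e.e14.{0}, ← Cfsg.Agent.KO213c67e.e35]; (try delta Cfsg.Agent.FourTwo.RankInv.stepM Cfsg.Agent.ChevalleyStructure.TwF4.Tables.Els Cfsg.Agent.ChevalleyStructure.TwF4.Tables.Fls); (try generalize @Cfsg.Agent.ChevalleyStructure.TwF4.Bits.lmul = g0); (try generalize @Cfsg.Agent.ChevalleyStructure.TwF4.Tables.nth = g1); (try generalize @Cfsg.Agent.ChevalleyStructure.TwF4.Tables.tabE = g2); (try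 generalize @Cfsg.Agent.ChevalleyStructure.TwF4.Tables.tabF = g3); rfl') | exact @Cfsg.Agent.FourTwo.RankInv.stepM | exact ()
private theorem _root_.Cfsg.Agent.KO213c67e.e58 : (by first | exact @Cfsg.Agent.FourTwo.RankInv.stepM = @_root_.Cfsg.Agent.KO213c67e.k58 | exact True : Prop) := by first | (delta _root_.Cfsg.Agent.KO213c67e.k58; exact @Subtype.property _ (fun g => @Cfsg.Agent.FourTwo.RankInv.stepM = @g) _) | rfl | trivial
private noncomputable def _root_.Cfsg.Agent.KO213c67e.k59 : (by first | exact type_of% @Cfsg.Agent.FourTwo.RankInv.wordM | exact Unit : Sort _) := by first | (refine @Subtype.val _ (fun g => @Cfsg.Agent.FourTwo.RankInv.wordM = @g) (@Subtype.mk _ _ (@(fun x0 => @List.rec.{1, 0} ℕ @(fun x1 => ℕ) @Cfsg.Agent.ChevalleyStructure.TwF4.Bits.idN @(fun x1 x2 x3 => @Cfsg.Agent.KO213c67e.k58 @x1 @x3) @x0)) ?_); rewrite [← Cfsg.Agent.KO213c67e.e58]; funext a0; refine (_root_.Cfsg.Agent.KO213c67e.e0 (fun a0 => @Cfsg.Agent.FourTwo.RankInv.wordM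 a0) ?_ (fun c0 c1 => ?_) a0 :) <;> ((try delta Cfsg.Agent.FourTwo.RankInv.wordM Cfsg.Agent.FourTwo.RankInv.wordM._f); (try generalize @Cfsg.Agent.ChevalleyStructure.TwF4.Bits.idN = g0); (try generalize @Cfsg.Agent.FourTwo.RankInv.stepM = g1); rfl')) | exact @Cfsg.Agent.FourTwo.RankInv.wordM | exact ()
private theorem _root_.Cfsg.Agent.KO213c67e.e59 : (by first | exact @Cfsg.Agent.FourTwo.RankInv.wordM = @_root_.Cfsg.Agent.KO213c67e.k59 | exact True : Prop) := by first | (delta _root_.Cfsg.Agent.KO213c67e.k59; exact @Subtype.property _ (fun g => @Cfsg.Agent.FourTwo.RankInv.wordM = @g) _) | rfl | trivial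
private noncomputable def _root_.Cfsg.Agent.KO213c67e.k60 : (by first | exact type_of% @Cfsg.Agent.FourTwo.ClassSep.iv | exact Unit : Sort _) := by first | (refine @Subtype.val _ (fun g => @Cfsg.Agent.FourTwo.ClassSep.iv = @g) (@Subtype.mk _ _ (@(fun x0 => (@Cfsg.Agent.KO213c67e.k57 @Cfsg.Agent.FourTwo.RankInv.maskJ (@Cfsg.Agent.KO213c67e.k59 @x0), @Cfsg.Agent.KO213c67e.k57 @Cfsg.Agent.FourTwo.RankInv.maskI (@Cfsg.Agent.KO213c67e.k59 @x0)))) ?_); rewrite [← Cfsg.Agent.KO213c67e.e59, ← Cfsg.Agent.KO213c67e.e57]; (try delta Cfsg.Agent.FourTwo.ClassSep.iv); (try generalize @Cfsg.Agent.FourTwo.RankInv.rkM = g0); (try generalize @Cfsg.Agent.FourTwo.RankInv.maskJ = g1); (try generalize @Cfsg.Agent.FourTwo.RankInv.wordM = g2); (try generalize @Cfsg.Agent.FourTwo.RankInv.maskI = g3); rfl') | exact @Cfsg.Agent.FourTwo.ClassSep.iv | exact ()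
private theorem _root_.Cfsg.Agent.KO213c67e.e60 : (by first | exact @Cfsg.Agent.FourTwo.ClassSep.iv = @_root_.Cfsg.Agent.KO213c67e.k60 | exact True : Prop) := by first | (delta _root_.Cfsg.Agent.KO213c67e.k60; exact @Subtype.property _ (fun g => @Cfsg.Agent.FourTwo.ClassSep.iv = @g) _) | rfl | trivial

theorem root_iv : ((List.range 48).all fun r => decide (ClassSep.iv [r] = (6, 10)) ||
    decide (ClassSep.iv [r] = (10, 6))) = true := by (first | (rewrite [Cfsg.Agent.KO213c67e.e1.{0}, Cfsg.Agent.KO213c67e.e23, Cfsg.Agent.KO213c67e.e50, Cfsg.Agent.KO213c67e.e45, Cfsg.Agent.KO213c67e.e51.{0, 0}, Cfsg.Agent.KO213c67e.e21, Cfsg.Agent.KO213c67e.e60]; decide +kernel) | decide +kernel)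

/-- every root element is conjugate to `x 44` or to `x 47`. -/
theorem root_class {r : ℕ} (hr : r < 48) : (∃ y : LL, y * x r * y⁻¹ = x 44) ∨ ∃ y : LL, y * x r * y⁻¹ = x 47 := by
  have h := root_iv
  rw [List.all_eq_true] at h
  have h1 := h r (List.mem_range.2 hr)
  simp only [Bool.or_eq_true, decide_eq_true_eq] at h1
  have h2 := ClassSep.conj_of_rk2 (x_mul_self r) (x_ne_one hr)
  have h3 : ClassSep.rk2 (x r) = ClassSep.iv [r] := by
    rw [← ClassSep.rk2_wd [r] (by simpa using hr), wd_one]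
  rw [h3] at h2
  rcases h1 with h1 | h1
  · exact Or.inl (h2.1 h1)
  · exact Or.inr (h2.2.1 h1)

theorem not_conj (y : LL) : y * x 44 * y⁻¹ ≠ x 47 := by
  intro h
  have h1 := ClassSep.rk2_conj y (x 44)
  rw [h, ClassSep.rk2_44, ClassSep.rk2_47] at h1
  exact absurd h1 (by decide)

theorem not_conj' (y : LL) : y * x 47 * y⁻¹ ≠ x 44 := by
  intro h
  have h1 := ClassSep.rk2_conj y (x 47)
  rw [h, ClassSep.rk2_44, ClassSep.rk2_47] at h1
  exact absurd h1 (by decide)

theorem center_trivial (b : LL) (h : ∀ u : LL, b * u = u * b) : b = 1 := by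
  have hs : IsSimpleGroup LL := (Cfsg.Agent.S1054.result Cfsg.Lie.chevF4 (by simp)).1
  have hc : Subgroup.center LL = ⊥ := by
    rcases (inferInstance : (Subgroup.center LL).Normal).eq_bot_or_eq_top with h1 | h1
    · exact h1
    · exfalso
      have h2 : x 44 ∈ Subgroup.center LL := h1 ▸ Subgroup.mem_top _
      have h3 : x 3 ∈ Subgroup.center LL := h1 ▸ Subgroup.mem_top _
      have h4 := Subgroup.mem_center_iff.1 h2 (n 0)
      have h5 := n_conj (i := 0) (r := 44) (by omega) (by omega)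
      rw [h4, mul_inv_cancel_right] at h5
      have h6 := x_inj (r := 44) (s := ChevalleyStructure.TwF4.Rel.refl 0 44) (by omega) (by decide) h5
      exact absurd h6 (by decide)
  have h7 : b ∈ Subgroup.center LL := Subgroup.mem_center_iff.2 fun g => (h g).symm
  rw [hc] at h7
  exact Subgroup.mem_bot.1 h7

/-- a graph-type element of `C_G(t)` -/
structure IsOuter {G : Type*} [Group G] (S : Std G) (y : G) : Prop where
  ct : y * S.t = S.t * y
  two : ∃ n : ℕ, y ^ 2 ^ n = 1
  nU : ∀ u ∈ U, ∃ u' ∈ U, y * S.φ u * y⁻¹ = S.φ u'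
  s44 : y * S.φ (x 44) * y⁻¹ = S.φ (x 47)
  s47 : y * S.φ (x 47) * y⁻¹ = S.φ (x 44)
  cov : ∀ g, g * S.t = S.t * g → (∃ l, g = S.φ l ∨ g = S.t * S.φ l) ∨ ∃ l, g = S.φ l * y ∨ g = S.t * S.φ l * y

/-- `C_G(t)` normalises `L`. -/
def Nrm {G : Type*} [Group G] (S : Std G) : Prop := ∀ g, g * S.t = S.t * g → ∀ l, ∃ l', g * S.φ l * g⁻¹ = S.φ l'

/-- `C_G(⟨t⟩ × L) = ⟨t⟩`. -/
def Cen {G : Type*} [Group G] (S : Std G) : Prop :=
  ∀ g, g * S.t = S.t * g → (∀ l, g * S.φ l = S.φ l * g) → g = 1 ∨ g = S.t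

/-- no outer element centralises a root element. -/
theorem outer_root {G : Type*} [Group G] {φ : LL →* G} (hφ : Function.Injective φ) {y : G}
    (hn : ∀ l, ∃ l', y * φ l * y⁻¹ = φ l') (h44 : y * φ (x 44) * y⁻¹ = φ (x 47))
    (h47 : y * φ (x 47) * y⁻¹ = φ (x 44)) (b : LL) {r : ℕ} (hr : r < 48)
    (h : φ b * y * φ (x r) = φ (x r) * (φ b * y)) : False := by
  have key : ∀ a c : ℕ, y * φ (x a) * y⁻¹ = φ (x c) → (∃ m : LL, m * x r * m⁻¹ = x a) →
      ∃ m' : LL, m' * x a * m'⁻¹ = x c := by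
    rintro a c hac ⟨m, hm⟩
    obtain ⟨m', hm'⟩ := hn m
    refine ⟨m' * b⁻¹ * m⁻¹, ?_⟩
    apply hφ
    have e0 : x r = m⁻¹ * x a * m := by rw [← hm]; group
    have e1 : y * φ (x r) * y⁻¹ = φ (b⁻¹ * x r * b) := by
      have h2 : φ b * (y * φ (x r) * y⁻¹) * (φ b)⁻¹ = φ (x r) := by
        calc φ b * (y * φ (x r) * y⁻¹) * (φ b)⁻¹ = φ b * y * φ (x r) * (φ b * y)⁻¹ := by group
          _ = φ (x r) * (φ b * y) * (φ b * y)⁻¹ := by rw [h]
          _ = φ (x r) := by group
      calc y * φ (x r) * y⁻¹ = (φ b)⁻¹ * (φ b * (y * φ (x r) * y⁻¹) * (φ b)⁻¹) * φ b := by group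
        _ = (φ b)⁻¹ * φ (x r) * φ b := by rw [h2]
        _ = _ := by rw [map_mul, map_mul, map_inv]
    have e2 : φ (x c) = φ m' * φ (b⁻¹ * x r * b) * (φ m')⁻¹ := by
      rw [← hac, ← e1, ← hm', ← hm, map_mul, map_mul, map_inv]
      group
    rw [e2, e0]
    simp only [map_mul, map_inv]
    group
  rcases root_class hr with h1 | h1
  · obtain ⟨m', hm'⟩ := key 44 47 h44 h1
    exact not_conj m' hm'
  · obtain ⟨m', hm'⟩ := key 47 44 h47 h1
    exact not_conj' m' hm'

/-- From the context of the reduction. -/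
theorem exists_std {G : Type*} [Group G] [Finite G] [IsSimpleGroup G] (D : Red.RedData LL) (hU : D.U = U)
    (hs : D.s = x 44) (hl : D.l = x 47)
    (hbal : ∀ t : G, orderOf t = 2 → Cfsg.centralizerPPrimeCore 2 t = ⊥) (hcomm : StdAlt.First.CommHalf G)
    {A : Subgroup G} (hA : Cfsg.IsStandardSubgroup A) (f : LL →* G) (hf : Function.Injective f) (hfA : f.range = A) :
    ∃ S : Std G, Nrm S ∧ Cen S ∧ (S.E1 ∨ ∃ y, IsOuter S y) := by
  have hsimple : IsSimpleGroup LL := (Cfsg.Agent.S1054.result Cfsg.Lie.chevF4 (by simp)).1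
  obtain ⟨t, hto, htA, hcA, hnA, h⟩ := Red.exists_ctx D hbal hcomm hA f hf hfA
  have htt : t * t = 1 := by rw [← sq, ← hto]; exact pow_orderOf_eq_one t
  have ht1 : t ≠ 1 := by
    rintro rfl
    rw [orderOf_one] at hto
    exact absurd hto (by norm_num)
  have hmem : ∀ g, g ∈ A ↔ ∃ l, f l = g := fun g => by rw [← hfA]; exact MonoidHom.mem_range
  have htc : ∀ l, t * f l = f l * t := fun l => (hcA (f l) ((hmem _).2 ⟨l, rfl⟩)).symm
  have htf : ∀ g, g * t ∈ A → ∃ l, g = t * f l := by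
    intro g hg
    obtain ⟨l, hl⟩ := (hmem _).1 hg
    refine ⟨l, ?_⟩
    rw [htc, hl, mul_assoc, htt, mul_one]
  have hnorm : ∀ g, g * t = t * g → ∀ l, ∃ l', g * f l * g⁻¹ = f l' := by
    intro g hg l
    obtain ⟨l', hl'⟩ := (hmem _).1 (hnA g hg (f l) ((hmem _).2 ⟨l, rfl⟩))
    exact ⟨l', hl'.symm⟩
  rcases h with h | ⟨y, hyt, hy2, hyU, hys, hyl, hcov⟩
  · have hE : ∀ g, g * t = t * g → ∃ l, g = f l ∨ g = t * f l := by
      intro g hg
      rcases h g hg with h1 | h1
      · obtain ⟨l, hl⟩ := (hmem _).1 h1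
        exact ⟨l, Or.inl hl.symm⟩
      · obtain ⟨l, hl⟩ := htf g h1
        exact ⟨l, Or.inr hl⟩
    refine ⟨⟨f, hf, t, htt, htc, fun l hl => htA ((hmem _).2 ⟨l, hl.symm⟩), fun g hg _ _ _ => hE g hg⟩,
      hnorm, ?_, Or.inl hE⟩
    intro g hg hgl
    obtain ⟨l, hl⟩ := hE g hg
    have h3 : l = 1 := by
      apply center_trivial
      intro u
      apply hf
      have h4 := hgl u
      change g * f u = f u * g at h4
      rcases hl with rfl | rfl
      · rw [map_mul, map_mul]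
        exact h4
      · rw [← mul_assoc, ← htc, mul_assoc, mul_assoc] at h4
        rw [map_mul, map_mul]
        exact mul_left_cancel h4
    rw [h3, map_one, mul_one] at hl
    exact hl
  · rw [hs, hl] at hys hyl
    have hcov' : ∀ g, g * t = t * g → (∃ l, g = f l ∨ g = t * f l) ∨ ∃ l, g = f l * y ∨ g = t * f l * y := by
      intro g hg
      rcases hcov g hg with h1 | h1 | h1 | h1
      · obtain ⟨l, hl⟩ := (hmem _).1 h1
        exact Or.inl ⟨l, Or.inl hl.symm⟩
      · obtain ⟨l, hl⟩ := htf g h1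
        exact Or.inl ⟨l, Or.inr hl⟩
      · obtain ⟨l, hl⟩ := (hmem _).1 h1
        exact Or.inr ⟨l, Or.inl (by rw [hl, inv_mul_cancel_right])⟩
      · obtain ⟨l, hl⟩ := htf (g * y⁻¹) h1
        exact Or.inr ⟨l, Or.inr (by rw [← hl, inv_mul_cancel_right])⟩
    have hroot : ∀ g, g * t = t * g → ∀ r < 48, g * f (x r) = f (x r) * g → ∃ l, g = f l ∨ g = t * f l := by
      intro g hg r hr hgr
      rcases hcov' g hg with h1 | ⟨l, h1 | h1⟩
      · exact h1
      · exfalso
        rw [h1] at hgr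
        exact outer_root hf (hnorm y hyt) hys hyl l hr hgr
      · exfalso
        rw [h1] at hgr
        refine outer_root hf (hnorm y hyt) hys hyl l hr ?_
        have h2 : t * (f l * y * f (x r)) = t * (f (x r) * (f l * y)) := by
          calc t * (f l * y * f (x r)) = t * f l * y * f (x r) := by simp only [mul_assoc]
            _ = f (x r) * (t * f l * y) := hgr
            _ = (f (x r) * t) * f l * y := by simp only [mul_assoc]
            _ = (t * f (x r)) * f l * y := by rw [htc]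
            _ = _ := by simp only [mul_assoc]
        exact mul_left_cancel h2
    refine ⟨⟨f, hf, t, htt, htc, fun l hl => htA ((hmem _).2 ⟨l, hl.symm⟩), hroot⟩, hnorm, ?_,
      Or.inr ⟨y, hyt, hy2, ?_, hys, hyl, hcov'⟩⟩
    · intro g hg hgl
      change g * t = t * g at hg
      change ∀ l, g * f l = f l * g at hgl
      obtain ⟨l, hl⟩ := hroot g hg 44 (by omega) (hgl _)
      have h3 : l = 1 := by
        apply center_trivial
        intro u
        apply hf
        have h4 := hgl u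
        rcases hl with rfl | rfl
        · rw [map_mul, map_mul]
          exact h4
        · rw [← mul_assoc, ← htc, mul_assoc, mul_assoc] at h4
          rw [map_mul, map_mul]
          exact mul_left_cancel h4
      rw [h3, map_one, mul_one] at hl
      exact hl
    · intro u hu
      rw [hU] at hyU
      exact hyU u hu

end Cfsg.Agent.F42.Ctx
end

-- part: F42/AllInst
section
/-!
# Case ALL of `F₄(2)` standard: the system `V`

From involutions `a`, `b` with `t^a = t x₄₄`, `t^b = t x₄₇`, `a` (`b`) commuting with `C_L(x₄₄)` (`C_L(x₄₇)`):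
an instance of `AllSys.VSys` on `L = F₄(2)`.
-/

set_option autoImplicit false

namespace Cfsg.Agent.F42.AllInst

open Cfsg.Agent.FourTwo.Base Cfsg.Agent.FourTwo.Par Cfsg.Agent.FourTwo.Cent Cfsg.Agent.F42.AllSys

variable {G : Type*} [Group G]

/-- the two new elements -/
structure Two (S : Std G) (a b : G) : Prop where
  aa : a * a = 1
  bb : b * b = 1
  ta : a * S.t * a⁻¹ = S.t * S.φ (x 44)
  tb : b * S.t * b⁻¹ = S.t * S.φ (x 47)
  ca : ∀ g : LL, g * x 44 = x 44 * g → S.φ g * a = a * S.φ g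
  cb : ∀ g : LL, g * x 47 = x 47 * g → S.φ g * b = b * S.φ g

theorem bar_psP : ((List.range 48).all fun r => !plP r || psP (bar r)) = true := by decide +kernel

theorem comm_of_RG {φ : LL →* G} {P : ℕ → Bool} {c : G} (h : ∀ r < 48, P r = true → φ (x r) * c = c * φ (x r))
    {g : LL} (hg : g ∈ RG P) : φ g * c = c * φ g := by
  have h1 : RG P ≤ (Subgroup.centralizer {c}).comap φ := RG_le fun r hr hp => by
    rw [Subgroup.mem_comap, Subgroup.mem_centralizer_singleton_iff]
    exact h r hr hp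
  have h2 := h1 hg
  rw [Subgroup.mem_comap, Subgroup.mem_centralizer_singleton_iff] at h2
  exact h2

theorem two_of (S : Std G) (α : LL ≃* LL) (hα : ∀ r < 48, α (x r) = x (bar r)) {a b : G} (ha : S.IsSplit a)
    (hb : (S.dual α hα).IsSplit b) : Two S a b where
  aa := ha.aa
  bb := hb.aa
  ta := ha.at_
  tb := by
    have h := hb.at_
    rw [Std.dual_φ, Std.dual_t, hα 44 (by norm_num)] at h
    exact h
  ca g hg := by
    have h1 : g ∈ Subgroup.centralizer {x 44} := by
      rw [Subgroup.mem_centralizer_singleton_iff]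
      exact hg
    rw [cent_short] at h1
    refine comm_of_RG (P := psP) (fun r hr hp => ?_) h1
    unfold psP at hp
    rw [decide_eq_true_eq] at hp
    exact (ha.fix r hp hr).symm
  cb g hg := by
    have h1 : g ∈ Subgroup.centralizer {x 47} := by
      rw [Subgroup.mem_centralizer_singleton_iff]
      exact hg
    rw [cent_long] at h1
    refine comm_of_RG (P := plP) (fun r hr hp => ?_) h1
    have h2 := bar_psP
    rw [List.all_eq_true] at h2
    have h3 := h2 r (List.mem_range.2 hr)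
    rw [hp, Bool.not_true, Bool.false_or] at h3
    unfold psP at h3
    rw [decide_eq_true_eq] at h3
    have h4 := hb.fix (bar r) h3 (bar_lt hr)
    rw [Std.dual_φ, hα _ (bar_lt hr), bar_bar hr] at h4
    exact h4.symm

open Classical in
/-- the new elements attached to all root elements -/
noncomputable def V (S : Std G) (a b : G) (y : LL) : G :=
  if h : ∃ g : LL, g * x 44 * g⁻¹ = y then S.φ h.choose * a * (S.φ h.choose)⁻¹
  else if h : ∃ g : LL, g * x 47 * g⁻¹ = y then S.φ h.choose * b * (S.φ h.choose)⁻¹ else 1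

theorem conj_welldef {φ : LL →* G} {c : G} {z : LL} (hc : ∀ g : LL, g * z = z * g → φ g * c = c * φ g) {g k : LL}
    (h : k * z * k⁻¹ = g * z * g⁻¹) : φ k * c * (φ k)⁻¹ = φ g * c * (φ g)⁻¹ := by
  have h1 : (g⁻¹ * k) * z = z * (g⁻¹ * k) := by
    calc (g⁻¹ * k) * z = g⁻¹ * (k * z * k⁻¹) * k := by group
      _ = g⁻¹ * (g * z * g⁻¹) * k := by rw [h]
      _ = _ := by group
  have h2 := hc _ h1
  rw [map_mul, map_inv] at h2
  calc φ k * c * (φ k)⁻¹ = φ g * ((φ g)⁻¹ * φ k * c) * (φ k)⁻¹ := by group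
    _ = φ g * (c * ((φ g)⁻¹ * φ k)) * (φ k)⁻¹ := by rw [h2]
    _ = _ := by group

theorem V_short {S : Std G} {a b : G} (T : Two S a b) (g : LL) :
    V S a b (g * x 44 * g⁻¹) = S.φ g * a * (S.φ g)⁻¹ := by
  unfold V
  have h : ∃ g' : LL, g' * x 44 * g'⁻¹ = g * x 44 * g⁻¹ := ⟨g, rfl⟩
  rw [dif_pos h]
  exact conj_welldef T.ca h.choose_spec

theorem not_conj (g g' : LL) : g' * x 44 * g'⁻¹ ≠ g * x 47 * g⁻¹ := by
  intro h
  have h1 : Cfsg.Agent.FourTwo.ClassSep.rk2 (g' * x 44 * g'⁻¹) = Cfsg.Agent.FourTwo.ClassSep.rk2 (g * x 47 * g⁻¹) := by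
    rw [h]
  rw [Cfsg.Agent.FourTwo.ClassSep.rk2_conj, Cfsg.Agent.FourTwo.ClassSep.rk2_conj,
    Cfsg.Agent.FourTwo.ClassSep.rk2_44, Cfsg.Agent.FourTwo.ClassSep.rk2_47] at h1
  exact absurd h1 (by decide)

theorem V_long {S : Std G} {a b : G} (T : Two S a b) (g : LL) :
    V S a b (g * x 47 * g⁻¹) = S.φ g * b * (S.φ g)⁻¹ := by
  unfold V
  have h0 : ¬ ∃ g' : LL, g' * x 44 * g'⁻¹ = g * x 47 * g⁻¹ := fun ⟨g', h'⟩ => not_conj g g' h'
  have h : ∃ g' : LL, g' * x 47 * g'⁻¹ = g * x 47 * g⁻¹ := ⟨g, rfl⟩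
  rw [dif_neg h0, dif_pos h]
  exact conj_welldef T.cb h.choose_spec

/-- the root elements -/
def Rt : Set LL := {y | (∃ g : LL, g * x 44 * g⁻¹ = y) ∨ (∃ g : LL, g * x 47 * g⁻¹ = y)}

theorem Rt_conj {y : LL} (hy : y ∈ Rt) (g : LL) : g * y * g⁻¹ ∈ Rt := by
  rcases hy with ⟨h, rfl⟩ | ⟨h, rfl⟩
  · exact Or.inl ⟨g * h, by group⟩
  · exact Or.inr ⟨g * h, by group⟩

theorem moves {t c f φz : G} (hc : c * t * c⁻¹ = t * φz) (hf : f * t = t * f) :
    (f * c * f⁻¹) * t = t * (f * φz * f⁻¹) * (f * c * f⁻¹) := by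
  have h1 : c * t = t * φz * c := by rw [← hc]; group
  have h2 : f⁻¹ * t = t * f⁻¹ := by
    calc f⁻¹ * t = f⁻¹ * (t * f) * f⁻¹ := by group
      _ = f⁻¹ * (f * t) * f⁻¹ := by rw [hf]
      _ = _ := by group
  calc (f * c * f⁻¹) * t = f * c * (f⁻¹ * t) := by group
    _ = f * (c * t) * f⁻¹ := by rw [h2]; group
    _ = (f * t) * φz * c * f⁻¹ := by rw [h1]; group
    _ = t * (f * φz * f⁻¹) * (f * c * f⁻¹) := by rw [hf]; group

/-- The system. -/
noncomputable def sys {S : Std G} {a b : G} (T : Two S a b) : VSys G LL where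
  t := S.t
  φ := S.φ
  Rt := Rt
  V := V S a b
  tt := S.tt
  inj := S.inj
  φt := S.comm'
  cent := by
    have key : ∀ r < 48, ∀ g h : LL, ∀ u : G, u * S.t = S.t * u → Commute (S.φ (h * x r * h⁻¹)) u →
        ∃ l, u = S.φ l ∨ u = S.t * S.φ l := by
      intro r hr g h u hu hc
      obtain ⟨l, hl⟩ := S.root ((S.φ h)⁻¹ * u * S.φ h) (by
        have h1 := S.comm' h
        calc (S.φ h)⁻¹ * u * S.φ h * S.t = (S.φ h)⁻¹ * u * (S.φ h * S.t) := by group
          _ = (S.φ h)⁻¹ * (u * S.t) * S.φ h := by rw [h1]; group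
          _ = (S.φ h)⁻¹ * S.t * u * S.φ h := by rw [hu]; group
          _ = (S.φ h)⁻¹ * (S.t * S.φ h) * ((S.φ h)⁻¹ * u * S.φ h) := by group
          _ = _ := by rw [← h1]; group) r hr (by
        have h2 := hc.eq
        rw [map_mul, map_mul, map_inv] at h2
        calc (S.φ h)⁻¹ * u * S.φ h * S.φ (x r) = (S.φ h)⁻¹ * (u * (S.φ h * S.φ (x r) * (S.φ h)⁻¹)) * S.φ h := by group
          _ = _ := by rw [← h2]; group)
      refine ⟨h * l * h⁻¹, ?_⟩
      have h3 : u = S.φ h * ((S.φ h)⁻¹ * u * S.φ h) * (S.φ h)⁻¹ := by group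
      rcases hl with hl | hl
      · left
        rw [h3, hl, map_mul, map_mul, map_inv]
      · right
        rw [h3, hl, map_mul, map_mul, map_inv]
        have h1 := S.comm' h
        calc S.φ h * (S.t * S.φ l) * (S.φ h)⁻¹ = (S.φ h * S.t) * S.φ l * (S.φ h)⁻¹ := by group
          _ = _ := by rw [h1]; group
    intro u hu y hy hc
    rcases hy with ⟨h, rfl⟩ | ⟨h, rfl⟩
    · exact key 44 (by norm_num) 1 h u hu hc
    · exact key 47 (by norm_num) 1 h u hu hc
  conj_mem y hy g := Rt_conj hy g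
  ysq y hy := by
    rcases hy with ⟨h, rfl⟩ | ⟨h, rfl⟩
    · have h1 := x_mul_self 44
      calc h * x 44 * h⁻¹ * (h * x 44 * h⁻¹) = h * (x 44 * x 44) * h⁻¹ := by group
        _ = 1 := by rw [h1]; group
    · have h1 := x_mul_self 47
      calc h * x 47 * h⁻¹ * (h * x 47 * h⁻¹) = h * (x 47 * x 47) * h⁻¹ := by group
        _ = 1 := by rw [h1]; group
  yne y hy := by
    rcases hy with ⟨h, rfl⟩ | ⟨h, rfl⟩
    · intro h1
      apply Cfsg.Agent.FourTwo.BN.x_ne_one (r := 44) (by norm_num)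
      calc x 44 = h⁻¹ * (h * x 44 * h⁻¹) * h := by group
        _ = 1 := by rw [h1]; group
    · intro h1
      apply Cfsg.Agent.FourTwo.BN.x_ne_one (r := 47) (by norm_num)
      calc x 47 = h⁻¹ * (h * x 47 * h⁻¹) * h := by group
        _ = 1 := by rw [h1]; group
  Vsq y hy := by
    rcases hy with ⟨h, rfl⟩ | ⟨h, rfl⟩
    · rw [V_short T]
      calc S.φ h * a * (S.φ h)⁻¹ * (S.φ h * a * (S.φ h)⁻¹) = S.φ h * (a * a) * (S.φ h)⁻¹ := by group
        _ = 1 := by rw [T.aa]; group
    · rw [V_long T]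
      calc S.φ h * b * (S.φ h)⁻¹ * (S.φ h * b * (S.φ h)⁻¹) = S.φ h * (b * b) * (S.φ h)⁻¹ := by group
        _ = 1 := by rw [T.bb]; group
  Vt y hy := by
    rcases hy with ⟨h, rfl⟩ | ⟨h, rfl⟩
    · rw [V_short T, map_mul, map_mul, map_inv]
      exact moves T.ta (S.comm' h)
    · rw [V_long T, map_mul, map_mul, map_inv]
      exact moves T.tb (S.comm' h)
  Vconj y hy g := by
    rcases hy with ⟨h, rfl⟩ | ⟨h, rfl⟩
    · have e : g * (h * x 44 * h⁻¹) * g⁻¹ = (g * h) * x 44 * (g * h)⁻¹ := by group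
      rw [e, V_short T, V_short T, map_mul]
      group
    · have e : g * (h * x 47 * h⁻¹) * g⁻¹ = (g * h) * x 47 * (g * h)⁻¹ := by group
      rw [e, V_long T, V_long T, map_mul]
      group

end Cfsg.Agent.F42.AllInst
end

-- part: F42/AllRel
section
/-!
# Commutators of the groups `⟨φ y, V y⟩`

`CM a b cs`: the commutators of `φ a`, `V a` with `φ b`, `V b` lie in the subgroup generated by the `φ c`, `V c`,
`c ∈ cs`.
-/

set_option autoImplicit false

namespace Cfsg.Agent.F42.AllSys.VSys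

open Subgroup

variable {G Λ : Type*} [Group G] [Group Λ] (S : VSys G Λ)

/-- the subgroup generated by the groups of the `c ∈ cs` -/
def Nc (cs : List Λ) : Subgroup G := closure {g | ∃ c ∈ cs, g = S.φ c ∨ g = S.V c}

theorem φ_mem {cs : List Λ} {c : Λ} (h : c ∈ cs) : S.φ c ∈ S.Nc cs := subset_closure ⟨c, h, Or.inl rfl⟩

theorem V_mem {cs : List Λ} {c : Λ} (h : c ∈ cs) : S.V c ∈ S.Nc cs := subset_closure ⟨c, h, Or.inr rfl⟩

theorem Nc_le {cs : List Λ} {H : Subgroup G} (h : ∀ c ∈ cs, S.φ c ∈ H ∧ S.V c ∈ H) : S.Nc cs ≤ H := by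
  unfold Nc
  rw [closure_le]
  rintro _ ⟨c, hc, rfl | rfl⟩
  · exact (h c hc).1
  · exact (h c hc).2

/-- commutators of two groups -/
def CM (a b : Λ) (cs : List Λ) : Prop :=
  ∀ u v, (u = S.φ a ∨ u = S.V a) → (v = S.φ b ∨ v = S.V b) → u * v * u⁻¹ * v⁻¹ ∈ S.Nc cs

theorem CM.symm {a b : Λ} {cs : List Λ} (h : S.CM a b cs) : S.CM b a cs := by
  intro u v hu hv
  have h1 := inv_mem (h v u hv hu)
  have e : (v * u * v⁻¹ * u⁻¹)⁻¹ = u * v * u⁻¹ * v⁻¹ := by group
  rwa [e] at h1

theorem CM.mono {a b : Λ} {cs ds : List Λ} (h : S.CM a b cs) (hcd : ∀ c ∈ cs, c ∈ ds) : S.CM a b ds := by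
  intro u v hu hv
  exact S.Nc_le (fun c hc => ⟨S.φ_mem (hcd c hc), S.V_mem (hcd c hc)⟩) (h u v hu hv)

theorem conj_mem_Nc {cs : List Λ} (hcs : ∀ c ∈ cs, c ∈ S.Rt) (g : Λ) {u : G} (hu : u ∈ S.Nc cs) :
    S.φ g * u * (S.φ g)⁻¹ ∈ S.Nc (cs.map fun c => g * c * g⁻¹) := by
  have h : S.Nc cs ≤ (S.Nc (cs.map fun c => g * c * g⁻¹)).comap (MulAut.conj (S.φ g)).toMonoidHom := by
    refine S.Nc_le fun c hc => ?_
    have hm : g * c * g⁻¹ ∈ cs.map fun c => g * c * g⁻¹ := List.mem_map.2 ⟨c, hc, rfl⟩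
    constructor
    · rw [mem_comap]
      change S.φ g * S.φ c * (S.φ g)⁻¹ ∈ _
      rw [← map_inv, ← map_mul, ← map_mul]
      exact S.φ_mem hm
    · rw [mem_comap]
      change S.φ g * S.V c * (S.φ g)⁻¹ ∈ _
      rw [S.Vconj c (hcs c hc)]
      exact S.V_mem hm
  exact h hu

theorem CM.conj {a b : Λ} (ha : a ∈ S.Rt) (hb : b ∈ S.Rt) {cs : List Λ} (hcs : ∀ c ∈ cs, c ∈ S.Rt)
    (h : S.CM a b cs) (g : Λ) : S.CM (g * a * g⁻¹) (g * b * g⁻¹) (cs.map fun c => g * c * g⁻¹) := by
  intro u v hu hv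
  have hu' : ∃ u', (u' = S.φ a ∨ u' = S.V a) ∧ u = S.φ g * u' * (S.φ g)⁻¹ := by
    rcases hu with rfl | rfl
    · exact ⟨_, Or.inl rfl, by rw [map_mul, map_mul, map_inv]⟩
    · exact ⟨_, Or.inr rfl, (S.Vconj a ha g).symm⟩
  have hv' : ∃ v', (v' = S.φ b ∨ v' = S.V b) ∧ v = S.φ g * v' * (S.φ g)⁻¹ := by
    rcases hv with rfl | rfl
    · exact ⟨_, Or.inl rfl, by rw [map_mul, map_mul, map_inv]⟩
    · exact ⟨_, Or.inr rfl, (S.Vconj b hb g).symm⟩
  obtain ⟨u', hu1, rfl⟩ := hu'
  obtain ⟨v', hv1, rfl⟩ := hv'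
  have h1 := S.conj_mem_Nc hcs g (h u' v' hu1 hv1)
  have e : S.φ g * (u' * v' * u'⁻¹ * v'⁻¹) * (S.φ g)⁻¹ = S.φ g * u' * (S.φ g)⁻¹ * (S.φ g * v' * (S.φ g)⁻¹) *
      (S.φ g * u' * (S.φ g)⁻¹)⁻¹ * (S.φ g * v' * (S.φ g)⁻¹)⁻¹ := by group
  rwa [e] at h1

theorem comm_conj {a b : Λ} (ha : a ∈ S.Rt) (hb : b ∈ S.Rt) (h : S.V a * S.V b = S.V b * S.V a) (g : Λ) :
    S.V (g * a * g⁻¹) * S.V (g * b * g⁻¹) = S.V (g * b * g⁻¹) * S.V (g * a * g⁻¹) := by
  rw [← S.Vconj a ha, ← S.Vconj b hb, ← S.conj_mul, ← S.conj_mul, h]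

theorem CM_comm {a b : Λ} (ha : a ∈ S.Rt) (hb : b ∈ S.Rt) (hab : a * b = b * a)
    (h : S.V a * S.V b = S.V b * S.V a) : S.CM a b [] := by
  have key : ∀ u v : G, Commute u v → u * v * u⁻¹ * v⁻¹ ∈ S.Nc [] := by
    intro u v huv
    have : u * v * u⁻¹ * v⁻¹ = 1 := by rw [huv.eq]; group
    rw [this]; exact one_mem _
  rintro u v (rfl | rfl) (rfl | rfl)
  · exact key _ _ (S.commφφ hab)
  · exact key _ _ (S.commφV hb hab)
  · exact key _ _ (S.commφV ha hab.symm).symm
  · exact key _ _ h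

theorem Obt.cm {a b c : Λ} (h : S.Obt a b c) : S.CM a b [c] := by
  have haa := S.ysq a h.ha
  have hbb := S.ysq b h.hb
  have ia : (S.φ a)⁻¹ = S.φ a := inv_eq_of_mul_eq_one_right (S.φsq haa)
  have ib : (S.φ b)⁻¹ = S.φ b := inv_eq_of_mul_eq_one_right (S.φsq hbb)
  have iA := S.Vinv h.ha
  have iB := S.Vinv h.hb
  have hA := S.Vsq a h.ha
  have hB := S.Vsq b h.hb
  have mc : S.φ c ∈ S.Nc [c] := S.φ_mem (List.mem_singleton.2 rfl)
  have mV : S.V c ∈ S.Nc [c] := S.V_mem (List.mem_singleton.2 rfl)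
  have r1 := h.phi_V
  have r2 := h.symm.phi_V
  apply CM.symm
  rintro u v (rfl | rfl) (rfl | rfl)
  · -- `φ b`, `φ a`
    rw [ia, ib]
    have e : S.φ b * S.φ a * S.φ b * S.φ a = S.φ c := by
      rw [← map_mul, ← map_mul, h.rel, ← map_mul, mul_assoc, ← h.ac, ← mul_assoc, haa, one_mul]
    rw [e]; exact mc
  · -- `φ b`, `V a`
    rw [iA, ib]
    have e : S.φ b * S.V a * S.φ b * S.V a = S.V c := by
      rw [r1, mul_assoc, ← h.pa.2, ← mul_assoc, hA, one_mul]
    rw [e]; exact mV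
  · -- `V b`, `φ a`
    rw [iB, ia]
    have e : S.V b * S.φ a * S.V b * S.φ a = S.V c := by
      calc S.V b * S.φ a * S.V b * S.φ a = S.V b * (S.φ a * S.V b * S.φ a) := by group
        _ = (S.V b * S.V b) * S.V c := by rw [r2]; group
        _ = S.V c := by rw [hB, one_mul]
    rw [e]; exact mV
  · rw [iA, iB]
    rcases h.rel_VV with e | e
    · rw [e]; exact mV
    · rw [e]; exact mul_mem mc mV

theorem Obf.cm {a b p q : Λ} (h : S.Obf a b p q) : S.CM a b [p, q] := by
  have haa := S.ysq a h.ha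
  have hbb := S.ysq b h.hb
  have ia : (S.φ a)⁻¹ = S.φ a := inv_eq_of_mul_eq_one_right (S.φsq haa)
  have ib : (S.φ b)⁻¹ = S.φ b := inv_eq_of_mul_eq_one_right (S.φsq hbb)
  have iA := S.Vinv h.ha
  have iB := S.Vinv h.hb
  have hA := S.Vsq a h.ha
  have hB := S.Vsq b h.hb
  have mp : S.φ p ∈ S.Nc [p, q] := S.φ_mem (by simp)
  have mq : S.φ q ∈ S.Nc [p, q] := S.φ_mem (by simp)
  have mVp : S.V p ∈ S.Nc [p, q] := S.V_mem (by simp)
  have mVq : S.V q ∈ S.Nc [p, q] := S.V_mem (by simp)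
  obtain ⟨j, r1⟩ := h.phi_V
  obtain ⟨j', r2⟩ := h.phi_V'
  apply CM.symm
  rintro u v (rfl | rfl) (rfl | rfl)
  · rw [ia, ib]
    have e : S.φ b * S.φ a * S.φ b * S.φ a = S.φ p * S.φ q := by
      rw [← map_mul, ← map_mul, h.rel, ← map_mul, ← map_mul]
      congr 1
      have c1 : Commute a (p * q) := (show Commute a p from h.ap).mul_right h.aq
      calc a * p * q * a = a * ((p * q) * a) := by group
        _ = (a * a) * (p * q) := by rw [← c1.eq]; group
        _ = p * q := by rw [haa, one_mul]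
    rw [e]; exact mul_mem mp mq
  · rw [iA, ib]
    have c1 : Commute (S.V a) (S.V p * S.V q * S.φ p ^ (j : ℕ)) :=
      ((show Commute (S.V a) (S.V p) from h.vap).mul_right h.vaq).mul_right
        (((S.commφV h.ha h.ap.symm).symm).pow_right _)
    have e : S.φ b * S.V a * S.φ b * S.V a = S.V p * S.V q * S.φ p ^ (j : ℕ) := by
      calc S.φ b * S.V a * S.φ b * S.V a = S.V a * ((S.V p * S.V q * S.φ p ^ (j : ℕ)) * S.V a) := by rw [r1]; group
        _ = (S.V a * S.V a) * (S.V p * S.V q * S.φ p ^ (j : ℕ)) := by rw [← c1.eq]; group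
        _ = _ := by rw [hA, one_mul]
    rw [e]; exact mul_mem (mul_mem mVp mVq) (pow_mem mp _)
  · rw [iB, ia]
    have e : S.V b * S.φ a * S.V b * S.φ a = S.V p * S.V q * S.φ q ^ (j' : ℕ) := by
      calc S.V b * S.φ a * S.V b * S.φ a = S.V b * (S.φ a * S.V b * S.φ a) := by group
        _ = (S.V b * S.V b) * (S.V p * S.V q * S.φ q ^ (j' : ℕ)) := by rw [r2]; group
        _ = _ := by rw [hB, one_mul]
    rw [e]; exact mul_mem (mul_mem mVp mVq) (pow_mem mq _)
  · rw [iA, iB]
    obtain ⟨i, k, m, n, e⟩ := h.rel_VV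
    rw [e]
    exact mul_mem (mul_mem (mul_mem (pow_mem mp _) (pow_mem mq _)) (pow_mem mVp _)) (pow_mem mVq _)

end Cfsg.Agent.F42.AllSys.VSys
end

-- part: F42/AllStd
section
/-!
# Case ALL of `F₄(2)` standard: all pairs of root elements
-/

set_option autoImplicit false

namespace Cfsg.Agent.F42.AllInst

open Cfsg.Agent.FourTwo.Base Cfsg.Agent.FourTwo.Comm Cfsg.Agent.FourTwo.BN Cfsg.Agent.FourTwo.Par
  Cfsg.Agent.FourTwo.Cent Cfsg.Agent.FourTwo.CentP Cfsg.Agent.FourTwo.PairW Cfsg.Agent.F42.AllSys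

variable {G : Type*} [Group G]

/-! ### algebra in an arbitrary group -/

section Gen

variable {Λ : Type*} [Group Λ]

theorem reorder {A B C : Λ} (h1 : C * A = A * C) (h2 : C * B = B * C) (i j m : ℕ) :
    A ^ i * B ^ j * C ^ m = C ^ m * A ^ i * B ^ j := by
  have h1' : Commute C A := h1
  have h2' : Commute C B := h2
  have h3 : Commute (C ^ m) (A ^ i * B ^ j) := (h1'.pow_pow _ _).mul_right (h2'.pow_pow _ _)
  rw [mul_assoc (C ^ m), h3.eq]

theorem fst_alg {A B C p q z : Λ} (hA : A = 1 ∨ A = q) (hB : B = 1 ∨ B = p) (hC : C = 1 ∨ C = z)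
    (hqz : z * q = q * z) (hpq : p * q ≠ q * p) (h : A * B * C * q = q * (A * B * C)) :
    A * B * C = 1 ∨ A * B * C = q ∨ A * B * C = z ∨ A * B * C = q * z := by
  have hqz' : Commute z q := hqz
  have cA : Commute A q := by
    rcases hA with rfl | rfl
    · exact Commute.one_left _
    · exact Commute.refl _
  have cC : Commute C q := by
    rcases hC with rfl | rfl
    · exact Commute.one_left _
    · exact hqz'
  have hB1 : B = 1 := by
    rcases hB with rfl | rfl
    · rfl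
    · exfalso
      apply hpq
      have h1 : Commute (A * B * C) q := h
      have h3 : B = A⁻¹ * (A * B * C) * C⁻¹ := by group
      have h2 : Commute B q := by
        rw [h3]
        exact (cA.inv_left.mul_left h1).mul_left cC.inv_left
      exact h2
  rw [hB1, mul_one]
  rcases hA with rfl | rfl <;> rcases hC with rfl | rfl
  · left; rw [one_mul]
  · right; right; left; rw [one_mul]
  · right; left; rw [mul_one]
  · right; right; right; rfl

theorem snd_alg {A B C p q z : Λ} (hA : A = 1 ∨ A = p) (hB : B = 1 ∨ B = q) (hC : C = 1 ∨ C = z)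
    (hqz : z * q = q * z) (hpq : p * q ≠ q * p) (h : A * B * C * q = q * (A * B * C)) :
    A * B * C = 1 ∨ A * B * C = q ∨ A * B * C = z ∨ A * B * C = q * z := by
  have hqz' : Commute z q := hqz
  have cB : Commute B q := by
    rcases hB with rfl | rfl
    · exact Commute.one_left _
    · exact Commute.refl _
  have cC : Commute C q := by
    rcases hC with rfl | rfl
    · exact Commute.one_left _
    · exact hqz'
  have hA1 : A = 1 := by
    rcases hA with rfl | rfl
    · rfl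
    · exfalso
      apply hpq
      have h1 : Commute (A * B * C) q := h
      have h3 : A = (A * B * C) * C⁻¹ * B⁻¹ := by group
      have h2 : Commute A q := by
        rw [h3]
        exact (h1.mul_left cC.inv_left).mul_left cB.inv_left
      exact h2
  rw [hA1, one_mul]
  rcases hB with rfl | rfl <;> rcases hC with rfl | rfl
  · left; rw [one_mul]
  · right; right; left; rw [one_mul]
  · right; left; rw [mul_one]
  · right; right; right; rfl

theorem not_comm_of_conj {q p z : Λ} (h : q * p * q⁻¹ = p * z) (hz : z ≠ 1) : p * q ≠ q * p := by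
  intro h1
  rw [← h1, mul_inv_cancel_right] at h
  have h5 : p * 1 = p * z := by rw [mul_one]; exact h
  exact hz (mul_left_cancel h5).symm

end Gen

/-- the group structure of `LL` (to be passed explicitly) -/
abbrev gi : Group LL := inferInstance

theorem reorderL {A B C : LL} (h1 : C * A = A * C) (h2 : C * B = B * C) (i j m : ℕ) :
    A ^ i * B ^ j * C ^ m = C ^ m * A ^ i * B ^ j := @reorder LL gi A B C h1 h2 i j m

theorem fst_algL {A B C p q z : LL} (hA : A = 1 ∨ A = q) (hB : B = 1 ∨ B = p) (hC : C = 1 ∨ C = z)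
    (hqz : z * q = q * z) (hpq : p * q ≠ q * p) (h : A * B * C * q = q * (A * B * C)) :
    A * B * C = 1 ∨ A * B * C = q ∨ A * B * C = z ∨ A * B * C = q * z :=
  @fst_alg LL gi A B C p q z hA hB hC hqz hpq h

theorem snd_algL {A B C p q z : LL} (hA : A = 1 ∨ A = p) (hB : B = 1 ∨ B = q) (hC : C = 1 ∨ C = z)
    (hqz : z * q = q * z) (hpq : p * q ≠ q * p) (h : A * B * C * q = q * (A * B * C)) :
    A * B * C = 1 ∨ A * B * C = q ∨ A * B * C = z ∨ A * B * C = q * z :=
  @snd_alg LL gi A B C p q z hA hB hC hqz hpq h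

theorem not_comm_of_conjL {q p z : LL} (h : q * p * q⁻¹ = p * z) (hz : z ≠ 1) : p * q ≠ q * p :=
  @not_comm_of_conj LL gi q p z h hz

/-! ### conjugations by words -/

theorem conj_chk (w u v : List ℕ) (h : chk (w ++ u) (v ++ w) = true) : wd w * wd u * (wd w)⁻¹ = wd v := by
  have h1 := wd_eq _ _ h
  rw [wd_append, wd_append] at h1
  rw [h1, mul_inv_cancel_right]

theorem conj_chk1 (w : List ℕ) (u v : ℕ) (h : chk (w ++ [u]) ([v] ++ w) = true) : wd w * x u * (wd w)⁻¹ = x v := by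
  have h1 := conj_chk w [u] [v] h
  rwa [wd_one, wd_one] at h1

theorem conj_chk2 (w : List ℕ) (u v v' : ℕ) (h : chk (w ++ [u]) ([v, v'] ++ w) = true) :
    wd w * x u * (wd w)⁻¹ = x v * x v' := by
  have h1 := conj_chk w [u] [v, v'] h
  rwa [wd_one, wd_cons, wd_one] at h1

theorem conj_chk3 (w : List ℕ) (u v v' v'' : ℕ) (h : chk (w ++ [u]) ([v, v', v''] ++ w) = true) :
    wd w * x u * (wd w)⁻¹ = x v * x v' * x v'' := by
  have h1 := conj_chk w [u] [v, v', v''] h
  rwa [wd_one, wd_cons, wd_cons, wd_one, ← mul_assoc] at h1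

/-- commuting root elements, Boolean -/
def cB (a q : ℕ) : Bool := decide (a < 48) && decide (q < 48) && (a == q || (!(a + q == 47) && cmg a q == []))

theorem cB_comm {a q : ℕ} (h : cB a q = true) : x a * x q = x q * x a := by
  unfold cB at h
  simp only [Bool.and_eq_true, decide_eq_true_eq, Bool.or_eq_true, beq_iff_eq, Bool.not_eq_true',
    beq_eq_false_iff_ne, ne_eq] at h
  obtain ⟨⟨ha, hq⟩, h1⟩ := h
  rcases h1 with h1 | ⟨h1, h2⟩
  · rw [h1]
  · exact comm_one ha hq h1 h2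

/-- the centraliser hypothesis from two roots -/
theorem hyp2 {a b : ℕ} {L : List ℕ} (hL : (L.all fun q => cB q a && cB q b) = true) {l : LL}
    (hl : ∀ k : LL, k * x a = x a * k → k * x b = x b * k → l * k = k * l) : ∀ q ∈ L, Commute l (x q) := by
  intro q hq
  rw [List.all_eq_true] at hL
  have h1 := hL q hq
  rw [Bool.and_eq_true] at h1
  exact hl _ (cB_comm h1.1) (cB_comm h1.2)

/-! ### root elements -/

theorem x_Rt {r : ℕ} (hr : r < 48) : x r ∈ Rt := by
  have h := Cfsg.Agent.FourTwo.CentAll.wr_base hr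
  rw [← h]
  unfold Cfsg.Agent.FourTwo.CentAll.base
  split_ifs
  · exact Or.inl ⟨_, rfl⟩
  · exact Or.inr ⟨_, rfl⟩

theorem x_ne {r s : ℕ} (hr : r < 48) (hs : s < 48) (h : r ≠ s) : x r ≠ x s := fun h1 => h (x_inj hr hs h1)

variable {S : Std G} {a b : G}

theorem sys_Rt (T : Two S a b) {r : ℕ} (hr : r < 48) : x r ∈ (sys T).Rt := x_Rt hr

theorem sys_Rt' (T : Two S a b) {y : LL} (h : ∃ r < 48, ∃ g : LL, g * x r * g⁻¹ = y) : y ∈ (sys T).Rt := by
  obtain ⟨r, hr, g, rfl⟩ := h
  exact Rt_conj (x_Rt hr) g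

/-! ### lines -/

theorem or_swap {l p q : LL} (hpq : p * q = q * p)
    (h : ∃ a b : LL, (a = 1 ∨ a = q) ∧ (b = 1 ∨ b = p) ∧ l = a * b) : l = 1 ∨ l = p ∨ l = q ∨ l = p * q := by
  obtain ⟨a, b, rfl | rfl, rfl | rfl, rfl⟩ := h
  · left; rw [one_mul]
  · right; left; rw [one_mul]
  · right; right; left; rw [mul_one]
  · right; right; right; rw [hpq]

theorem or_swap' {l p q : LL} (h : ∃ a b : LL, (a = 1 ∨ a = p) ∧ (b = 1 ∨ b = q) ∧ l = a * b) :
    l = 1 ∨ l = p ∨ l = q ∨ l = p * q := by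
  obtain ⟨a, b, rfl | rfl, rfl | rfl, rfl⟩ := h
  · left; rw [one_mul]
  · right; right; left; rw [one_mul]
  · right; left; rw [mul_one]
  · right; right; right; rfl

theorem c4746 : cB 47 46 = true := by decide +kernel
theorem c4440 : cB 44 40 = true := by decide +kernel

private noncomputable def _root_.Cfsg.Agent.KO213c67e.oLe.{ku} (α : Sort ku) (a b : Nat) (f t : α) : α := @Decidable.rec (@LE.le Nat instLENat a b) (fun _ => α) (fun _ => f) (fun _ => t) (Nat.decLe a b)
private noncomputable def _root_.Cfsg.Agent.KO213c67e.k24.{ku} (α : Sort ku) (a b : Nat) (f t : α) : α := @Bool.rec (fun _ => α) f t (Nat.ble a b)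
private theorem _root_.Cfsg.Agent.KO213c67e.e24.{ku} : @_root_.Cfsg.Agent.KO213c67e.oLe.{ku} = @_root_.Cfsg.Agent.KO213c67e.k24.{ku} := funext fun α => funext fun a => funext fun b => funext fun f => funext fun t => by delta _root_.Cfsg.Agent.KO213c67e.oLe _root_.Cfsg.Agent.KO213c67e.k24; cases h : Nat.ble a b <;> cases Nat.decLe a b <;> rename_i g <;> first | rfl | exact absurd (h.symm.trans (Nat.ble_eq_true_of_le g)) Bool.false_ne_true | exact absurd (Nat.le_of_ble_eq_true h) g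
private noncomputable def _root_.Cfsg.Agent.KO213c67e.oEq.{ku} (α : Sort ku) (a b : Nat) (f t : α) : α := @Decidable.rec (a = b) (fun _ => α) (fun _ => f) (fun _ => t) (Nat.decEq a b)
private noncomputable def _root_.Cfsg.Agent.KO213c67e.k25.{ku} (α : Sort ku) (a b : Nat) (f t : α) : α := @Bool.rec (fun _ => α) f t (Nat.beq a b)
private theorem _root_.Cfsg.Agent.KO213c67e.e25.{ku} : @_root_.Cfsg.Agent.KO213c67e.oEq.{ku} = @_root_.Cfsg.Agent.KO213c67e.k25.{ku} := funext fun α => funext fun a => funext fun b => funext fun f => funext fun t => by delta _root_.Cfsg.Agent.KO213c67e.oEq _root_.Cfsg.Agent.KO213c67e.k25; cases h : Nat.beq a b <;> cases Nat.decEq a b <;> rename_i g <;> first | rfl | exact absurd g (Nat.ne_of_beq_eq_false h) | exact absurd (Nat.eq_of_beq_eq_true h) g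
private noncomputable def _root_.Cfsg.Agent.KO213c67e.k64 : type_of% @Bool.and := @(fun x0 x1 => @Bool.rec.{1} @(fun x2 => @Bool) @Bool.false @x1 @x0)
private theorem _root_.Cfsg.Agent.KO213c67e.e64 : @Bool.and = @_root_.Cfsg.Agent.KO213c67e.k64 := by delta _root_.Cfsg.Agent.KO213c67e.k64; rfl'
private noncomputable def _root_.Cfsg.Agent.KO213c67e.k66.{ku0} : type_of% @List.beq.{ku0} := @(fun x0 x1 x2 x3 => @List.rec.{(ku0+1), ku0} @x0 @(fun x4 => (@List.{ku0} @x0) → @Bool) @(fun x4 => @List.rec.{1, ku0} @x0 @(fun x5 => @Bool) @Bool.true @(fun x5 x6 x7 => @Bool.false) @x4) @(fun x4 x5 x6 x7 => @List.rec.{1, ku0} @x0 @(fun x8 => @Bool) @Bool.false @(fun x8 x9 x10 => @Bool.rec.{1} @(fun x11 => @Bool) @Bool.false (@x6 @x9) (@BEq.beq.{ku0} _ @x1 @x4 @x8)) @x7) @x2 @x3)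
private theorem _root_.Cfsg.Agent.KO213c67e.e66.{ku0} : @List.beq.{ku0} = @_root_.Cfsg.Agent.KO213c67e.k66.{ku0} := by delta _root_.Cfsg.Agent.KO213c67e.k66; funext a0 a1 a2 a3; refine (congrFun (_root_.Cfsg.Agent.KO213c67e.e0 (fun a2 a3 => @List.beq.{ku0} a0 a1 a2 a3) ?_ (fun c0 c1 => ?_) a2) a3 :) <;> [(funext b0; (cases b0 with | @nil  => (rfl') | @cons b0_0 b0_1 => (rfl'))); (funext b0; (cases b0 with | @nil  => (rfl') | @cons b0_0 b0_1 => (rfl')))]
private noncomputable def _root_.Cfsg.Agent.KO213c67e.k68 : (by first | exact type_of% @Cfsg.Agent.ChevalleyStructure.TwF4.Rel.nth2 | exact Unit : Sort _) := by first | (refine @Subtype.val _ (fun g => @Cfsg.Agent.ChevalleyStructure.TwF4.Rel.nth2 = @g) (@Subtype.mk _ _ (@(fun x0 x1 x2 => @List.rec.{1, 0} (@List.{0} (@List.{0} @x0)) @(fun x3 => ℕ → @List.{0} (@List.{0} @x0)) @(fun x3 => []) @(fun x3 x4 x5 x6 => @Nat.rec.{1} @(fun x7 => @List.{0} (@List.{0} @x0)) @x3 @(fun x7 x8 => @x5 @x7) @x6) @x1 @x2))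 ?_); funext a0 a1 a2; refine (congrFun (_root_.Cfsg.Agent.KO213c67e.e0 (fun a1 a2 => @Cfsg.Agent.ChevalleyStructure.TwF4.Rel.nth2 a0 a1 a2) ?_ (fun c0 c1 => ?_) a1) a2 :) <;> [(funext b0; (rfl')); (funext b0; (cases b0 with | @zero  => (rfl') | @succ b0_0 => (rfl')))]) | exact @Cfsg.Agent.ChevalleyStructure.TwF4.Rel.nth2 | exact ()
private theorem _root_.Cfsg.Agent.KO213c67e.e68 : (by first | exact @Cfsg.Agent.ChevalleyStructure.TwF4.Rel.nth2 = @_root_.Cfsg.Agent.KO213c67e.k68 | exact True : Prop) := by first | (delta _root_.Cfsg.Agent.KO213c67e.k68; exact @Subtype.property _ (fun g => @Cfsg.Agent.ChevalleyStructure.TwF4.Rel.nth2 = @g) _) | rfl | trivial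
private noncomputable def _root_.Cfsg.Agent.KO213c67e.k69 : (by first | exact type_of% @Cfsg.Agent.F42.AllInst.cB | exact Unit : Sort _) := by first | (refine @Subtype.val _ (fun g => @Cfsg.Agent.F42.AllInst.cB = @g) (@Subtype.mk _ _ (@(fun x0 x1 => @Bool.rec.{1} @(fun x2 => @Bool) @Bool.false (@Bool.rec.{1} @(fun x2 => @Bool) (@Bool.rec.{1} @(fun x2 => @Bool) @Bool.false (@Cfsg.Agent.KO213c67e.k66.{0} _ (@BEq.mk.{0} _ @(fun x2 x3 => @Cfsg.Agent.KO213c67e.k25.{1} @Bool @x2 @x3 @Bool.false @Bool.true)) (@Cfsg.Agent.KO213c67e.k37 _ (@Cfsg.Agent.KO213c67e.k68 _ @Cfsg.Agent.FourTwo.Comm.cmgT @x0) @x1) []) (@Bool.rec.{1} @(fun x2 => @Bool) @Bool.true @Bool.false (@Cfsg.Agent.KO213c67e.k25.{1} @Bool (@Nat.add @x0 @x1) (nat_lit 47) @Bool.false @Bool.true))) @Bool.true (@Cfsg.Agent.KO213c67e.k25.{1} @Bool @x0 @x1 @Bool.false @Bool.true)) (@Bool.rec.{1} @(fun x2 => @Bool) @Bool.false (@Cfsg.Agent.KO213c67e.k24.{1} @Bool (@Nat.succ @x1) (nat_lit 48) @Bool.false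 @Bool.true) (@Cfsg.Agent.KO213c67e.k24.{1} @Bool (@Nat.succ @x0) (nat_lit 48) @Bool.false @Bool.true)))) ?_); rewrite [← Cfsg.Agent.KO213c67e.e24.{1}, ← Cfsg.Agent.KO213c67e.e68, ← Cfsg.Agent.KO213c67e.e37, ← Cfsg.Agent.KO213c67e.e25.{1}, ← Cfsg.Agent.KO213c67e.e66.{0}]; (try delta Cfsg.Agent.F42.AllInst.cB Cfsg.Agent.FourTwo.Comm.cmg); (try generalize @Cfsg.Agent.ChevalleyStructure.TwF4.Tables.nth = g0); (try generalize @Cfsg.Agent.ChevalleyStructure.TwF4.Rel.nth2 = g1); (try generalize @Cfsg.Agent.FourTwo.Comm.cmgT = g2); rfl') | exact @Cfsg.Agent.F42.AllInst.cB | exact ()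
private theorem _root_.Cfsg.Agent.KO213c67e.e69 : (by first | exact @Cfsg.Agent.F42.AllInst.cB = @_root_.Cfsg.Agent.KO213c67e.k69 | exact True : Prop) := by first | (delta _root_.Cfsg.Agent.KO213c67e.k69; exact @Subtype.property _ (fun g => @Cfsg.Agent.F42.AllInst.cB = @g) _) | rfl | trivial

theorem line_l (T : Two S a b) : (sys T).Line (x 47) (x 46) where
  ha := sys_Rt T (by norm_num)
  hb := sys_Rt T (by norm_num)
  hc := sys_Rt' T ⟨46, by norm_num, wd [24, 23], conj_chk2 _ _ _ _ (by decide +kernel)⟩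
  comm := cB_comm c4746
  cent l hl := or_swap (cB_comm c4746) (cent60l (hyp2 (by (first | (rewrite [Cfsg.Agent.KO213c67e.e1.{0}, Cfsg.Agent.KO213c67e.e64, Cfsg.Agent.KO213c67e.e69]; decide +kernel) | decide +kernel)) hl))
  swap := ⟨wd [24, 23, 24], conj_chk1 _ _ _ (by decide +kernel), conj_chk1 _ _ _ (by decide +kernel)⟩
  rot := ⟨wd [24, 23], conj_chk1 _ _ _ (by decide +kernel), conj_chk2 _ _ _ _ (by decide +kernel)⟩

theorem line_s (T : Two S a b) : (sys T).Line (x 44) (x 40) where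
  ha := sys_Rt T (by norm_num)
  hb := sys_Rt T (by norm_num)
  hc := sys_Rt' T ⟨40, by norm_num, wd [33, 14], conj_chk2 _ _ _ _ (by decide +kernel)⟩
  comm := cB_comm c4440
  cent l hl := or_swap (cB_comm c4440) (cent60s (hyp2 (by (first | (rewrite [Cfsg.Agent.KO213c67e.e1.{0}, Cfsg.Agent.KO213c67e.e64, Cfsg.Agent.KO213c67e.e69]; decide +kernel) | decide +kernel)) hl))
  swap := ⟨wd [33, 14, 33], conj_chk1 _ _ _ (by decide +kernel), conj_chk1 _ _ _ (by decide +kernel)⟩
  rot := ⟨wd [33, 14], conj_chk1 _ _ _ (by decide +kernel), conj_chk2 _ _ _ _ (by decide +kernel)⟩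

theorem p0_l (T : Two S a b) : (sys T).P0 (x 47) (x 46) :=
  (sys T).P0_of_plane (line_l T) (d := x 45) (sys_Rt T (by norm_num)) (x_ne (by norm_num) (by norm_num) (by norm_num))
    ⟨wd [24, 23, 24, 25, 22, 25], conj_chk1 _ _ _ (by decide +kernel), conj_chk1 _ _ _ (by decide +kernel)⟩
    ⟨wd [23, 24, 25, 22, 25], conj_chk2 _ _ _ _ (by decide +kernel), conj_chk1 _ _ _ (by decide +kernel)⟩
    ⟨wd [22, 25], conj_chk1 _ _ _ (by decide +kernel), conj_chk2 _ _ _ _ (by decide +kernel)⟩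

theorem p0_s (T : Two S a b) : (sys T).P0 (x 44) (x 40) :=
  (sys T).P0_of_plane (line_s T) (d := x 39) (sys_Rt T (by norm_num)) (x_ne (by norm_num) (by norm_num) (by norm_num))
    ⟨wd [33, 14, 33, 27, 20, 27], conj_chk1 _ _ _ (by decide +kernel), conj_chk1 _ _ _ (by decide +kernel)⟩
    ⟨wd [14, 33, 27, 20, 27], conj_chk2 _ _ _ _ (by decide +kernel), conj_chk1 _ _ _ (by decide +kernel)⟩
    ⟨wd [20, 27], conj_chk1 _ _ _ (by decide +kernel), conj_chk2 _ _ _ _ (by decide +kernel)⟩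

/-! ### transport -/

theorem back {g y z : LL} (h : g * y * g⁻¹ = z) : g⁻¹ * z * g⁻¹⁻¹ = y := by
  rw [← h]; group

/-- the conjugating element of a pair -/
theorem exists_g {P : ℕ → ℕ → Bool} {a0 b0 : ℕ} (hP : actB P a0 b0 = true) {r s : ℕ} (hr : r < 48) (hs : s < 48)
    (h : P r s = true) : ∃ g : LL, g * x a0 * g⁻¹ = x r ∧ g * x b0 * g⁻¹ = x s := by
  obtain ⟨h1, h2⟩ := act_of hP hr hs h
  have h3 := nw_conj (word_lt hr hs) hr
  have h4 := nw_conj (word_lt hr hs) hs
  rw [h1] at h3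
  rw [h2] at h4
  exact ⟨_, back h3, back h4⟩

theorem p0_transport (T : Two S a b) {P : ℕ → ℕ → Bool} {a0 b0 : ℕ} (hP : actB P a0 b0 = true) (ha0 : a0 < 48)
    (hb0 : b0 < 48) (h0 : x a0 * x b0 ∈ Rt) (h : (sys T).P0 (x a0) (x b0)) {r s : ℕ} (hr : r < 48) (hs : s < 48)
    (hrs : P r s = true) : (sys T).P0 (x r) (x s) := by
  obtain ⟨g, hg1, hg2⟩ := exists_g hP hr hs hrs
  have h1 := (sys T).P0_conj (sys_Rt T ha0) (sys_Rt T hb0) h0 h g
  rw [hg1, hg2] at h1
  exact h1

theorem p0_l60 (T : Two S a b) {r s : ℕ} (hr : r < 48) (hs : s < 48) (h : l60 r s = true) :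
    (sys T).P0 (x r) (x s) :=
  p0_transport T act60l (by norm_num) (by norm_num) (line_l T).hc (p0_l T) hr hs h

theorem p0_p60 (T : Two S a b) {r s : ℕ} (hr : r < 48) (hs : s < 48) (h : RelTab.p60 r s = true) :
    (sys T).P0 (x r) (x s) :=
  p0_transport T act60s (by norm_num) (by norm_num) (line_s T).hc (p0_s T) hr hs h

theorem comm_transport (T : Two S a b) {P : ℕ → ℕ → Bool} {a0 b0 : ℕ} (hP : actB P a0 b0 = true) (ha0 : a0 < 48)
    (hb0 : b0 < 48) (h : (sys T).V (x a0) * (sys T).V (x b0) = (sys T).V (x b0) * (sys T).V (x a0)) {r s : ℕ}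
    (hr : r < 48) (hs : s < 48) (hrs : P r s = true) :
    (sys T).V (x r) * (sys T).V (x s) = (sys T).V (x s) * (sys T).V (x r) := by
  obtain ⟨g, hg1, hg2⟩ := exists_g hP hr hs hrs
  have h1 := (sys T).comm_conj (sys_Rt T ha0) (sys_Rt T hb0) h g
  rw [hg1, hg2] at h1
  exact h1

/-! ### 45 degrees, and 90 degrees of different lengths -/

theorem half_47_44 (T : Two S a b) : (sys T).Half (x 47) (x 44) (x 46) where
  hr := sys_Rt T (by norm_num)
  hs := sys_Rt T (by norm_num)
  hr' := sys_Rt T (by norm_num)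
  hrr := (line_l T).hc
  crs := cB_comm (by decide +kernel)
  crr := cB_comm (by decide +kernel)
  csr := cB_comm (by decide +kernel)
  cent l hl := or_swap (cB_comm (by decide +kernel)) (cent45 (hyp2 (by (first | (rewrite [Cfsg.Agent.KO213c67e.e1.{0}, Cfsg.Agent.KO213c67e.e64, Cfsg.Agent.KO213c67e.e69]; decide +kernel) | decide +kernel)) hl))
  p0 := p0_l T
  g1 := ⟨wd [24, 23, 24], conj_chk1 _ _ _ (by decide +kernel), conj_chk1 _ _ _ (by decide +kernel)⟩
  g2 := ⟨wd [24, 24, 23, 24], conj_chk2 _ _ _ _ (by decide +kernel), conj_chk1 _ _ _ (by decide +kernel)⟩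

theorem half_44_47 (T : Two S a b) : (sys T).Half (x 44) (x 47) (x 40) where
  hr := sys_Rt T (by norm_num)
  hs := sys_Rt T (by norm_num)
  hr' := sys_Rt T (by norm_num)
  hrr := (line_s T).hc
  crs := cB_comm (by decide +kernel)
  crr := cB_comm (by decide +kernel)
  csr := cB_comm (by decide +kernel)
  cent l hl := or_swap' (cent45 (hyp2 (by (first | (rewrite [Cfsg.Agent.KO213c67e.e1.{0}, Cfsg.Agent.KO213c67e.e64, Cfsg.Agent.KO213c67e.e69]; decide +kernel) | decide +kernel)) fun k h1 h2 => hl k h2 h1))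
  p0 := p0_s T
  g1 := ⟨wd [33, 14, 33], conj_chk1 _ _ _ (by decide +kernel), conj_chk1 _ _ _ (by decide +kernel)⟩
  g2 := ⟨wd [33, 33, 14, 33], conj_chk2 _ _ _ _ (by decide +kernel), conj_chk1 _ _ _ (by decide +kernel)⟩

theorem comm_47_44 (T : Two S a b) : (sys T).V (x 47) * (sys T).V (x 44) = (sys T).V (x 44) * (sys T).V (x 47) :=
  (sys T).comm_mixed (x_ne (by norm_num) (by norm_num) (by norm_num)) (half_47_44 T) (half_44_47 T)

theorem comm_m45 (T : Two S a b) {r s : ℕ} (hr : r < 48) (hs : s < 48) (h : m45 r s = true) :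
    (sys T).V (x r) * (sys T).V (x s) = (sys T).V (x s) * (sys T).V (x r) :=
  comm_transport T act45 (by norm_num) (by norm_num) (comm_47_44 T) hr hs h

theorem half_47_37 (T : Two S a b) : (sys T).Half (x 47) (x 37) (x 42) where
  hr := sys_Rt T (by norm_num)
  hs := sys_Rt T (by norm_num)
  hr' := sys_Rt T (by norm_num)
  hrr := sys_Rt' T ⟨42, by norm_num, wd [32], conj_chk2 _ _ _ _ (by decide +kernel)⟩
  crs := cB_comm (by decide +kernel)
  crr := cB_comm (by decide +kernel)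
  csr := cB_comm (by decide +kernel)
  cent l hl := or_swap (cB_comm (by decide +kernel)) (cent90m (hyp2 (by (first | (rewrite [Cfsg.Agent.KO213c67e.e1.{0}, Cfsg.Agent.KO213c67e.e64, Cfsg.Agent.KO213c67e.e69]; decide +kernel) | decide +kernel)) hl))
  p0 := p0_l60 T (by norm_num) (by norm_num) (by decide +kernel)
  g1 := ⟨wd [32, 15, 32], conj_chk1 _ _ _ (by decide +kernel), conj_chk1 _ _ _ (by decide +kernel)⟩
  g2 := ⟨wd [32, 32, 15, 32], conj_chk2 _ _ _ _ (by decide +kernel), conj_chk1 _ _ _ (by decide +kernel)⟩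

theorem half_37_47 (T : Two S a b) : (sys T).Half (x 37) (x 47) (x 28) where
  hr := sys_Rt T (by norm_num)
  hs := sys_Rt T (by norm_num)
  hr' := sys_Rt T (by norm_num)
  hrr := sys_Rt' T ⟨28, by norm_num, wd [34], conj_chk2 _ _ _ _ (by decide +kernel)⟩
  crs := cB_comm (by decide +kernel)
  crr := cB_comm (by decide +kernel)
  csr := cB_comm (by decide +kernel)
  cent l hl := or_swap' (cent90m (hyp2 (by (first | (rewrite [Cfsg.Agent.KO213c67e.e1.{0}, Cfsg.Agent.KO213c67e.e64, Cfsg.Agent.KO213c67e.e69]; decide +kernel) | decide +kernel)) fun k h1 h2 => hl k h2 h1))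
  p0 := p0_p60 T (by norm_num) (by norm_num) (by decide +kernel)
  g1 := ⟨wd [34, 13, 34], conj_chk1 _ _ _ (by decide +kernel), conj_chk1 _ _ _ (by decide +kernel)⟩
  g2 := ⟨wd [34, 34, 13, 34], conj_chk2 _ _ _ _ (by decide +kernel), conj_chk1 _ _ _ (by decide +kernel)⟩

theorem comm_47_37 (T : Two S a b) : (sys T).V (x 47) * (sys T).V (x 37) = (sys T).V (x 37) * (sys T).V (x 47) :=
  (sys T).comm_mixed (x_ne (by norm_num) (by norm_num) (by norm_num)) (half_47_37 T) (half_37_47 T)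

/-! ### 90 degrees, same length -/

theorem p1 (y : LL) : y ^ ((1 : Fin 2) : ℕ) = y := by rw [Fin.val_one, pow_one]
theorem p0 (y : LL) : y ^ ((0 : Fin 2) : ℕ) = 1 := by rw [Fin.val_zero, pow_zero]

theorem exists_fin {c y : LL} (h : c = 1 ∨ c = y) : ∃ i : Fin 2, c = y ^ (i : ℕ) := by
  rcases h with rfl | rfl
  · exact ⟨0, (p0 _).symm⟩
  · exact ⟨1, (p1 _).symm⟩

/-- the centraliser hypothesis from three roots -/
theorem hyp3 {a b c : ℕ} {L : List ℕ} (hL : (L.all fun q => cB q a && cB q b && cB q c) = true) {l : LL}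
    (hl : ∀ k : LL, k * x a = x a * k → k * x b = x b * k → k * x c = x c * k → l * k = k * l) :
    ∀ q ∈ L, Commute l (x q) := by
  intro q hq
  rw [List.all_eq_true] at hL
  have h1 := hL q hq
  rw [Bool.and_eq_true, Bool.and_eq_true] at h1
  exact hl _ (cB_comm h1.1.1) (cB_comm h1.1.2) (cB_comm h1.2)

theorem orth_l (T : Two S a b) : (sys T).Orth (x 47) (x 41) (x 44) where
  ha := sys_Rt T (by norm_num)
  hb := sys_Rt T (by norm_num)
  hs := sys_Rt T (by norm_num)
  hd := sys_Rt' T ⟨41, by norm_num, wd [29], conj_chk3 _ _ _ _ _ (by decide +kernel)⟩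
  hab := cB_comm (by decide +kernel)
  has := cB_comm (by decide +kernel)
  hbs := cB_comm (by decide +kernel)
  nas := x_ne (by norm_num) (by norm_num) (by norm_num)
  nab := x_ne (by norm_num) (by norm_num) (by norm_num)
  cent l hl := by
    obtain ⟨A, B, C, hA, hB, hC, rfl⟩ := cent90l (hyp3 (a := 47) (b := 41) (c := 44) (by (first | (rewrite [Cfsg.Agent.KO213c67e.e1.{0}, Cfsg.Agent.KO213c67e.e64, Cfsg.Agent.KO213c67e.e69]; decide +kernel) | decide +kernel)) hl)
    obtain ⟨i, rfl⟩ := exists_fin hA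
    obtain ⟨j, rfl⟩ := exists_fin hB
    obtain ⟨m, rfl⟩ := exists_fin hC
    exact ⟨m, i, j, reorderL (cB_comm (by decide +kernel)) (cB_comm (by decide +kernel)) _ _ _⟩
  vas := (comm_47_44 T).symm
  vbs := (comm_m45 T (r := 41) (s := 44) (by norm_num) (by norm_num) (by decide +kernel)).symm
  e := ⟨wd [29], conj_chk1 _ _ _ (by decide +kernel), conj_chk1 _ _ _ (by decide +kernel),
    conj_chk3 _ _ _ _ _ (by decide +kernel)⟩
  n := ⟨wd [29, 18, 29], conj_chk1 _ _ _ (by decide +kernel), conj_chk1 _ _ _ (by decide +kernel),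
    conj_chk1 _ _ _ (by decide +kernel)⟩

theorem orth_s (T : Two S a b) : (sys T).Orth (x 44) (x 29) (x 47) where
  ha := sys_Rt T (by norm_num)
  hb := sys_Rt T (by norm_num)
  hs := sys_Rt T (by norm_num)
  hd := sys_Rt' T ⟨29, by norm_num, wd [41], conj_chk3 _ _ _ _ _ (by decide +kernel)⟩
  hab := cB_comm (by decide +kernel)
  has := cB_comm (by decide +kernel)
  hbs := cB_comm (by decide +kernel)
  nas := x_ne (by norm_num) (by norm_num) (by norm_num)
  nab := x_ne (by norm_num) (by norm_num) (by norm_num)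
  cent l hl := by
    obtain ⟨A, B, C, hA, hB, hC, rfl⟩ := cent90s (hyp3 (a := 44) (b := 29) (c := 47) (by (first | (rewrite [Cfsg.Agent.KO213c67e.e1.{0}, Cfsg.Agent.KO213c67e.e64, Cfsg.Agent.KO213c67e.e69]; decide +kernel) | decide +kernel)) hl)
    obtain ⟨i, rfl⟩ := exists_fin hA
    obtain ⟨j, rfl⟩ := exists_fin hB
    obtain ⟨m, rfl⟩ := exists_fin hC
    exact ⟨m, i, j, reorderL (cB_comm (by decide +kernel)) (cB_comm (by decide +kernel)) _ _ _⟩
  vas := comm_47_44 T
  vbs := comm_m45 T (r := 47) (s := 29) (by norm_num) (by norm_num) (by decide +kernel)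
  e := ⟨wd [41], conj_chk1 _ _ _ (by decide +kernel), conj_chk1 _ _ _ (by decide +kernel),
    conj_chk3 _ _ _ _ _ (by decide +kernel)⟩
  n := ⟨wd [41, 6, 41], conj_chk1 _ _ _ (by decide +kernel), conj_chk1 _ _ _ (by decide +kernel),
    conj_chk1 _ _ _ (by decide +kernel)⟩

/-! ### 120 degrees -/

theorem nc_46_24 : x 46 * x 24 ≠ x 24 * x 46 := by
  have h := conj_chk2 [24] 46 46 47 (by decide +kernel)
  rw [wd_one] at h
  exact not_comm_of_conjL h (x_ne_one (by norm_num))

theorem obt_l (T : Two S a b) : (sys T).Obt (x 46) (x 24) (x 47) where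
  ha := sys_Rt T (by norm_num)
  hb := sys_Rt T (by norm_num)
  hc := sys_Rt T (by norm_num)
  rel := by
    have h := conj_chk2 [24] 46 46 47 (by decide +kernel)
    rwa [wd_one, x_inv] at h
  ac := cB_comm (by decide +kernel)
  bc := cB_comm (by decide +kernel)
  pa := p0_l60 T (by norm_num) (by norm_num) (by decide +kernel)
  pb := p0_l60 T (by norm_num) (by norm_num) (by decide +kernel)
  centb l hl hlb := by
    obtain ⟨A, B, C, hA, hB, hC, rfl⟩ := cent120l (hyp2 (a := 46) (b := 24) (by (first | (rewrite [Cfsg.Agent.KO213c67e.e1.{0}, Cfsg.Agent.KO213c67e.e64, Cfsg.Agent.KO213c67e.e69]; decide +kernel) | decide +kernel)) hl)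
    exact fst_algL hA hB hC (cB_comm (by decide +kernel)) nc_46_24 hlb
  centa l hl hla := by
    obtain ⟨A, B, C, hA, hB, hC, rfl⟩ := cent120l (hyp2 (a := 46) (b := 24) (by (first | (rewrite [Cfsg.Agent.KO213c67e.e1.{0}, Cfsg.Agent.KO213c67e.e64, Cfsg.Agent.KO213c67e.e69]; decide +kernel) | decide +kernel)) hl)
    exact snd_algL hA hB hC (cB_comm (by decide +kernel)) (Ne.symm nc_46_24) hla

theorem nc_40_33 : x 40 * x 33 ≠ x 33 * x 40 := by
  have h := conj_chk2 [33] 40 40 44 (by decide +kernel)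
  rw [wd_one] at h
  exact not_comm_of_conjL h (x_ne_one (by norm_num))

theorem obt_s (T : Two S a b) : (sys T).Obt (x 40) (x 33) (x 44) where
  ha := sys_Rt T (by norm_num)
  hb := sys_Rt T (by norm_num)
  hc := sys_Rt T (by norm_num)
  rel := by
    have h := conj_chk2 [33] 40 40 44 (by decide +kernel)
    rwa [wd_one, x_inv] at h
  ac := cB_comm (by decide +kernel)
  bc := cB_comm (by decide +kernel)
  pa := p0_p60 T (by norm_num) (by norm_num) (by decide +kernel)
  pb := p0_p60 T (by norm_num) (by norm_num) (by decide +kernel)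
  centb l hl hlb := by
    obtain ⟨A, B, C, hA, hB, hC, rfl⟩ := cent120s (hyp2 (a := 40) (b := 33) (by (first | (rewrite [Cfsg.Agent.KO213c67e.e1.{0}, Cfsg.Agent.KO213c67e.e64, Cfsg.Agent.KO213c67e.e69]; decide +kernel) | decide +kernel)) hl)
    exact fst_algL hA hB hC (cB_comm (by decide +kernel)) nc_40_33 hlb
  centa l hl hla := by
    obtain ⟨A, B, C, hA, hB, hC, rfl⟩ := cent120s (hyp2 (a := 40) (b := 33) (by (first | (rewrite [Cfsg.Agent.KO213c67e.e1.{0}, Cfsg.Agent.KO213c67e.e64, Cfsg.Agent.KO213c67e.e69]; decide +kernel) | decide +kernel)) hl)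
    exact snd_algL hA hB hC (cB_comm (by decide +kernel)) (Ne.symm nc_40_33) hla

/-! ### 135 degrees -/

theorem hyp4 {a b c d : ℕ} {L : List ℕ} {l : LL}
    (hL : (L.all fun q => (q == a || q == b) || (cB q a && cB q b && cB q c && cB q d)) = true)
    (hl : ∀ k : LL, k * x a = x a * k → k * x b = x b * k → k * x c = x c * k → k * x d = x d * k → l * k = k * l)
    (ha : l * x a = x a * l) (hb : l * x b = x b * l) : ∀ q ∈ L, Commute l (x q) := by
  intro q hq
  rw [List.all_eq_true] at hL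
  have h1 := hL q hq
  rw [Bool.or_eq_true, Bool.or_eq_true, beq_iff_eq, beq_iff_eq, Bool.and_eq_true, Bool.and_eq_true,
    Bool.and_eq_true] at h1
  rcases h1 with (h1 | h1) | h1
  · rw [h1]; exact ha
  · rw [h1]; exact hb
  · exact hl _ (cB_comm h1.1.1.1) (cB_comm h1.1.1.2) (cB_comm h1.1.2) (cB_comm h1.2)

theorem or_swap'' {l p q : LL} (h : ∃ a b : LL, (a = 1 ∨ a = p) ∧ (b = 1 ∨ b = q) ∧ l = a * b) :
    l = 1 ∨ l = p ∨ l = q ∨ l = p * q := or_swap' h

theorem obf (T : Two S a b) : (sys T).Obf (x 41) (x 29) (x 44) (x 47) where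
  ha := sys_Rt T (by norm_num)
  hb := sys_Rt T (by norm_num)
  hp := sys_Rt T (by norm_num)
  hq := sys_Rt T (by norm_num)
  rel := by
    have h := conj_chk3 [29] 41 41 44 47 (by decide +kernel)
    rwa [wd_one, x_inv] at h
  ap := cB_comm (by decide +kernel)
  aq := cB_comm (by decide +kernel)
  bp := cB_comm (by decide +kernel)
  bq := cB_comm (by decide +kernel)
  pq := cB_comm (by decide +kernel)
  vap := comm_m45 T (r := 41) (s := 44) (by norm_num) (by norm_num) (by decide +kernel)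
  vaq := ((sys T).orth (orth_l T)).1.symm
  vbp := ((sys T).orth (orth_s T)).1.symm
  vbq := (comm_m45 T (r := 47) (s := 29) (by norm_num) (by norm_num) (by decide +kernel)).symm
  vpq := (comm_47_44 T).symm
  va := by
    have h := ((sys T).orth (orth_l T)).2
    have e : x 47 * x 41 * x 44 = x 41 * x 44 * x 47 := by
      rw [cB_comm (a := 47) (q := 41) (by decide +kernel), mul_assoc,
        cB_comm (a := 47) (q := 44) (by decide +kernel), mul_assoc]
    have e2 : (sys T).V (x 47) * (sys T).V (x 41) * (sys T).V (x 44) =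
        (sys T).V (x 41) * (sys T).V (x 44) * (sys T).V (x 47) := by
      rw [((sys T).orth (orth_l T)).1, mul_assoc, comm_47_44 T, mul_assoc]
    rw [e, e2] at h
    exact h
  vb := by
    have h := ((sys T).orth (orth_s T)).2
    have e : x 44 * x 29 * x 47 = x 29 * x 44 * x 47 := by
      rw [cB_comm (a := 44) (q := 29) (by decide +kernel)]
    rw [e, ((sys T).orth (orth_s T)).1] at h
    exact h
  cent l hl ha hb := or_swap'' (cent135 (hyp4 (by (first | (rewrite [Cfsg.Agent.KO213c67e.e1.{0}, Cfsg.Agent.KO213c67e.e50, Cfsg.Agent.KO213c67e.e21, Cfsg.Agent.KO213c67e.e64, Cfsg.Agent.KO213c67e.e69]; decide +kernel) | decide +kernel)) hl ha hb))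

end Cfsg.Agent.F42.AllInst
end

-- part: F42/AllRoot
section
/-!
# Case ALL of `F₄(2)` standard: the root data and the sign

`cm_all`: the commutators of the groups `⟨x_r, V_r⟩`, for all pairs of roots `r ≠ ± s`; `rootData`;
`exists_sign`: if `C_G(t) = ⟨t⟩ × L` and `G` is finite, there is a homomorphism `G → ℤˣ` with value `-1` at `t`.
-/

set_option autoImplicit false

namespace Cfsg.Agent.F42.AllInst

open Cfsg.Agent.FourTwo.Base Cfsg.Agent.FourTwo.Comm Cfsg.Agent.FourTwo.BN Cfsg.Agent.FourTwo.Par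
  Cfsg.Agent.FourTwo.Cent Cfsg.Agent.FourTwo.CentP Cfsg.Agent.FourTwo.PairW Cfsg.Agent.F42.AllSys

variable {G : Type*} [Group G] {S : Std G} {a b : G}

theorem x_Rt_list (T : Two S a b) {L : List ℕ} (h : (L.all fun q => decide (q < 48)) = true) :
    ∀ c ∈ L.map x, c ∈ (sys T).Rt := by
  intro c hc
  obtain ⟨q, hq, rfl⟩ := List.mem_map.1 hc
  rw [List.all_eq_true] at h
  exact sys_Rt T (of_decide_eq_true (h q hq))

/-- the commutator letters, packed -/
private def cpk (r s : ℕ) : ℕ := Nat.mod (Nat.shiftRight 0x2f00002e000000aad00002c02b0000000007e90006a85e74a50000210201de01b01900000000000000000000000000000000000000000000000000000000000000000000000003000002e000000aed00002c00002a0000008290006e80005a646402100001f19d01a00001800000000000000000000000000000000000000000000000000000000000000003002f000000000000b2d00000002b02a00000086900000066762600042302001f00015c000017016000000000000000000000000000000000000000000000000000000000000000000000000000000000000000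000000000000029028027026025024023022c1ebddb9c000b15ad4a9300000000000000000000000000000000000000000000000003002f000000bad00000000000002b02a00000000000000000086800066562400000042200001b01a0000d500001201100000000000000000000000000000000000000000000003000002e000bed00000002c00002a0000000000000000000000008276e50005a300046200000001900001709401200001000000000000000000000000000000000000000000000002f02e000c2d00000002c00002b0000000000000000000000000007e66a45e30004a200000000000001801605301101000000000000000000000000000000000000000000000002d000000000000000000000000000000000000028027026c25be4ba300000000000001e01d01c00000000000000f84e80d7cc00000000000000000000000000000000000000002d000000000000000000029000000000000c27be6000025024000000b2200000001e01d00000000001500000084f00e0006cb68a00000000000000000000000000000000000002d000000000000000000029000000c28000ba6000000025000023000ae200000001e00001c00000000001400080f00000d64b0005c900000000000000000000000000000000002d0000000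00000000000029000000be8000ba7000000000024023000aa200000000001d01c0000000000000137cf00000000c60a58900000000000000000000000000000000002d000000000000000000c29000028027000000000b24000ae300000002200000000001e0000000000000150140000006ce64d00b00000048800000000000000000000000000002d000000000000000000be9000028000026000000b25000aa300000002200000000000001d00000000001500001300068e00060c00a00044800000000000000000000000000002d000000000000000000ba9000000027026000ae5aa400000000000002200000000000000001c0000000000140130000005cd58c00000940800000000000000000000000000002d000000000000000000000b28ae7aa602502402300000000000000000000000000000000000000001501401300000000000048b44a40900800000000000000000000000003002f000000000000000000ba9b2800000000000000000000000000000002001f00065e61d01b01a00000000000000000000014f0ce00000000000000000700600000000000003000002e000000000000000be9000ae700000000000000000000002100001f0000006de00059c01900001700000000000000018f00008d00000000000000700000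500000000000002f02e000000000000000c29000000aa600000000000000000002100002000000000069d5dc0000000180160000000000001cf00000004c000000000000006005000000000000000000000c2d00000000002900002802702500000000000000000000000000085d00081c0000000000006d565400000000000f00000e00d00b0000000000000000001c4000000000000000bed00000000002900002800002602400000000000000000000000085e0007dc00000000000069500061300000000f00000e00000c00a000000000000000184000000000000000bad00000000002900000002702600002300000000000000000081e7dd0000000000000000000005d459300000000f00000000d00c00000900000000000014400000000000003000000000002c000000000be8000000ae500000000002100000081e00000000001a01900000000045500000001200000000018e00000008b00000000000700000000000300000002f00000002c000000000c28000000000aa40000000210000000007dd00000001b0000000180004950000000000110000001ce00000000004a00000000000600000000300000003000000000000002b000000000ba7000b2500000000000002000085e00000001b000000000017000000414000012000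00000000014d0000cb00000000000700000000000000202f00000000000002a000000000ba6000b2400000000000001f00085d00000001a00000000001600000041300001100000000000014c0000ca00000000000600000000000000100000002e00000002b000000000c27000000000aa30000000200000000007dc0000190000000160000004940000000000100000001cd00000000004900000000000500000000200000002e00000000002a000000000be6000000ae300000000001f00000081c00000000001801700000000045300000001000000000018c000000089000000000005000000000001000000000000b2d0000000000000280000250240000000220000006de69d00000000000000000000049445300000000000000000000e00000b00a0000000080000000000c4000000000000000aed00000000000000002702500002300002200000065e0005dc00000000000049500041300000000000000000000000000d00b000009000008000000000084000000000000000aad00000000000000000002602402300002200000000061d59c00000000000045500041400000000000000000000000000000c00a00900000800000000004400000000000000000000002c02b000000000000c25000000aa200000000000001b0190000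006955d40000000000110000100000000000000000001cb00000004800000000000000000300200000000000002c00002a000000000000be4000ae200000000000000001a0000186d500059300000001200001000000000000000000000018a00008800000000000000000300000100000000000002b02a000000000000000ba3b220000000000000000000000170166546130000120110000000000000000000000000000001490c80000000000000000000020010000000000000000000000000298688277e600000000000001e01d01c00000000000000000000000000000000000000000e00d00c1cb18a1490000000000000000000000040000000000000000000000000008690280006e56a400000001e01d00000000001500000000000000000f0000000000001cd18c00000b00a0000000c80000000000000000000040000000000000000000000000008290000276650005e300001e00001c00000000001400000000000000f0000001ce00014c00000000b0000090000880000000000000000000040000000000000000000000000007e90000000266245a300000001d01c00000000000001300000000000f00000018e00014d00000000000a0090000480000000000000000000040000000000000000000000000000000006e866702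50000004a201e0000000000000150140000000001cf00000e00d0000000000ca0000890000000080000000000000000000040000000000000000000000000000000006a800062602400046200001d00000000001500001300000018f00000e00000c0000000cb0000490000000080000000000000000000040000000000000000000000000000000000005e75a600002342200000001c00000000001401300000014f00000000d00c00008b04a0000000000000080000000000000000000040000000000000000000000000000000000000004a54644230220000000000000150140130000000000000ce08d04c00b00a009000000000000000000000000000000000000004000000000000000000000000000000000000000000000021020c1e01b0190000000000007cf00068e5cd48b00000000000000000000000000000600000500000004400000300200000000000000000000000000000000000000000000002100001fbdd01a00001800000080f0006ce00058c44a00000000000000000000000000700000500000008400000300000100000000000000000000000000000000000000000000002001f000b9c00001701600084f00000064d60c0004090000000000000000000070060000000000000c4000000002001000000000000000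0000000000000000000000000000000001de19d15c0000d509405300f00e00d00c00b00a00900800000000000000000000000000000000000000000000000000000000000000000000000000000000000000000000000000001b01a000b1500001201184e00064b60a000000408000000007006000000144000000000000002001000000000000000000000000000000000000000000000000000000000000000019000017ad401200001080d6cb000589000448000000007000005000184000000003000001000000000000000000000000000000000000000000000000000000000000000000000000018016a930110100007cc68a5c90004880000000000060050001c4000000003000002000000000000000000000000000000000000000000000000000000000000000000000000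
  (Nat.mul 12 (Nat.add (Nat.mul 48 r) s))) 4096

private def dcp (n : ℕ) : List ℕ :=
  cond (Nat.beq n 0) [] (cond (Nat.ble n 63) [Nat.sub n 1] [Nat.sub (Nat.mod n 64) 1, Nat.sub (Nat.div n 64) 1])

/-- the reflections, packed -/
private def rpk (i r : ℕ) : ℕ := Nat.mod (Nat.shiftRight 0xbafb6cae9aa89e59a392286079f71d6d96976155944934113ce34b3092881c51840c2001bedbacaaba689a79648a385f81e75b71859a5595d351244f40e30d2ca2091c61050c1080beeaecb6aa67a248e69618a069975c51f7985d141b4d25953cd38a24c2c72061420c4040beeb6881f7ac9e695d71b3abaa992389a6585d654d30b18512151348a2480d140f1c2040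
  (Nat.mul 6 (Nat.add (Nat.mul 48 i) r))) 64

private noncomputable def _root_.Cfsg.Agent.KO213c67e.k71.{ku0} : type_of% @List.hasDecEq.{ku0} := @(fun x0 x1 x2 x3 => @List.rec.{(ku0+1), ku0} @x0 @(fun x4 => (x5 : @List.{ku0} @x0) → @Decidable (@Eq.{(ku0+1)} _ @x4 @x5)) @(fun x4 => @List.rec.{1, ku0} @x0 @(fun x5 => @Decidable (@Eq.{(ku0+1)} _ [] @x5)) (@Decidable.isTrue _ (@List.hasDecEq._proof_1.{ku0} _)) @(fun x5 x6 x7 => @Decidable.isFalse _ (@List.hasDecEq._proof_3.{ku0} _ @x5 @x6)) @x4) @(fun x4 x5 x6 x7 => @List.rec.{1, ku0} @x0 @(fun x8 => @Decidable (@Eq.{(ku0+1)} _ (@x4 :: @x5) @x8)) (@Decidable.isFalse _ (@List.hasDecEq._proof_2.{ku0} _ @x4 @x5)) @(fun x8 x9 x10 => @Decidable.rec.{1} _ @(fun x11 => @Decidable (@Eq.{(ku0+1)} _ (@x4 :: @x5) (@x8 :: @x9))) @(fun x11 => @Decidable.isFalse _ (@List.hasDecEq._proof_6.{ku0} _ @x4 @x5 @x8 @x9 @x11)) @(fun x11 => @Decidable.rec.{1} _ @(fun x12 => @Decidable (@Eq.{(ku0+1)} _ (@x4 :: @x5) (@x8 :: @x9)))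 @(fun x12 => @Decidable.isFalse _ (@List.hasDecEq._proof_5.{ku0} _ @x4 @x5 @x8 @x9 @x12)) @(fun x12 => @Decidable.isTrue _ (@List.hasDecEq._proof_4.{ku0} _ @x4 @x5 @x8 @x9 @x11 @x12)) (@x6 @x9)) (@x1 @x4 @x8)) @x7) @x2 @x3)
private theorem _root_.Cfsg.Agent.KO213c67e.e71.{ku0} : @List.hasDecEq.{ku0} = @_root_.Cfsg.Agent.KO213c67e.k71.{ku0} := by delta _root_.Cfsg.Agent.KO213c67e.k71; funext a0 a1 a2 a3; refine (congrFun (_root_.Cfsg.Agent.KO213c67e.e0 (fun a2 a3 => @List.hasDecEq.{ku0} a0 a1 a2 a3) ?_ (fun c0 c1 => ?_) a2) a3 :) <;> [(funext b0; (cases b0 with | @nil  => (rfl') | @cons b0_0 b0_1 => (rfl'))); (funext b0; (cases b0 with | @nil  => (rfl') | @cons b0_0 b0_1 => (rfl')))]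
private noncomputable def _root_.Cfsg.Agent.KO213c67e.k72.{ku0} : type_of% @instDecidableEqList.{ku0} := @(fun x0 x1 x2 x3 => @List.rec.{1, ku0} @x0 @(fun x4 => @Decidable (@Eq.{(ku0+1)} _ @x4 @x3)) (@List.rec.{1, ku0} @x0 @(fun x4 => @Decidable (@Eq.{(ku0+1)} _ [] @x4)) (@Decidable.isTrue _ (@List.hasDecEq._proof_1.{ku0} _)) @(fun x4 x5 x6 => @Decidable.isFalse _ (@List.hasDecEq._proof_3.{ku0} _ @x4 @x5)) @x3) @(fun x4 x5 x6 => @List.rec.{1, ku0} @x0 @(fun x7 => @Decidable (@Eq.{(ku0+1)} _ (@x4 :: @x5) @x7)) (@Decidable.isFalse _ (@List.hasDecEq._proof_2.{ku0} _ @x4 @x5)) @(fun x7 x8 x9 => @Decidable.rec.{1} _ @(fun x10 => @Decidable (@Eq.{(ku0+1)} _ (@x4 :: @x5) (@x7 :: @x8))) @(fun x10 => @Decidable.isFalse _ (@List.hasDecEq._proof_6.{ku0} _ @x4 @x5 @x7 @x8 @x10)) @(fun x10 => @Decidable.rec.{1} _ @(fun x11 => @Decidable (@Eq.{(ku0+1)} _ (@x4 :: @x5) (@x7 :: @x8))) @(fun x11 => @Decidable.isFalse _ (@List.hasDecEq._proof_5.{ku0} _ @x4 @x5 @x7 @x8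 @x11)) @(fun x11 => @Decidable.isTrue _ (@List.hasDecEq._proof_4.{ku0} _ @x4 @x5 @x7 @x8 @x10 @x11)) (@Cfsg.Agent.KO213c67e.k71.{ku0} _ @x1 @x5 @x8)) (@x1 @x4 @x7)) @x3) @x2)
private theorem _root_.Cfsg.Agent.KO213c67e.e72.{ku0} : @instDecidableEqList.{ku0} = @_root_.Cfsg.Agent.KO213c67e.k72.{ku0} := by delta _root_.Cfsg.Agent.KO213c67e.k72; rewrite [← Cfsg.Agent.KO213c67e.e71.{ku0}]; rfl'
private noncomputable def _root_.Cfsg.Agent.KO213c67e.k73 : (by first | exact type_of% @Cfsg.Agent.F42.AllInst.dcp | exact Unit : Sort _) := by first | (refine @Subtype.val _ (fun g => @Cfsg.Agent.F42.AllInst.dcp = @g) (@Subtype.mk _ _ (@(fun x0 => @Bool.rec.{1} @(fun x1 => @List.{0} ℕ) (@Bool.rec.{1} @(fun x1 => @List.{0} ℕ) ((@Nat.sub (@Nat.mod @x0 (nat_lit 64)) (nat_lit 1)) :: ((@Nat.sub (@Nat.div @x0 (nat_lit 64)) (nat_lit 1)) :: [])) ((@Nat.sub @x0 (nat_lit 1)) :: []) (@Nat.ble @x0 (nat_lit 63))) [] (@Nat.beq @x0 (nat_lit 0)))) ?_); rfl') | exact @Cfsg.Agent.F42.AllInst.dcp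 | exact ()
private theorem _root_.Cfsg.Agent.KO213c67e.e73 : (by first | exact @Cfsg.Agent.F42.AllInst.dcp = @_root_.Cfsg.Agent.KO213c67e.k73 | exact True : Prop) := by first | (delta _root_.Cfsg.Agent.KO213c67e.k73; exact @Subtype.property _ (fun g => @Cfsg.Agent.F42.AllInst.dcp = @g) _) | rfl | trivial
private noncomputable def _root_.Cfsg.Agent.KO213c67e.k74 : (by first | exact type_of% @Cfsg.Agent.F42.AllInst.cpk | exact Unit : Sort _) := by first | (refine @Subtype.val _ (fun g => @Cfsg.Agent.F42.AllInst.cpk = @g) (@Subtype.mk _ _ (@(fun x0 x1 => @Nat.mod (@Nat.shiftRight (nat_lit 1739479447665933352649421199527488143382295715677308472989881134635301812601713425130029747468751908577820101027896324252328508215240953469610841087958250136275948337866992440183899021898679843546521039906818963916177682248937380243239077145834365488948892975344008762138979905729795269738652947980353710647606268097424168158525657700485411187032574905478672756288130035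0933184003480867731207761928746017286575056735989475094827956834849301616492159382951460989284990974128348099620402917664527442797306028441385164912355512759551933923146668896697601951056707953097940932569584644302997061820962793013638002394096402623029462590819232266676868544988745851317749457692703917643716833359273186786440185316853722945062840320138452776166442917970995637607507882502107965641372431323735369796485460587846490002448478406057801968662807226653597879719772196499000544329839975640280420658215968280641762534041999630725996352171967423339752341315650632278749363233414180887232464864353068179048755915464281506508705746124195880676868588136154457554494402065159122973777524161181674513252023056489976239217205771142192322919334680126656257757529960688238610981518810294401454503672270661568049662307010132637840094427470763613066982327236380685779616207775421959895382971866778345170440694021088948151801582828427044774456464132818015288405721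0683646097768774928009388539930925085716109483979498298756538043428929006197830498216488253524453655552552740600061900968828520176000578727238662196681984634652797592095095809566973162719042486998466528681810416512447252951946086708558794584890679732246620754180624869507451432828102673673168522953342907451031893363896203827485515157455346195457943824514371264182876658179209246810464755149772947211387442907683846411890205497381856828172417873516263504436465931000820745440890538780871257200045374858204975344280116567734632484686409284408883785639045319589043432705142631775056917356275725187540744025809995946402207469072449895608680656032925397325659826694034257227733635829260767494236318418743760123299219123842496233511165242721667428766502942072646252625181064021232479640575840093092465545566625741275439132014470738649287221195378716494512925997270755109434653228079933142883036569630615709562923154304219555451470283421735684578458082342587520549344606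8233818017072228326384224122483541406080390909071073729074129353782981443547087205098417787284216282353423991048713443638389285427677000699690449241495945783574719344664569002219649849802156057640699058915058288112866036814905386382097214830487801313979217949596221855841055930231355715956371580061724222618588911379868401608408960110612604327594993471924458869774575860075197752989659041778369653909962327647016884183154163365263994312390802807225754350457763181216275516455212568349640749027102888489803558623569132799471327011342426700828729707421345470909195329340469064686727478569225174948691333931666196588325943373574384539573255022478029714551311651224204249063899079743008832345169295452760603959298460964122402593979088110874525377566279381784851626401718874109703123519423950291427245942151972129881177596144806414119495257937478379984047978581130063265973597547461438360515314492531902377654277985013468913218968265591717105685699498308188577944306001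2671157974452550842342591864042537513440824628288292618185026089334631163942982648808865716024405579487356037518227189524560394419369318576547791054005329536400440072705597218417779551475944036123084856170970742699807130435456024235923257225815855156833105784143556036447699155893217057017828183800173027802381353137479630396936260073371503071731430779087981498401987753859257398016734331718548658309414127433425246208647097270568185287291259266787853013172833967461898250038858759773539798371935078546703954162572902382777951139203308762929967412223981468217844438728633774498947165603032578431695139553675264703748402566686338744847659522703835479640801866674498385609430431005724808545960599298806812822243657788132635162812196969651607642813413903370858469766111060529493650658040737608957784410594613083819099354435008299693733240630933554071852979716457720133403083236309973398396589435546134445810730633200319198676273779132099925457051732707206878881757696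4358253797201247192554762692216981254465664804610903666221033186244679513915332778668315965597308263181487018419300532609014014507564377827077350273581969163248374910357878282953285051615999417124615637936989156281191394886706557108185600233795846444286593619980422856429785332511428080164350333262303011236411895224142845044718837513252954384214264610168411622268157105542666416109708751456338195583964042449621496006143876121624764787101598624610152036093424954731474160756535655188371374539585701462101484107778105628575544760867210475430291584279785520027318842386196574095559007691794096346859263236227622084220712777930997431125311745383620166896926773946502699720314673482481987298878534607621653989250895428738775003238641673063684653481931587452500486797227092788355853434041240952878287081256148565888356795192965607739161432049349446589207699015103655166732613647440361741768418326320665946107391159383804474991326144941753316146207937805921895823616772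5558100327630143176796273730336650736504460572916626456470995041126479702982027371085068132773570768600310702658850629021498424915028625253680968882282549817517093720374071236034004505096514100031452132687936645559654442055596896259639925601699118911591227945293044687509060433634460246279606201927767382763750166345208051553457932627261532670727382974426741920056620631998305353998585088090931320019381893946859196655333515058973733409533669351747583880876946452019979390078486785137180086137289271981377170639234983409566751315948019531936284448649776886744749861343440012379924503715778416722397207790093398289052908817955533869987476517522475027131795282083028539434014507271935887645150871942498001676888052096157771511641466704034076479458422567150668291207367925607230377590494843335189291804821850630586325326123402214433855478647994171117498533472516514228451593936498348032679207060595084674554443673638561425302301329460913253812114020652655659788642017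1827347777458596518896012455980712662964056650653777246067269088333181098911369420036147293823317464697664747500031626255709946314346991993214263195859934313401853566109644530791222648470531650206047622257271926184081310029149673420859287409636567393985388129675055961472890366707338754430515038026846720777674204935949391598320172330998168047619848965576638667943923326678508156945382492991065083371244282619301645712529749023258030180659852786422676147156050781170537478074800936988795514961955961373295018173119074034468132969063305624744657540633606619564071367703294717681726953712031387893186735132859791295104881616287138814806999312856639954342490341134896101947543153741880040086021089925622781015527932391576216134892519949839774247634925238068505922013145602676881974919153027660917432554386241255556120073069300583267985400445161744863220432881604546021353525938186016272287465032958283445257318456562267023425268264720450515083704950120989006044707315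6047699672389000540597690870969182895453656465728847694793487166670321958452192454151202078113987579833824084807076353014934724896555014420284151295503773831318382995947821199177111290423147233321051785733918460944980669301030792687135170297571539202577077425695559676698335868225808372886699564872674382140010926713553317618297084540989992910151463724637532638171123358511954504337034975577701429875275189000722380074179084989039739840995034623664714384507255588735713443582982579508062404489930413674378739471961895677924862414752882176752735398809960569378299074159322897976886653745825778613714356760943691048358646504003000887968218794945138633347625346961001818271433233870141754295371524462971338252930326151999474689546505128906851193287748426375676824676358411756850719286455892738586861975462634673110678872146985622610005680107346840379990180562335432238912768557103457380224211581568441178785837907720025071074283663261271088308185163959878245213777066982096585062896949015499914456712280219952147108028161409682495572778237268043090238988438046318293782061858272882777893832386325329275674075887984181248)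 (@Nat.mul (nat_lit 12) (@Nat.add (@Nat.mul (nat_lit 48) @x0) @x1))) (nat_lit 4096))) ?_); rfl') | exact @Cfsg.Agent.F42.AllInst.cpk | exact ()
private theorem _root_.Cfsg.Agent.KO213c67e.e74 : (by first | exact @Cfsg.Agent.F42.AllInst.cpk = @_root_.Cfsg.Agent.KO213c67e.k74 | exact True : Prop) := by first | (delta _root_.Cfsg.Agent.KO213c67e.k74; exact @Subtype.property _ (fun g => @Cfsg.Agent.F42.AllInst.cpk = @g) _) | rfl | trivial

private theorem cmgT_eq : cmgT = (List.range 48).map fun r => (List.range 48).map fun s => dcp (cpk r s) := by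
  (first | (refine of_decide_eq_true ?_; rewrite [Cfsg.Agent.KO213c67e.e45, Cfsg.Agent.KO213c67e.e72.{0}, Cfsg.Agent.KO213c67e.e21, Cfsg.Agent.KO213c67e.e16.{0, 0}, Cfsg.Agent.KO213c67e.e73, Cfsg.Agent.KO213c67e.e74, Cfsg.Agent.KO213c67e.e23]; decide +kernel) | decide +kernel)

private theorem nth_getD {α : Type} (l : List (List α)) (n : ℕ) :
    Cfsg.Agent.ChevalleyStructure.TwF4.Tables.nth l n = l.getD n [] := by
  induction l generalizing n with
  | nil => rfl
  | cons a l ih => cases n with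
    | zero => rfl
    | succ n => exact ih n

private theorem nth2_getD {α : Type} (l : List (List (List α))) (n : ℕ) :
    Cfsg.Agent.ChevalleyStructure.TwF4.Rel.nth2 l n = l.getD n [] := by
  induction l generalizing n with
  | nil => rfl
  | cons a l ih => cases n with
    | zero => rfl
    | succ n => exact ih n

private theorem getD_rng {α : Type} (f : ℕ → α) (d : α) {r : ℕ} (hr : r < 48) :
    ((List.range 48).map f).getD r d = f r := by
  rw [List.getD_eq_getElem _ _ (by rw [List.length_map, List.length_range]; exact hr), List.getElem_map,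
    List.getElem_range]

private theorem cmg_pk {r s : ℕ} (hr : r < 48) (hs : s < 48) : cmg r s = dcp (cpk r s) := by
  show Cfsg.Agent.ChevalleyStructure.TwF4.Tables.nth (Cfsg.Agent.ChevalleyStructure.TwF4.Rel.nth2 cmgT r) s = _
  rw [nth_getD, nth2_getD, cmgT_eq, getD_rng _ _ hr, getD_rng _ _ hs]

private noncomputable def _root_.Cfsg.Agent.KO213c67e.k43 : type_of% @Bool.decEq := @(fun x0 x1 => @Bool.rec.{1} @(fun x2 => @Decidable (@Eq.{1} _ @x2 @x1)) (@Bool.rec.{1} @(fun x2 => @Decidable (@Eq.{1} _ @Bool.false @x2)) (@Decidable.isTrue _ (@rfl.{1} _ _)) (@Decidable.isFalse _ @(fun x2 => @Bool.noConfusion.{0} _ _ _ @x2)) @x1) (@Bool.rec.{1} @(fun x2 => @Decidable (@Eq.{1} _ @Bool.true @x2)) (@Decidable.isFalse _ @(fun x2 => @Bool.noConfusion.{0} _ _ _ @x2)) (@Decidable.isTrue _ (@rfl.{1} _ _)) @x1) @x0)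
private theorem _root_.Cfsg.Agent.KO213c67e.e43 : @Bool.decEq = @_root_.Cfsg.Agent.KO213c67e.k43 := by delta _root_.Cfsg.Agent.KO213c67e.k43; rfl'
private noncomputable def _root_.Cfsg.Agent.KO213c67e.k46 : type_of% @Nat.decLe := @(fun x0 x1 => @Decidable.rec.{1} _ @(fun x2 => @Decidable (@LE.le.{0} _ _ @x0 @x1)) @(fun x2 => @Decidable.isFalse _ (@Nat.not_le_of_not_ble_eq_true _ _ @x2)) @(fun x2 => @Decidable.isTrue _ (@Nat.le_of_ble_eq_true _ _ @x2)) (@Cfsg.Agent.KO213c67e.k43 (@Nat.ble @x0 @x1) @Bool.true))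
private theorem _root_.Cfsg.Agent.KO213c67e.e46 : @Nat.decLe = @_root_.Cfsg.Agent.KO213c67e.k46 := by delta _root_.Cfsg.Agent.KO213c67e.k46; rewrite [← Cfsg.Agent.KO213c67e.e43]; rfl'
private noncomputable def _root_.Cfsg.Agent.KO213c67e.k75 : (by first | exact type_of% @Cfsg.Agent.F42.RelTab.all2 | exact Unit : Sort _) := by first | (refine @Subtype.val _ (fun g => @Cfsg.Agent.F42.RelTab.all2 = @g) (@Subtype.mk _ _ (@(fun x0 => @Cfsg.Agent.KO213c67e.k1.{0} _ (@Cfsg.Agent.KO213c67e.k22 (nat_lit 48) []) @(fun x1 => @Cfsg.Agent.KO213c67e.k1.{0} _ (@Cfsg.Agent.KO213c67e.k22 (nat_lit 48) []) @(fun x2 => @x0 @x1 @x2)))) ?_); rewrite [← Cfsg.Agent.KO213c67e.e22, ← Cfsg.Agent.KO213c67e.e1.{0}]; rfl') | exact @Cfsg.Agent.F42.RelTab.all2 | exact ()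
private theorem _root_.Cfsg.Agent.KO213c67e.e75 : (by first | exact @Cfsg.Agent.F42.RelTab.all2 = @_root_.Cfsg.Agent.KO213c67e.k75 | exact True : Prop) := by first | (delta _root_.Cfsg.Agent.KO213c67e.k75; exact @Subtype.property _ (fun g => @Cfsg.Agent.F42.RelTab.all2 = @g) _) | rfl | trivial
private noncomputable def _root_.Cfsg.Agent.KO213c67e.k76 : type_of% @Nat.decLt := @(fun x0 x1 => @Cfsg.Agent.KO213c67e.k46 (@Nat.succ @x0) @x1)
private theorem _root_.Cfsg.Agent.KO213c67e.e76 : @Nat.decLt = @_root_.Cfsg.Agent.KO213c67e.k76 := by delta _root_.Cfsg.Agent.KO213c67e.k76; rewrite [← Cfsg.Agent.KO213c67e.e46]; rfl'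

private theorem lt_pk : RelTab.all2 (fun r s => (dcp (cpk r s)).all fun c => decide (c < 48)) = true := by (first | (rewrite [Cfsg.Agent.KO213c67e.e75, Cfsg.Agent.KO213c67e.e1.{0}, Cfsg.Agent.KO213c67e.e73, Cfsg.Agent.KO213c67e.e74, Cfsg.Agent.KO213c67e.e45, Cfsg.Agent.KO213c67e.e76]; decide +kernel) | decide +kernel)

theorem cmg_lt_tab : RelTab.all2 (fun r s => (cmg r s).all fun c => decide (c < 48)) = true :=
  List.all_eq_true.2 fun r hr => List.all_eq_true.2 fun s hs => by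
    have h1 := List.mem_range.1 hr
    have h2 := List.mem_range.1 hs
    show ((cmg r s).all fun c => decide (c < 48)) = true
    rw [cmg_pk h1 h2]
    exact RelTab.all2_spec lt_pk h1 h2

private theorem rpk_tab : ((List.range 4).all fun i => (List.range 48).all fun r =>
    Nat.beq (Cfsg.Agent.ChevalleyStructure.TwF4.Rel.refl i r) (rpk i r)) = true := by decide +kernel

private theorem refl_pk {i r : ℕ} (hi : i < 4) (hr : r < 48) :
    Cfsg.Agent.ChevalleyStructure.TwF4.Rel.refl i r = rpk i r :=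
  Nat.eq_of_beq_eq_true (List.all_eq_true.1 (List.all_eq_true.1 rpk_tab i (List.mem_range.2 hi)) r (List.mem_range.2 hr))

private noncomputable def _root_.Cfsg.Agent.KO213c67e.k80 : (by first | exact type_of% @Cfsg.Agent.F42.AllInst.rpk | exact Unit : Sort _) := by first | (refine @Subtype.val _ (fun g => @Cfsg.Agent.F42.AllInst.rpk = @g) (@Subtype.mk _ _ (@(fun x0 x1 => @Nat.mod (@Nat.shiftRight (nat_lit 44680202791656537122140339432049440200821824576578158015544597496233512948785948013091870746532143542801930821634261722540130315076123428704224469504776473800326329836030969284090849465460082827992281236110157045796166528234174332815516392933552422359565568433508162648901927601700895658347465478055178971065401763642172664959215283387978913423424) (@Nat.mul (nat_lit 6) (@Nat.add (@Nat.mul (nat_lit 48) @x0) @x1))) (nat_lit 64))) ?_); rfl') | exact @Cfsg.Agent.F42.AllInst.rpk | exact ()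
private theorem _root_.Cfsg.Agent.KO213c67e.e80 : (by first | exact @Cfsg.Agent.F42.AllInst.rpk = @_root_.Cfsg.Agent.KO213c67e.k80 | exact True : Prop) := by first | (delta _root_.Cfsg.Agent.KO213c67e.k80; exact @Subtype.property _ (fun g => @Cfsg.Agent.F42.AllInst.rpk = @g) _) | rfl | trivial

private theorem gen_pk : ((List.range 4).all fun i => RelTab.all2 fun r s => (dcp (cpk (rpk i r) (rpk i s))).all fun c =>
    (dcp (cpk r s)).any fun d => Nat.beq (rpk i d) c) = true := by (first | (rewrite [Cfsg.Agent.KO213c67e.e1.{0}, Cfsg.Agent.KO213c67e.e23, Cfsg.Agent.KO213c67e.e75, Cfsg.Agent.KO213c67e.e73, Cfsg.Agent.KO213c67e.e74, Cfsg.Agent.KO213c67e.e80, Cfsg.Agent.KO213c67e.e4.{0}]; decide +kernel) | decide +kernel)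

private theorem cmg_act {w : List ℕ} (hw : ∀ i ∈ w, i < 4) {r s : ℕ} (hr : r < 48) (hs : s < 48) :
    ∀ c ∈ cmg (act w r) (act w s), ∃ d ∈ cmg r s, act w d = c := by
  induction w with
  | nil => exact fun c hc => ⟨c, hc, rfl⟩
  | cons i w ih =>
    intro c hc
    have hi := hw i List.mem_cons_self
    have hw' : ∀ j ∈ w, j < 4 := fun j hj => hw j (List.mem_cons_of_mem _ hj)
    have h1 := act_lt hw' hr
    have h2 := act_lt hw' hs
    have h3 := RelTab.all2_spec (List.all_eq_true.1 gen_pk i (List.mem_range.2 hi)) h1 h2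
    rw [← refl_pk hi h1, ← refl_pk hi h2, ← cmg_pk h1 h2] at h3
    rw [cmg_pk (act_lt hw hr) (act_lt hw hs)] at hc
    obtain ⟨d, h4, h5⟩ := List.any_eq_true.1 (List.all_eq_true.1 h3 c hc)
    obtain ⟨e, h6, rfl⟩ := ih hw' d h4
    refine ⟨e, h6, (refl_pk hi ?_).trans (Nat.eq_of_beq_eq_true h5)⟩
    exact of_decide_eq_true (List.all_eq_true.1 (RelTab.all2_spec cmg_lt_tab h1 h2) _ h4)

/-- transport of `CM` to a conjugate pair -/
theorem cm_transport (T : Two S a b) {r s r' s' : ℕ} (hr : r < 48) (hs : s < 48) (hr' : r' < 48) (hs' : s' < 48)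
    {w : List ℕ} (hw : ∀ i ∈ w, i < 4) (h1 : act w r = r') (h2 : act w s = s')
    (h3 : ((cmg r' s').all fun c => (cmg r s).any fun c' => decide (c' < 48) && (act w c' == c)) = true)
    (h : (sys T).CM (x r') (x s') ((cmg r' s').map x)) : (sys T).CM (x r) (x s) ((cmg r s).map x) := by
  have e1 := nw_conj hw hr
  have e2 := nw_conj hw hs
  rw [h1] at e1
  rw [h2] at e2
  have h4 := VSys.CM.conj (sys T) (sys_Rt T hr') (sys_Rt T hs')
    (x_Rt_list T (RelTab.all2_spec cmg_lt_tab hr' hs')) h (nw w)⁻¹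
  rw [back e1, back e2] at h4
  refine VSys.CM.mono (sys T) h4 ?_
  intro c hc
  obtain ⟨c1, hc1, rfl⟩ := List.mem_map.1 hc
  obtain ⟨c2, hc2, rfl⟩ := List.mem_map.1 hc1
  rw [List.all_eq_true] at h3
  have h5 := h3 c2 hc2
  rw [List.any_eq_true] at h5
  obtain ⟨c', hc', h6⟩ := h5
  rw [Bool.and_eq_true, decide_eq_true_eq, beq_iff_eq] at h6
  have e3 := nw_conj hw h6.1
  rw [h6.2] at e3
  rw [back e3]
  exact List.mem_map.2 ⟨c', hc', rfl⟩

theorem cm_nil (T : Two S a b) {r s : ℕ} (hr : r < 48) (hs : s < 48) (h : cB r s = true) (hc : cmg r s = [])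
    (hV : (sys T).V (x r) * (sys T).V (x s) = (sys T).V (x s) * (sys T).V (x r)) :
    (sys T).CM (x r) (x s) ((cmg r s).map x) := by
  rw [hc]
  exact (sys T).CM_comm (sys_Rt T hr) (sys_Rt T hs) (cB_comm h) hV

theorem cm_37_47 (T : Two S a b) : (sys T).CM (x 37) (x 47) ((cmg 37 47).map x) :=
  cm_nil T (by norm_num) (by norm_num) (by decide +kernel) (by decide +kernel) (comm_47_37 T).symm

/-- the standard pairs -/
theorem cm_std (T : Two S a b) : ∀ p ∈ std, (sys T).CM (x p.1) (x p.2) ((cmg p.1 p.2).map x) := by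
  intro p hp
  unfold std at hp
  simp only [List.mem_cons, List.not_mem_nil, or_false] at hp
  rcases hp with rfl | rfl | rfl | rfl | rfl | rfl | rfl | rfl | rfl | rfl | rfl | rfl
  · exact cm_nil T (by norm_num) (by norm_num) (by decide +kernel) (by decide +kernel) (p0_s T).2
  · exact cm_nil T (by norm_num) (by norm_num) (by decide +kernel) (by decide +kernel) ((sys T).orth (orth_s T)).1
  · have h := VSys.Obt.cm (sys T) (obt_s T)
    rw [show cmg 40 33 = [44] by decide +kernel]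
    exact h
  · exact cm_nil T (by norm_num) (by norm_num) (by decide +kernel) (by decide +kernel) (p0_l T).2
  · exact cm_nil T (by norm_num) (by norm_num) (by decide +kernel) (by decide +kernel) ((sys T).orth (orth_l T)).1
  · have h := VSys.Obt.cm (sys T) (obt_l T)
    rw [show cmg 46 24 = [47] by decide +kernel]
    exact h
  · exact cm_nil T (by norm_num) (by norm_num) (by decide +kernel) (by decide +kernel) (comm_47_44 T).symm
  · -- `(44, 32)`
    have h : ∀ w : List ℕ, w = (word 37 47).reverse → (∀ i ∈ w, i < 4) → act w 44 = 37 → act w 32 = 47 →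
        (sys T).CM (x 44) (x 32) ((cmg 44 32).map x) := fun w _ hw h1 h2 =>
      cm_transport T (by norm_num) (by norm_num) (by norm_num) (by norm_num) hw h1 h2 (by
        rw [show cmg 37 47 = [] by decide +kernel]; rfl) (cm_37_47 T)
    exact h _ rfl (fun i hi => word_lt (r := 37) (s := 47) (by norm_num) (by norm_num) i (List.mem_reverse.1 hi))
      (by decide +kernel) (by decide +kernel)
  · -- `(29, 41)`
    have h := VSys.CM.symm (sys T) (VSys.Obf.cm (sys T) (obf T))
    refine VSys.CM.mono (sys T) h ?_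
    rw [show cmg 29 41 = [44, 47] by decide +kernel]
    intro c hc
    exact hc
  · exact cm_nil T (by norm_num) (by norm_num) (by decide +kernel) (by decide +kernel) (comm_47_44 T)
  · exact cm_nil T (by norm_num) (by norm_num) (by decide +kernel) (by decide +kernel) (comm_47_37 T)
  · have h := VSys.Obf.cm (sys T) (obf T)
    refine VSys.CM.mono (sys T) h ?_
    rw [show cmg 41 29 = [44, 47] by decide +kernel]
    intro c hc
    exact hc

theorem cm_tab : RelTab.all2 (fun r s => Nat.beq r s || Nat.beq (r + s) 47 ||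
    (fun w => (cmg (act w r) (act w s)).all fun c => (cmg r s).any fun c' => decide (c' < 48) && (act w c' == c))
      (word r s)) = true :=
  List.all_eq_true.2 fun r hr => List.all_eq_true.2 fun s hs => by
    have h1 := List.mem_range.1 hr
    have h2 := List.mem_range.1 hs
    refine Bool.or_eq_true_iff.2 (.inr (List.all_eq_true.2 fun c hc => ?_))
    obtain ⟨d, h3, h4⟩ := cmg_act (word_lt h1 h2) h1 h2 c hc
    exact List.any_eq_true.2 ⟨d, h3, Bool.and_eq_true_iff.2
      ⟨List.all_eq_true.1 (RelTab.all2_spec cmg_lt_tab h1 h2) d h3, beq_iff_eq.2 h4⟩⟩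

/-- **All pairs.** -/
theorem cm_all (T : Two S a b) {r s : ℕ} (hr : r < 48) (hs : s < 48) (h1 : r ≠ s) (h2 : r + s ≠ 47) :
    (sys T).CM (x r) (x s) ((cmg r s).map x) := by
  have h3 := RelTab.all2_spec cm_tab hr hs
  rw [Bool.or_eq_true, Bool.or_eq_true, Nat.beq_eq, Nat.beq_eq] at h3
  rcases h3 with (h3 | h3) | h3
  · exact absurd h3 h1
  · exact absurd h3 h2
  · exact cm_transport T hr hs (act_lt (word_lt hr hs) hr) (act_lt (word_lt hr hs) hs) (word_lt hr hs) rfl rfl h3
      (cm_std T _ (mem_std hr hs h1 h2))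

theorem comm_self {X A : G} (h0 : X * A = A * X) (g h : G) (hg : g = X ∨ g = A) (hh : h = X ∨ h = A) :
    g * h * g⁻¹ * h⁻¹ = 1 := by
  have hXA : Commute X A := h0
  have hgh : Commute g h := by
    rcases hg with rfl | rfl <;> rcases hh with rfl | rfl
    · exact Commute.refl _
    · exact hXA
    · exact hXA.symm
    · exact Commute.refl _
  rw [hgh.eq]; group

/-! ### the root data -/

/-- The root data: all 24 groups `⟨x_r, V_r⟩`, `24 ≤ r < 48`, are free. -/
noncomputable def rootData (T : Two S a b) : RootChain.RootData G where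
  t := S.t
  x r := S.φ (x r)
  a r := (sys T).V (x r)
  fr _ := True
  tt := S.tt
  xx r _ _ := by rw [← map_mul, x_mul_self, map_one]
  xt r _ _ := S.comm' _
  at_fr r _ hr _ := by
    have h := (sys T).Vt _ (sys_Rt T hr)
    change (sys T).V (x r) * S.t = S.t * S.φ (x r) * (sys T).V (x r) at h
    rw [h, mul_inv_cancel_right]
  a_one r _ _ h := absurd trivial h
  aa r _ hr := by
    have h := (sys T).Vsq _ (sys_Rt T hr)
    rw [h]
    exact one_mem _
  comm r s hr hrs hs g h hg hh := by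
    rcases Nat.eq_or_lt_of_le hrs with hlt | hlt
    · have h0 : (sys T).φ (x r) * (sys T).V (x r) = (sys T).V (x r) * (sys T).φ (x r) :=
        ((sys T).commφV (sys_Rt T (hlt ▸ hs)) rfl).eq
      rw [← hlt] at hh
      rw [comm_self h0 g h hg hh]
      exact one_mem _
    · have h1 := cm_all T (r := r) (s := s) (by omega) hs (by omega) (by omega) g h hg hh
      refine (sys T).Nc_le ?_ h1
      intro c hc
      obtain ⟨q, hq, rfl⟩ := List.mem_map.1 hc
      obtain ⟨-, h2, h3⟩ := cmg_gt hr (by omega) (show 24 ≤ s by omega) hs q hq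
      exact ⟨Subgroup.subset_closure ⟨q, h2, h3, Or.inl rfl⟩, Subgroup.subset_closure ⟨q, h2, h3, Or.inr rfl⟩⟩

theorem rootData_x (T : Two S a b) (r : ℕ) : (rootData T).x r = S.φ (x r) := rfl

/-- the positive roots above `r` -/
def gtP (r q : ℕ) : Bool := decide (r < q)

private noncomputable def _root_.Cfsg.Agent.KO213c67e.k81 : (by first | exact type_of% @Cfsg.Agent.FourTwo.Par.closedB | exact Unit : Sort _) := by first | (refine @Subtype.val _ (fun g => @Cfsg.Agent.FourTwo.Par.closedB = @g) (@Subtype.mk _ _ (@(fun x0 => @Bool.rec.{1} @(fun x1 => @Bool) @Bool.false (@Cfsg.Agent.KO213c67e.k1.{0} _ (@Cfsg.Agent.KO213c67e.k22 (nat_lit 48) []) @(fun x1 => @Bool.rec.{1} @(fun x2 => @Bool) (@Cfsg.Agent.KO213c67e.k1.{0} _ (@Cfsg.Agent.KO213c67e.k22 (nat_lit 48) []) @(fun x2 => @Bool.rec.{1} @(fun x3 => @Bool) (@Cfsg.Agent.KO213c67e.k1.{0} _ (@Cfsg.Agent.KO213c67e.k37 _ (@Cfsg.Agent.KO213c67e.k68 _ @Cfsg.Agent.FourTwo.Comm.cmgT @x1) @x2) @x0) @Bool.true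 (@Bool.rec.{1} @(fun x3 => @Bool) @Bool.true @Bool.false (@Bool.rec.{1} @(fun x3 => @Bool) @Bool.false (@Cfsg.Agent.KO213c67e.k24.{1} @Bool (@Nat.succ @x1) @x2 @Bool.false @Bool.true) (@x0 @x2))))) @Bool.true (@Bool.rec.{1} @(fun x2 => @Bool) @Bool.true @Bool.false (@x0 @x1)))) (@Cfsg.Agent.KO213c67e.k1.{0} _ (@Cfsg.Agent.KO213c67e.k22 (nat_lit 24) []) @(fun x1 => @Bool.rec.{1} @(fun x2 => @Bool) @Bool.true @Bool.false (@x0 @x1))))) ?_); rewrite [← Cfsg.Agent.KO213c67e.e24.{1}, ← Cfsg.Agent.KO213c67e.e68, ← Cfsg.Agent.KO213c67e.e37, ← Cfsg.Agent.KO213c67e.e22, ← Cfsg.Agent.KO213c67e.e1.{0}]; (try delta Cfsg.Agent.FourTwo.Par.closedB Cfsg.Agent.FourTwo.Par.cmAll Cfsg.Agent.FourTwo.Comm.cmg); (try generalize @Cfsg.Agent.ChevalleyStructure.TwF4.Tables.nth = g0); (try generalize @Cfsg.Agent.ChevalleyStructure.TwF4.Rel.nth2 = g1); (try generalize @Cfsg.Agent.FourTwo.Comm.cmgT = g2); rfl') | exact @Cfsg.Agent.FourTwo.Par.closedB | exact ()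
private theorem _root_.Cfsg.Agent.KO213c67e.e81 : (by first | exact @Cfsg.Agent.FourTwo.Par.closedB = @_root_.Cfsg.Agent.KO213c67e.k81 | exact True : Prop) := by first | (delta _root_.Cfsg.Agent.KO213c67e.k81; exact @Subtype.property _ (fun g => @Cfsg.Agent.FourTwo.Par.closedB = @g) _) | rfl | trivial
private noncomputable def _root_.Cfsg.Agent.KO213c67e.k82 : (by first | exact type_of% @Cfsg.Agent.F42.AllInst.gtP | exact Unit : Sort _) := by first | (refine @Subtype.val _ (fun g => @Cfsg.Agent.F42.AllInst.gtP = @g) (@Subtype.mk _ _ (@(fun x0 x1 => @Cfsg.Agent.KO213c67e.k24.{1} @Bool (@Nat.succ @x0) @x1 @Bool.false @Bool.true)) ?_); rewrite [← Cfsg.Agent.KO213c67e.e24.{1}]; rfl') | exact @Cfsg.Agent.F42.AllInst.gtP | exact ()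
private theorem _root_.Cfsg.Agent.KO213c67e.e82 : (by first | exact @Cfsg.Agent.F42.AllInst.gtP = @_root_.Cfsg.Agent.KO213c67e.k82 | exact True : Prop) := by first | (delta _root_.Cfsg.Agent.KO213c67e.k82; exact @Subtype.property _ (fun g => @Cfsg.Agent.F42.AllInst.gtP = @g) _) | rfl | trivial

theorem closed_gtP : ((List.range 25).all fun r => closedB (gtP (23 + r))) = true := by (first | (rewrite [Cfsg.Agent.KO213c67e.e1.{0}, Cfsg.Agent.KO213c67e.e23, Cfsg.Agent.KO213c67e.e81, Cfsg.Agent.KO213c67e.e82]; decide +kernel) | decide +kernel)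

theorem closed_gtP' {r : ℕ} (h : 23 ≤ r) (h' : r < 48) : closedB (gtP r) = true := by
  have h1 := closed_gtP
  rw [List.all_eq_true] at h1
  have h2 := h1 (r - 23) (List.mem_range.2 (by omega))
  rwa [Nat.add_sub_cancel' h] at h2

theorem xabove_eq (T : Two S a b) (r : ℕ) : (rootData T).xabove r = (RG (gtP r)).map S.φ := by
  unfold RootChain.RootData.xabove RG
  rw [MonoidHom.map_closure]
  congr 1
  ext g
  constructor
  · rintro ⟨q, h1, h2, rfl⟩
    exact ⟨x q, ⟨q, h2, decide_eq_true h1, rfl⟩, rfl⟩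
  · rintro ⟨_, ⟨q, h2, h1, rfl⟩, rfl⟩
    exact ⟨q, of_decide_eq_true h1, h2, rfl⟩

theorem triv_eq (T : Two S a b) : (rootData T).triv = ⊥ := by
  unfold RootChain.RootData.triv
  rw [Subgroup.closure_eq_bot_iff]
  rintro g ⟨q, -, -, h, -⟩
  exact absurd trivial h

theorem not_mem_xabove (T : Two S a b) {r : ℕ} (h : 24 ≤ r) (h' : r < 48) : (rootData T).x r ∉ (rootData T).xabove r := by
  rw [xabove_eq, rootData_x]
  intro h1
  obtain ⟨y, hy, hxy⟩ := h1
  have h2 := S.inj hxy
  rw [h2] at hy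
  have h3 := (x_mem_RG_iff (closed_gtP' (by omega) h') h').1 hy
  unfold gtP at h3
  rw [decide_eq_true_eq] at h3
  exact lt_irrefl _ h3

theorem hY (T : Two S a b) : ∀ r, 24 ≤ r → r < 48 → (rootData T).fr r → ∀ y ∈ (rootData T).triv,
    ∀ m ∈ (rootData T).xabove r, (rootData T).x r * m ≠ y := by
  intro r hr hr' _ y hy m hm h
  rw [triv_eq, Subgroup.mem_bot] at hy
  rw [hy] at h
  apply not_mem_xabove T hr hr'
  rw [eq_inv_of_mul_eq_one_left h]
  exact inv_mem hm

theorem hD (T : Two S a b) : ∀ y ∈ (rootData T).triv, ∀ g, g * (rootData T).t * g⁻¹ = (rootData T).t * y → y = 1 := by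
  intro y hy _ _
  rwa [triv_eq, Subgroup.mem_bot] at hy

theorem U_eq_gt : U = RG (gtP 23) := by
  rw [U_eq_RG]
  exact RG_congr fun r _ => rfl

theorem xabove_23 (T : Two S a b) : (rootData T).xabove 23 = U.map S.φ := by
  rw [xabove_eq, U_eq_gt]

theorem odd_relIndex (T : Two S a b) : Odd (((rootData T).xabove 23).relIndex S.φ.range) := by
  rw [xabove_23, MonoidHom.range_eq_map, Subgroup.relIndex_map_map_of_injective _ _ S.inj,
    Subgroup.relIndex_top_right]
  exact Cfsg.Agent.FourTwo.Perf.odd_index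

/-- **Case ALL, `C_G(t) = ⟨t⟩ × L`.** -/
theorem exists_sign_two [Finite G] (T : Two S a b) (hE : S.E1) : ∃ m : G →* ℤˣ, m S.t = -1 := by
  refine (rootData T).exists_sign S.φ.range ?_ ?_ ?_ (odd_relIndex T) (hY T) (hD T)
  · rintro ⟨l, hl⟩
    exact S.tne l hl.symm
  · intro r _ _
    exact ⟨x r, rfl⟩
  · intro g
    constructor
    · intro h
      obtain ⟨l, hl | hl⟩ := hE g h
      · exact Or.inl ⟨l, hl.symm⟩
      · refine Or.inr ⟨l, ?_⟩
        change S.φ l = S.t * g
        rw [hl, ← mul_assoc, S.tt, one_mul]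
    · rintro (⟨l, rfl⟩ | ⟨l, hl⟩)
      · exact S.comm' l
      · change S.φ l = S.t * g at hl
        have h1 : g = S.t * S.φ l := by rw [hl, ← mul_assoc, S.tt, one_mul]
        change g * S.t = S.t * g
        rw [h1]
        calc S.t * S.φ l * S.t = S.t * (S.φ l * S.t) := by group
          _ = _ := by rw [S.comm' l]

theorem exists_sign [Finite G] (S : Std G) (hE : S.E1) (α : LL ≃* LL) (hα : ∀ r < 48, α (x r) = x (bar r)) {a b : G}
    (ha : S.IsSplit a) (hb : (S.dual α hα).IsSplit b) : ∃ m : G →* ℤˣ, m S.t = -1 :=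
  exists_sign_two (two_of S α hα ha hb) hE

end Cfsg.Agent.F42.AllInst
end

private theorem dce_10529280a013 : _root_.True := by
  try have : _root_.True := by simp only [_root_.Cfsg.Agent.FourTwo.ZTwo.surv.eq_def]
  exact _root_.True.intro
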